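import Groth.Prelude.Def_HopfRep
import Groth.Prelude.Def_Hoch
import Mathlib.LinearAlgebra.TensorProduct.Basis
import Mathlib.LinearAlgebra.TensorProduct.Associator
import Mathlib.RingTheory.Finiteness.Basic
import Mathlib.LinearAlgebra.Basis.VectorSpace
import Mathlib.RingTheory.Flat.Basic
import Mathlib.Algebra.Exact.Basic
import Mathlib.RingTheory.Coalgebra.Hom
import Mathlib.LinearAlgebra.TensorProduct.RightExactness

/-!
# Basic API for comodules (`HopfRep.Comod`) — helper40
-/

set_option autoImplicit false
universe u v w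

open TensorProduct

namespace Groth.Agent.H40

section General

variable {k : Type u} [CommRing k] {C : Type v} [AddCommGroup C] [Module k C] [Coalgebra k C]
variable {V : Type w} [AddCommGroup V] [Module k V] [HopfRep.Comod k C V]

/-- The coaction, abbreviated. -/
noncomputable abbrev ρ (k : Type u) [CommRing k] (C : Type v) [AddCommGroup C] [Module k C] [Coalgebra k C]
    (V : Type w) [AddCommGroup V] [Module k V] [HopfRep.Comod k C V] : V →ₗ[k] V ⊗[k] C :=
  HopfRep.Comod.coact (k := k) (A := C)

/-- Contract the last tensor factor with a functional. -/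
noncomputable def contr (M : Type*) [AddCommGroup M] [Module k M] (f : C →ₗ[k] k) : M ⊗[k] C →ₗ[k] M :=
  (TensorProduct.rid k M).toLinearMap ∘ₗ f.lTensor M

omit [Coalgebra k C] in
@[simp] theorem contr_tmul (M : Type*) [AddCommGroup M] [Module k M] (f : C →ₗ[k] k) (m : M) (c : C) :
    contr M f (m ⊗ₜ c) = f c • m := by
  simp [contr]

theorem coassoc_apply (v : V) :
    (TensorProduct.assoc k V C C) ((ρ k C V).rTensor C (ρ k C V v)) =
      (CoalgebraStruct.comul (R := k) (A := C)).lTensor V (ρ k C V v) := by
  have h := LinearMap.congr_fun (HopfRep.Comod.coassoc (k := k) (A := C) (V := V)) v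
  simpa using h

theorem counit_apply (v : V) :
    (CoalgebraStruct.counit (R := k) (A := C)).lTensor V (ρ k C V v) = v ⊗ₜ[k] (1 : k) := by
  have h := LinearMap.congr_fun (HopfRep.Comod.counit_comp (k := k) (A := C) (V := V)) v
  simpa using h

theorem contr_counit_coact (v : V) :
    contr V (CoalgebraStruct.counit (R := k) (A := C)) (ρ k C V v) = v := by
  simp [contr, counit_apply]

theorem coact_comp_contr (f : C →ₗ[k] k) :
    ρ k C V ∘ₗ contr V f = contr (V ⊗[k] C) f ∘ₗ (ρ k C V).rTensor C := by
  ext m c
  simp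

omit [Coalgebra k C] [HopfRep.Comod k C V] in
theorem contr_comp_assoc_symm (f : C →ₗ[k] k) :
    contr (V ⊗[k] C) f ∘ₗ (TensorProduct.assoc k V C C).symm.toLinearMap =
      (contr C f).lTensor V := by
  ext m c c'
  simp [TensorProduct.tmul_smul]

/-- Key identity: coaction of a coefficient of `ρ v` is obtained from `ρ v` by a map on the
`C`-factor. -/
theorem coact_contr_coact (f : C →ₗ[k] k) (v : V) :
    ρ k C V (contr V f (ρ k C V v)) =
      ((contr C f) ∘ₗ (CoalgebraStruct.comul (R := k) (A := C))).lTensor V (ρ k C V v) := by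
  have h1 := LinearMap.congr_fun (coact_comp_contr (k := k) (C := C) (V := V) f) (ρ k C V v)
  simp only [LinearMap.comp_apply] at h1
  rw [h1]
  have h2 : (ρ k C V).rTensor C (ρ k C V v) =
      (TensorProduct.assoc k V C C).symm
        ((CoalgebraStruct.comul (R := k) (A := C)).lTensor V (ρ k C V v)) := by
    rw [← coassoc_apply, LinearEquiv.symm_apply_apply]
  rw [h2]
  have h3 := LinearMap.congr_fun (contr_comp_assoc_symm (k := k) (C := C) (V := V) f)
    ((CoalgebraStruct.comul (R := k) (A := C)).lTensor V (ρ k C V v))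
  simp only [LinearMap.comp_apply, LinearEquiv.coe_coe] at h3
  rw [h3, LinearMap.lTensor_comp, LinearMap.comp_apply]

omit [Coalgebra k C] [HopfRep.Comod k C V] in
/-- `lTensor` by a map on the coefficient side preserves `range (W.subtype.rTensor _)`. -/
theorem lTensor_mem_range_rTensor {C' : Type*} [AddCommGroup C'] [Module k C'] (W : Submodule k V)
    (T : C →ₗ[k] C') {x : V ⊗[k] C} (hx : x ∈ LinearMap.range (W.subtype.rTensor C)) :
    T.lTensor V x ∈ LinearMap.range (W.subtype.rTensor C') := by
  obtain ⟨y, rfl⟩ := hx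
  refine ⟨T.lTensor W y, ?_⟩
  have h : T.lTensor V ∘ₗ W.subtype.rTensor C = W.subtype.rTensor C' ∘ₗ T.lTensor W := by
    ext; simp
  exact (LinearMap.congr_fun h y).symm

omit [Coalgebra k C] [HopfRep.Comod k C V] in
theorem tmul_mem_range_rTensor (W : Submodule k V) {w : V} (hw : w ∈ W) (c : C) :
    w ⊗ₜ[k] c ∈ LinearMap.range (W.subtype.rTensor C) :=
  ⟨(⟨w, hw⟩ : W) ⊗ₜ c, by simp⟩

/-- A subcomodule spanned by a set: enough to check the generators. -/
theorem isSubcomod_span {s : Set V}
    (h : ∀ w ∈ s, ρ k C V w ∈ LinearMap.range ((Submodule.span k s).subtype.rTensor C)) :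
    HopfRep.IsSubcomod (k := k) (A := C) (Submodule.span k s) := by
  intro w hw
  induction hw using Submodule.span_induction with
  | mem x hx => exact h x hx
  | zero => simp
  | add x y _ _ hx hy => rw [map_add]; exact Submodule.add_mem _ hx hy
  | smul a x _ hx => rw [map_smul]; exact Submodule.smul_mem _ a hx

theorem isComodHom_iff {W : Type*} [AddCommGroup W] [Module k W] [HopfRep.Comod k C W]
    (f : V →ₗ[k] W) :
    Hoch.IsComodHom C f ↔ ∀ v, ρ k C W (f v) = f.rTensor C (ρ k C V v) := by
  unfold Hoch.IsComodHom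
  constructor
  · intro h v
    exact LinearMap.congr_fun h v
  · intro h
    ext v
    exact h v

theorem isComodHom_id : Hoch.IsComodHom C (LinearMap.id : V →ₗ[k] V) := by
  rw [isComodHom_iff]; intro v; simp

theorem isComodHom_smul {W : Type*} [AddCommGroup W] [Module k W] [HopfRep.Comod k C W]
    {f : V →ₗ[k] W} (hf : Hoch.IsComodHom C f) (a : k) : Hoch.IsComodHom C (a • f) := by
  rw [isComodHom_iff] at hf ⊢
  intro v
  rw [LinearMap.smul_apply, map_smul, hf, LinearMap.rTensor_smul, LinearMap.smul_apply]

theorem isComodHom_sub {W : Type*} [AddCommGroup W] [Module k W] [HopfRep.Comod k C W]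
    {f g : V →ₗ[k] W} (hf : Hoch.IsComodHom C f) (hg : Hoch.IsComodHom C g) :
    Hoch.IsComodHom C (f - g) := by
  rw [isComodHom_iff] at hf hg ⊢
  intro v
  rw [LinearMap.sub_apply, map_sub, hf, hg, LinearMap.rTensor_sub, LinearMap.sub_apply]

/-- The kernel of a comodule map is a subcomodule when `C` is flat. -/
theorem isSubcomod_ker [Module.Flat k C] {W : Type*} [AddCommGroup W] [Module k W]
    [HopfRep.Comod k C W] {f : V →ₗ[k] W} (hf : Hoch.IsComodHom C f) :
    HopfRep.IsSubcomod (k := k) (A := C) (LinearMap.ker f) := by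
  rw [isComodHom_iff] at hf
  intro w hw
  have hex := Module.Flat.rTensor_exact C (LinearMap.exact_subtype_ker_map f)
  rw [← LinearMap.exact_iff.mp hex, LinearMap.mem_ker, ← hf, LinearMap.mem_ker.mp hw, map_zero]

omit [Coalgebra k C] [HopfRep.Comod k C V] in
theorem range_rTensor_subtype_mono {W₁ W₂ : Submodule k V} (h : W₁ ≤ W₂) :
    LinearMap.range (W₁.subtype.rTensor C) ≤ LinearMap.range (W₂.subtype.rTensor C) := by
  have : W₁.subtype = W₂.subtype ∘ₗ Submodule.inclusion h := by ext; rfl
  rw [this, LinearMap.rTensor_comp]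
  exact LinearMap.range_comp_le_range _ _

theorem isSubcomod_iSup {ι : Sort*} {S : ι → Submodule k V}
    (h : ∀ i, HopfRep.IsSubcomod (k := k) (A := C) (S i)) :
    HopfRep.IsSubcomod (k := k) (A := C) (⨆ i, S i) := by
  intro w hw
  refine Submodule.iSup_induction S
    (motive := fun w => ρ k C V w ∈ LinearMap.range ((⨆ i, S i).subtype.rTensor C)) hw ?_ ?_ ?_
  · exact fun i x hx => range_rTensor_subtype_mono (le_iSup S i) (h i x hx)
  · simp
  · intro x y hx hy
    rw [map_add]; exact Submodule.add_mem _ hx hy

theorem isSubcomod_sSup {s : Set (Submodule k V)}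
    (h : ∀ a ∈ s, HopfRep.IsSubcomod (k := k) (A := C) a) :
    HopfRep.IsSubcomod (k := k) (A := C) (sSup s) := by
  rw [sSup_eq_iSup']
  exact isSubcomod_iSup fun a => h a.1 a.2

theorem isSubcomod_sup {W₁ W₂ : Submodule k V} (h₁ : HopfRep.IsSubcomod (k := k) (A := C) W₁)
    (h₂ : HopfRep.IsSubcomod (k := k) (A := C) W₂) :
    HopfRep.IsSubcomod (k := k) (A := C) (W₁ ⊔ W₂) := by
  rw [← sSup_pair]
  refine isSubcomod_sSup ?_
  rintro a (rfl | rfl)
  · exact h₁
  · exact h₂

theorem isSubcomod_bot : HopfRep.IsSubcomod (k := k) (A := C) (⊥ : Submodule k V) := by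
  intro w hw
  rw [(Submodule.mem_bot k).mp hw, map_zero]
  exact Submodule.zero_mem _

theorem isSubcomod_top : HopfRep.IsSubcomod (k := k) (A := C) (⊤ : Submodule k V) := by
  intro w _
  have h : LinearMap.range ((⊤ : Submodule k V).subtype.rTensor C) = ⊤ := by
    rw [LinearMap.range_eq_top]
    exact LinearMap.rTensor_surjective C (fun v => ⟨⟨v, trivial⟩, rfl⟩)
  rw [h]; trivial

end General

section Corestrict

variable {k : Type u} [CommRing k] {A : Type v} {B : Type*} [AddCommGroup A] [Module k A]
  [Coalgebra k A] [AddCommGroup B] [Module k B] [Coalgebra k B]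

/-- Push a `B`-comodule structure forward along a coalgebra map `f : B → A`. -/
@[reducible] noncomputable def comodOfCoalgHom (V : Type w) [AddCommGroup V] [Module k V]
    [HopfRep.Comod k B V] (f : B →ₗc[k] A) : HopfRep.Comod k A V where
  coact := f.toLinearMap.lTensor V ∘ₗ ρ k B V
  coassoc := by
    have nat : (TensorProduct.assoc k V A A).toLinearMap ∘ₗ
        TensorProduct.map (f.toLinearMap.lTensor V) f.toLinearMap =
        TensorProduct.map LinearMap.id (TensorProduct.map f.toLinearMap f.toLinearMap) ∘ₗ
          (TensorProduct.assoc k V B B).toLinearMap := by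
      ext v b b'
      simp
    ext v
    have hco := coassoc_apply (k := k) (C := B) v
    have hf := f.map_comp_comul
    simp only [LinearMap.comp_apply, LinearEquiv.coe_coe]
    have e1 : (LinearMap.rTensor A (f.toLinearMap.lTensor V ∘ₗ ρ k B V))
        ((f.toLinearMap.lTensor V) (ρ k B V v)) =
        TensorProduct.map (f.toLinearMap.lTensor V) f.toLinearMap
          ((ρ k B V).rTensor B (ρ k B V v)) := by
      have : (LinearMap.rTensor A (f.toLinearMap.lTensor V ∘ₗ ρ k B V)) ∘ₗ
          (f.toLinearMap.lTensor V) =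
          TensorProduct.map (f.toLinearMap.lTensor V) f.toLinearMap ∘ₗ (ρ k B V).rTensor B := by
        ext x b
        simp
      exact LinearMap.congr_fun this _
    rw [e1]
    have e2 := LinearMap.congr_fun nat ((ρ k B V).rTensor B (ρ k B V v))
    simp only [LinearMap.comp_apply, LinearEquiv.coe_coe] at e2
    rw [e2, hco]
    have e3 : TensorProduct.map LinearMap.id (TensorProduct.map f.toLinearMap f.toLinearMap) ∘ₗ
        (CoalgebraStruct.comul (R := k) (A := B)).lTensor V =
        (CoalgebraStruct.comul (R := k) (A := A)).lTensor V ∘ₗ f.toLinearMap.lTensor V := by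
      rw [← LinearMap.lTensor_comp, ← hf]
      ext x b
      simp
    exact LinearMap.congr_fun e3 _
  counit_comp := by
    ext v
    have hc := counit_apply (k := k) (C := B) v
    have hf := f.counit_comp
    simp only [LinearMap.comp_apply]
    rw [← LinearMap.comp_apply, ← LinearMap.lTensor_comp, hf]
    simpa using hc

theorem comodOfCoalgHom_coact (V : Type w) [AddCommGroup V] [Module k V]
    [HopfRep.Comod k B V] (f : B →ₗc[k] A) (v : V) :
    (comodOfCoalgHom V f).coact v = f.toLinearMap.lTensor V (ρ k B V v) := rfl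

omit [Coalgebra k A] in
/-- Membership in `range (W.subtype.rTensor A)` as a kernel condition. -/
theorem mem_range_rTensor_subtype_iff {V : Type w} [AddCommGroup V] [Module k V]
    (W : Submodule k V) (x : V ⊗[k] A) :
    x ∈ LinearMap.range (W.subtype.rTensor A) ↔ W.mkQ.rTensor A x = 0 := by
  have hex : Function.Exact (W.subtype.rTensor A) (W.mkQ.rTensor A) :=
    rTensor_exact A (LinearMap.exact_subtype_mkQ W) (Submodule.mkQ_surjective W)
  rw [← LinearMap.mem_ker, LinearMap.exact_iff.mp hex]

end Corestrict

section Field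

variable {k : Type u} [Field k] {C : Type v} [AddCommGroup C] [Module k C] [Coalgebra k C]
variable {V : Type w} [AddCommGroup V] [Module k V] [HopfRep.Comod k C V]

omit [Coalgebra k C] [HopfRep.Comod k C V] in
/-- Over a field: membership in `W ⊗ C` is checked on coefficients w.r.t. a basis of `C`. -/
theorem mem_range_rTensor_iff_coeff {κ : Type*} [DecidableEq κ] (b : Module.Basis κ k C) (W : Submodule k V)
    (x : V ⊗[k] C) :
    x ∈ LinearMap.range (W.subtype.rTensor C) ↔
      ∀ i, TensorProduct.equivFinsuppOfBasisRight b x i ∈ W := by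
  classical
  constructor
  · rintro ⟨y, rfl⟩ i
    induction y using TensorProduct.induction_on with
    | zero => simp
    | tmul w c =>
      simp only [LinearMap.rTensor_tmul, Submodule.subtype_apply,
        TensorProduct.equivFinsuppOfBasisRight_apply_tmul_apply]
      exact W.smul_mem _ w.2
    | add y z hy hz =>
      simp only [map_add, Finsupp.add_apply]
      exact W.add_mem hy hz
  · intro h
    have hx : x = (TensorProduct.equivFinsuppOfBasisRight b x).sum fun i m => m ⊗ₜ[k] b i := by
      have := TensorProduct.equivFinsuppOfBasisRight_symm_apply (M := V) b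
        (TensorProduct.equivFinsuppOfBasisRight b x)
      rw [← this]
      exact ((TensorProduct.equivFinsuppOfBasisRight b).symm_apply_apply _).symm
    rw [hx]
    exact Submodule.sum_mem _ fun i _ => tmul_mem_range_rTensor W (h i) _

theorem isSubcomod_inf {W₁ W₂ : Submodule k V} (h₁ : HopfRep.IsSubcomod (k := k) (A := C) W₁)
    (h₂ : HopfRep.IsSubcomod (k := k) (A := C) W₂) :
    HopfRep.IsSubcomod (k := k) (A := C) (W₁ ⊓ W₂) := by
  classical
  intro w hw
  have a₁ := h₁ w hw.1
  have a₂ := h₂ w hw.2
  rw [mem_range_rTensor_iff_coeff (Module.Basis.ofVectorSpace k C)] at a₁ a₂ ⊢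
  exact fun i => ⟨a₁ i, a₂ i⟩

/-- Local finiteness: every vector lies in a finite-dimensional subcomodule. -/
theorem exists_finite_subcomod_mem (v : V) :
    ∃ W : Submodule k V, Module.Finite k W ∧ v ∈ W ∧ HopfRep.IsSubcomod (k := k) (A := C) W := by
  classical
  let b := Module.Basis.ofVectorSpace k C
  let F := TensorProduct.equivFinsuppOfBasisRight (M := V) b
  let g := F (ρ k C V v)
  have hg : ρ k C V v = g.sum fun i m => m ⊗ₜ[k] b i := by
    have := TensorProduct.equivFinsuppOfBasisRight_symm_apply (M := V) b g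
    rw [← this]
    exact (F.symm_apply_apply _).symm
  let W := Submodule.span k (Set.range g)
  have hgW : ∀ i, g i ∈ W := fun i => Submodule.subset_span ⟨i, rfl⟩
  have hρv : ρ k C V v ∈ LinearMap.range (W.subtype.rTensor C) := by
    rw [hg]
    exact Submodule.sum_mem _ fun i _ => tmul_mem_range_rTensor W (hgW i) _
  have hgi : ∀ i, g i = contr V (b.coord i) (ρ k C V v) := by
    intro i
    rw [hg]
    simp only [Finsupp.sum, map_sum, contr_tmul, Module.Basis.coord_apply, Module.Basis.repr_self]
    rw [Finset.sum_eq_single i]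
    · simp
    · intro j _ hji
      simp [hji]
    · intro hi
      simp [Finsupp.notMem_support_iff.mp hi]
  refine ⟨W, Module.Finite.span_of_finite k g.finite_range, ?_, ?_⟩
  · rw [← contr_counit_coact (k := k) (C := C) v, hg]
    simp only [Finsupp.sum, map_sum, contr_tmul]
    exact Submodule.sum_mem _ fun i _ => Submodule.smul_mem _ _ (hgW i)
  · refine isSubcomod_span ?_
    rintro _ ⟨i, rfl⟩
    rw [hgi i, coact_contr_coact]
    exact lTensor_mem_range_rTensor W _ hρv

end Field

end Groth.Agent.H40
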