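import Groth.Agent.H40.Comod

/-!
# One-dimensional subcomodules give group-like elements — helper40
-/

set_option autoImplicit false
universe u v w

open TensorProduct

namespace Groth.Agent.H40

section Span

variable {k : Type u} [CommRing k] {A : Type v} [AddCommGroup A] [Module k A]
variable {V : Type w} [AddCommGroup V] [Module k V]

theorem exists_tmul_of_span_singleton (w : V)
    (t : (Submodule.span k {w} : Submodule k V) ⊗[k] A) :
    ∃ χ : A, t =
      (⟨w, Submodule.mem_span_singleton_self w⟩ : (Submodule.span k {w} : Submodule k V)) ⊗ₜ[k] χ := by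
  induction t using TensorProduct.induction_on with
  | zero => exact ⟨0, (TensorProduct.tmul_zero _ _).symm⟩
  | tmul x a =>
    obtain ⟨c, hc⟩ := Submodule.mem_span_singleton.mp x.2
    refine ⟨c • a, ?_⟩
    have hx : x = c • (⟨w, Submodule.mem_span_singleton_self w⟩ :
        (Submodule.span k {w} : Submodule k V)) := Subtype.ext hc.symm
    rw [hx, TensorProduct.smul_tmul]
  | add t1 t2 h1 h2 =>
    obtain ⟨χ1, rfl⟩ := h1
    obtain ⟨χ2, rfl⟩ := h2
    exact ⟨χ1 + χ2, (TensorProduct.tmul_add _ _ _).symm⟩

end Span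

section Field

variable {k : Type u} [Field k] {A : Type v} [AddCommGroup A] [Module k A] [Coalgebra k A]
variable {V : Type w} [AddCommGroup V] [Module k V] [HopfRep.Comod k A V]

/-- over a field, a nonzero vector has a functional taking the value `1` on it -/
theorem exists_dual_eq_one (w : V) (hw : w ≠ 0) : ∃ f : V →ₗ[k] k, f w = 1 := by
  have hinj : LinearMap.ker (LinearMap.toSpanSingleton k V w) = ⊥ := by
    rw [LinearMap.ker_eq_bot]
    intro a b hab
    simp only [LinearMap.toSpanSingleton_apply] at hab
    by_contra hne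
    have h1 : (a - b) • w = 0 := by rw [sub_smul, hab, sub_self]
    rcases smul_eq_zero.mp h1 with h | h
    · exact hne (sub_eq_zero.mp h)
    · exact hw h
  obtain ⟨f, hf⟩ := LinearMap.exists_leftInverse_of_injective (LinearMap.toSpanSingleton k V w) hinj
  refine ⟨f, ?_⟩
  have := LinearMap.congr_fun hf 1
  simpa using this

/-- A line `k w` which is a subcomodule: `w` is an eigenvector of a group-like element. -/
theorem exists_isGroupLikeElem_of_isSubcomod_span_singleton (w : V) (hw : w ≠ 0)
    (hsub : HopfRep.IsSubcomod (k := k) (A := A) (Submodule.span k {w})) :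
    ∃ χ : A, IsGroupLikeElem k χ ∧ HopfRep.Comod.coact (k := k) (A := A) w = w ⊗ₜ[k] χ := by
  obtain ⟨t, ht⟩ := hsub w (Submodule.mem_span_singleton_self w)
  obtain ⟨χ, rfl⟩ := exists_tmul_of_span_singleton w t
  have hρ : ρ k A V w = w ⊗ₜ[k] χ := by
    rw [← ht]; rfl
  obtain ⟨f, hfw⟩ := exists_dual_eq_one (k := k) w hw
  refine ⟨χ, ⟨?_, ?_⟩, hρ⟩
  · have h := contr_counit_coact (k := k) (C := A) w
    rw [hρ, contr_tmul] at h
    have h2 := congrArg f h
    rw [map_smul, hfw, smul_eq_mul, mul_one] at h2
    exact h2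
  · have h := coassoc_apply (k := k) (C := A) w
    rw [hρ, LinearMap.rTensor_tmul, hρ, TensorProduct.assoc_tmul, LinearMap.lTensor_tmul] at h
    have h2 := congrArg ((TensorProduct.lid k (A ⊗[k] A)).toLinearMap ∘ₗ f.rTensor (A ⊗[k] A)) h
    simp only [LinearMap.comp_apply, LinearMap.rTensor_tmul, hfw, LinearEquiv.coe_coe,
      TensorProduct.lid_tmul, one_smul] at h2
    exact h2.symm

end Field

end Groth.Agent.H40
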