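import Groth.Agent.H40.FlatDesc2
import Mathlib.AlgebraicGeometry.Sites.Fpqc
import Mathlib.AlgebraicGeometry.Noetherian

/-!
# Descending morphisms along effective epimorphisms (fppf / fpqc covers) in `Over S` — helper40
-/

set_option autoImplicit false
universe u

open CategoryTheory MonoidalCategory CartesianMonoidalCategory MonObj AlgebraicGeometry Limits

namespace Groth.Agent.H40.FpqcDesc

variable {S : Scheme.{u}}

/-- descend a morphism along a cover whose underlying morphism of schemes is an effective epi -/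
theorem exists_desc {T T' Z : Over S} (π : T' ⟶ T) [EffectiveEpi π.left] (ψ : T' ⟶ Z)
    (h : ∀ (W : Over S) (g₁ g₂ : W ⟶ T'), g₁ ≫ π = g₂ ≫ π → g₁ ≫ ψ = g₂ ≫ ψ) :
    ∃ f : T ⟶ Z, π ≫ f = ψ := by
  have key : ∀ {W : Scheme.{u}} (g₁ g₂ : W ⟶ T'.left), g₁ ≫ π.left = g₂ ≫ π.left →
      g₁ ≫ ψ.left = g₂ ≫ ψ.left := by
    intro W g₁ g₂ e
    have e2 : g₂ ≫ T'.hom = g₁ ≫ T'.hom := by
      rw [← Over.w π, ← Category.assoc, ← e, Category.assoc]
    have := h (Over.mk (g₁ ≫ T'.hom)) (Over.homMk g₁ rfl) (Over.homMk g₂ e2)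
      (Over.OverMorphism.ext (by simpa using e))
    simpa using congrArg (fun m => m.left) this
  have hepi : Epi π.left := inferInstance
  let fl : T.left ⟶ Z.left := EffectiveEpi.desc π.left ψ.left (fun g₁ g₂ e => key g₁ g₂ e)
  have hfl : π.left ≫ fl = ψ.left := EffectiveEpi.fac _ _ _
  have hw : fl ≫ Z.hom = T.hom := by
    rw [← cancel_epi π.left, ← Category.assoc, hfl, Over.w ψ, Over.w π]
  exact ⟨Over.homMk fl hw, Over.OverMorphism.ext (by simpa using hfl)⟩

/-- `π.left` epi implies `π` epi -/
theorem epi_of_epi_left {T T' : Over S} (π : T' ⟶ T) [Epi π.left] : Epi π :=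
  (Over.forget S).epi_of_epi_map (inferInstanceAs (Epi π.left))

/-- local factorization through a monomorphism descends -/
theorem exists_factor_of_local_factor_mono {X Y T T' : Over S} (f : X ⟶ Y) [Mono f]
    (x' : T ⟶ Y) (π : T' ⟶ T) [EffectiveEpi π.left] (y : T' ⟶ X) (e : y ≫ f = π ≫ x') :
    ∃ s : T ⟶ X, s ≫ f = x' := by
  obtain ⟨s, hs⟩ := exists_desc π y (fun W g₁ g₂ hg => by
    rw [← cancel_mono f, Category.assoc, Category.assoc, e, ← Category.assoc, hg, Category.assoc])
  haveI : Epi π.left := inferInstance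
  haveI := epi_of_epi_left π
  exact ⟨s, by rw [← cancel_epi π, ← Category.assoc, hs, e]⟩

variable {k : Type u} [Field k]

/-- morphisms between schemes locally of finite type over a field are locally of finite
presentation -/
theorem locallyOfFinitePresentation_left {X Y : Over (Spec (CommRingCat.of k))}
    [LocallyOfFiniteType X.hom] [LocallyOfFiniteType Y.hom] (f : X ⟶ Y) :
    LocallyOfFinitePresentation f.left := by
  haveI : IsLocallyNoetherian Y.left := LocallyOfFiniteType.isLocallyNoetherian Y.hom
  haveI : LocallyOfFiniteType (f.left ≫ Y.hom) := by rw [Over.w f]; infer_instance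
  haveI : LocallyOfFiniteType f.left := locallyOfFiniteType_of_comp f.left Y.hom
  infer_instance

/-- flat surjective morphisms between schemes locally of finite type over a field are effective
epimorphisms -/
theorem effectiveEpi_left {X Y : Over (Spec (CommRingCat.of k))}
    [LocallyOfFiniteType X.hom] [LocallyOfFiniteType Y.hom] (f : X ⟶ Y) [Flat f.left]
    [Surjective f.left] : EffectiveEpi f.left := by
  haveI := locallyOfFinitePresentation_left f
  infer_instance

end Groth.Agent.H40.FpqcDesc
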