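import Groth.Agent.H40.FpqcSub

/-!
# Torsors over a base given by a cartesian square `(act, snd, ψ, ψ)` — calculus on points (helper40)
-/

set_option autoImplicit false
universe u
open CategoryTheory CategoryTheory.Limits AlgebraicGeometry MonoidalCategory CartesianMonoidalCategory
open MonObj

namespace Groth.Agent.H40.FpqcFam

/-- a square is cartesian as soon as it is so on points. -/
theorem isPullback_of_pts {C : Type*} [Category C] {P₀ X₀ Y₀ Z₀ : C} {p₁ : P₀ ⟶ X₀} {p₂ : P₀ ⟶ Y₀}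
    {f : X₀ ⟶ Z₀} {g : Y₀ ⟶ Z₀} (w : p₁ ≫ f = p₂ ≫ g)
    (h : ∀ (T : C) (x : T ⟶ X₀) (y : T ⟶ Y₀), x ≫ f = y ≫ g →
      ∃! p : T ⟶ P₀, p ≫ p₁ = x ∧ p ≫ p₂ = y) : IsPullback p₁ p₂ f g :=
  ⟨⟨w⟩, ⟨PullbackCone.IsLimit.mk w (fun s => (h _ s.fst s.snd s.condition).choose)
    (fun s => (h _ s.fst s.snd s.condition).choose_spec.1.1)
    (fun s => (h _ s.fst s.snd s.condition).choose_spec.1.2)
    (fun s m h1 h2 => (h _ s.fst s.snd s.condition).choose_spec.2 m ⟨h1, h2⟩)⟩⟩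

variable {S : Scheme.{u}} {G X Y : Over S} [GrpObj G] {a : AlgGrp.Action G X} {ψ : X ⟶ Y}

theorem sq_inv (hsq : IsPullback a.act (snd G X) ψ ψ) {T : Over S} (g : T ⟶ G) (x : T ⟶ X) :
    (lift g x ≫ a.act) ≫ ψ = x ≫ ψ := by
  rw [Category.assoc, hsq.w, lift_snd_assoc]

theorem sq_free (hsq : IsPullback a.act (snd G X) ψ ψ) {T : Over S} (g g' : T ⟶ G) (x : T ⟶ X)
    (e : lift g x ≫ a.act = lift g' x ≫ a.act) : g = g' := by
  have : lift g x = lift g' x := by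
    apply hsq.hom_ext
    · exact e
    · rw [lift_snd, lift_snd]
  have := congrArg (fun m => m ≫ fst G X) this
  simpa using this

theorem sq_exists (hsq : IsPullback a.act (snd G X) ψ ψ) {T : Over S} (x x' : T ⟶ X)
    (e : x ≫ ψ = x' ≫ ψ) : ∃ g : T ⟶ G, lift g x' ≫ a.act = x := by
  refine ⟨hsq.lift x x' e ≫ fst G X, ?_⟩
  have hw : hsq.lift x x' e = lift (hsq.lift x x' e ≫ fst G X) x' := by
    apply CartesianMonoidalCategory.hom_ext
    · rw [lift_fst]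
    · rw [lift_snd, hsq.lift_snd]
  rw [← hw, hsq.lift_fst]

theorem isPullback_of_free_trans (w : ∀ (T : Over S) (g : T ⟶ G) (x : T ⟶ X),
      (lift g x ≫ a.act) ≫ ψ = x ≫ ψ)
    (hex : ∀ (T : Over S) (x x' : T ⟶ X), x ≫ ψ = x' ≫ ψ → ∃ g : T ⟶ G, lift g x' ≫ a.act = x)
    (hfree : ∀ (T : Over S) (g g' : T ⟶ G) (x : T ⟶ X),
      lift g x ≫ a.act = lift g' x ≫ a.act → g = g') :
    IsPullback a.act (snd G X) ψ ψ := by
  refine isPullback_of_pts ?_ ?_
  · apply AlgGrp.Action.hom_ext_lift₂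
    intro T g x
    rw [← Category.assoc, w, lift_snd_assoc]
  · intro T x x' e
    obtain ⟨g, hg⟩ := hex T x x' e
    refine ⟨lift g x', ⟨hg, lift_snd _ _⟩, ?_⟩
    rintro p ⟨hp1, hp2⟩
    have hp : p = lift (p ≫ fst G X) x' := by
      apply CartesianMonoidalCategory.hom_ext
      · rw [lift_fst]
      · rw [lift_snd, hp2]
    rw [hp]
    congr 1
    apply hfree T _ _ x'
    rw [← hp, hp1, hg]

end Groth.Agent.H40.FpqcFam
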