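import Groth.Agent.H40.MaxOpen
import Groth.Agent.H40.TorsorSq

/-!
# Translation argument for the largest open over which a homomorphism has an fpqc-local property (helper40)
-/

set_option autoImplicit false
universe u
open CategoryTheory CategoryTheory.Limits AlgebraicGeometry MorphismProperty MonoidalCategory
  CartesianMonoidalCategory MonObj

namespace Groth.Agent.H40.MaxOpen

variable {P : MorphismProperty Scheme.{u}} [P.IsStableUnderBaseChange] [IsZariskiLocalAtTarget P]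
  [P.DescendsAlong (@Flat ⊓ @Surjective ⊓ @QuasiCompact)]

/-- if `b` is the base change of `f` along `c₁` and also along `c₂` (flat, open), and `W` is the largest open over
which `f` has `P`, then `c₁ ζ ∈ W → c₂ ζ ∈ W`. -/
theorem mem_of_mem {X Y B A : Scheme.{u}} {f : X ⟶ Y} {b : A ⟶ B} {a₁ a₂ : A ⟶ X} {c₁ c₂ : B ⟶ Y}
    (sq₁ : IsPullback a₁ b f c₁) (sq₂ : IsPullback a₂ b f c₂) [Flat c₂] (hc₂ : IsOpenMap c₂.base)
    (W : Y.Opens) (hW : P (f ∣_ W)) (hmax : ∀ W' : Y.Opens, P (f ∣_ W') → W' ≤ W) (ζ : B)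
    (hζ : c₁.base ζ ∈ W) : c₂.base ζ ∈ W := by
  have h0 : P (pullback.snd f W.ι) := (restrict_iff f W).mp hW
  have hA : P (pullback.snd f ((c₁ ⁻¹ᵁ W).ι ≫ c₁)) := by
    rw [← morphismRestrict_ι]
    exact bc_comp h0 (c₁ ∣_ W)
  have hB : P (pullback.snd b (c₁ ⁻¹ᵁ W).ι) := (bc_comp_iff sq₁ _).mpr hA
  have hC : P (pullback.snd f ((c₁ ⁻¹ᵁ W).ι ≫ c₂)) := (bc_comp_iff sq₂ _).mp hB
  have hopen : IsOpenMap ((c₁ ⁻¹ᵁ W).ι ≫ c₂).base := by
    rw [Scheme.Hom.comp_base]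
    exact hc₂.comp (c₁ ⁻¹ᵁ W).ι.isOpenEmbedding.isOpenMap
  have hD : P (f ∣_ (⟨c₂.base '' ((c₁ ⁻¹ᵁ W : B.Opens) : Set B), hc₂ _ (c₁ ⁻¹ᵁ W).2⟩ : Y.Opens)) := by
    refine restrict_of_flat_open ((c₁ ⁻¹ᵁ W).ι ≫ c₂) hopen hC _ ?_
    rintro _ ⟨y, hy, rfl⟩
    exact ⟨⟨y, hy⟩, rfl⟩
  exact hmax _ hD ⟨ζ, hζ, rfl⟩

variable {S : Scheme.{u}} {G H : Over S} [GrpObj G] [GrpObj H] (u : G ⟶ H) [IsMonHom u]

theorem sq_snd : IsPullback (snd G G) (G ◁ u) u (snd G H) := by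
  refine Groth.Agent.H40.FpqcFam.isPullback_of_pts (whiskerLeft_snd _ _).symm ?_
  intro T x y hxy
  refine ⟨lift (y ≫ fst G H) x, ⟨lift_snd _ _, ?_⟩, ?_⟩
  · rw [lift_whiskerLeft, hxy]
    apply CartesianMonoidalCategory.hom_ext
    · rw [lift_fst]
    · rw [lift_snd]
  · rintro q ⟨hq1, hq2⟩
    apply CartesianMonoidalCategory.hom_ext
    · rw [lift_fst, ← hq2, Category.assoc, whiskerLeft_fst]
    · rw [lift_snd, hq1]

theorem sq_mul : IsPullback μ[G] (G ◁ u) u ((u ▷ H) ≫ μ[H]) := by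
  refine Groth.Agent.H40.FpqcFam.isPullback_of_pts ?_ ?_
  · apply AlgGrp.Action.hom_ext_lift₂
    intro T g g'
    rw [← Category.assoc, ← Hom.mul_def, MonObj.mul_comp, lift_whiskerLeft_assoc,
      lift_whiskerRight_assoc, ← Hom.mul_def]
  · intro T x y hxy
    have hy : y = lift (y ≫ fst G H) (y ≫ snd G H) := by
      apply CartesianMonoidalCategory.hom_ext
      · rw [lift_fst]
      · rw [lift_snd]
    have hxy' : x ≫ u = ((y ≫ fst G H) ≫ u) * (y ≫ snd G H) := by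
      rw [hxy, Hom.mul_def, ← lift_whiskerRight_assoc, ← hy]
    refine ⟨lift (y ≫ fst G H) ((y ≫ fst G H)⁻¹ * x), ⟨?_, ?_⟩, ?_⟩
    · rw [← Hom.mul_def]
      group
    · rw [lift_whiskerLeft, MonObj.mul_comp, GrpObj.inv_comp, hxy']
      rw [hy]
      congr 1
      · rw [lift_fst]
      · rw [lift_fst, lift_snd]
        group
    · rintro q ⟨hq1, hq2⟩
      have hqf : q ≫ fst G G = y ≫ fst G H := by
        rw [← hq2, Category.assoc, whiskerLeft_fst]
      have hqm : (q ≫ fst G G) * (q ≫ snd G G) = x := by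
        rw [Hom.mul_def, ← hq1]
        congr 1
        apply CartesianMonoidalCategory.hom_ext
        · rw [lift_fst]
        · rw [lift_snd]
      apply CartesianMonoidalCategory.hom_ext
      · rw [lift_fst, hqf]
      · rw [lift_snd, ← hqm, hqf]
        group

theorem sq_prod : IsPullback (fst G H) ((u ▷ H) ≫ μ[H]) (toUnit G) (toUnit H) := by
  refine Groth.Agent.H40.FpqcFam.isPullback_of_pts (toUnit_unique _ _) ?_
  intro T x y _
  refine ⟨lift x ((x ≫ u)⁻¹ * y), ⟨lift_fst _ _, ?_⟩, ?_⟩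
  · rw [lift_whiskerRight_assoc, ← Hom.mul_def]
    group
  · rintro q ⟨hq1, hq2⟩
    have hq : q = lift (q ≫ fst G H) (q ≫ snd G H) := by
      apply CartesianMonoidalCategory.hom_ext
      · rw [lift_fst]
      · rw [lift_snd]
    have hqm : ((q ≫ fst G H) ≫ u) * (q ≫ snd G H) = y := by
      rw [Hom.mul_def, ← lift_whiskerRight_assoc, ← hq, hq2]
    apply CartesianMonoidalCategory.hom_ext
    · rw [lift_fst, hq1]
    · rw [lift_snd, ← hqm, hq1]
      group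

end Groth.Agent.H40.MaxOpen
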