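import Mathlib.AlgebraicGeometry.Group.Abelian
import Mathlib.CategoryTheory.Monoidal.Cartesian.Grp
import Mathlib.GroupTheory.Commutator.Basic
import Mathlib.CategoryTheory.Monoidal.Cartesian.Over
import Mathlib.GroupTheory.Solvable
import Mathlib.GroupTheory.Nilpotent
import Mathlib.AlgebraicGeometry.Morphisms.Flat
import Mathlib.AlgebraicGeometry.Morphisms.UnderlyingMap

/-!
# Point functors of group schemes: derived and central series under flat surjective maps — helper40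

For a flat surjective homomorphism `q : G ⟶ Q` of group objects in `Over S`, every `T`-point of `Q`
lifts to `G` after a flat surjective base change `T' ⟶ T`; flat surjective maps are epimorphisms.
This gives: `derivedSeries (T ⟶ Q) n` and the lower central series of `Q(T)` are "locally" images of
those of `G`.
-/

set_option autoImplicit false
universe u

open CategoryTheory MonoidalCategory CartesianMonoidalCategory MonObj AlgebraicGeometry Limits
open scoped commutatorElement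

namespace Groth.Agent.H40.GrpFun

noncomputable section

section General

variable {C : Type*} [Category C] [CartesianMonoidalCategory C]

/-- post-composition with a homomorphism of group objects -/
def post {G H : C} [GrpObj G] [GrpObj H] (f : G ⟶ H) [IsMonHom f] (T : C) :
    (T ⟶ G) →* (T ⟶ H) :=
  MonoidHom.mk' (fun a => a ≫ f) (fun a b => MonObj.mul_comp a b f)

@[simp] theorem post_apply {G H : C} [GrpObj G] [GrpObj H] (f : G ⟶ H) [IsMonHom f] (T : C)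
    (a : T ⟶ G) : post f T a = a ≫ f := rfl

/-- pre-composition -/
def pre {G : C} [GrpObj G] {T T' : C} (p : T' ⟶ T) : (T ⟶ G) →* (T' ⟶ G) :=
  MonoidHom.mk' (fun a => p ≫ a) (fun a b => MonObj.comp_mul p a b)

@[simp] theorem pre_apply {G : C} [GrpObj G] {T T' : C} (p : T' ⟶ T) (a : T ⟶ G) :
    pre p a = p ≫ a := rfl

end General

variable {S : Scheme.{u}}

/-- flat surjective maps in `Over S` -/
def IsCov {T' T : Over S} (p : T' ⟶ T) : Prop := Flat p.left ∧ Surjective p.left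

theorem IsCov.epi {T' T : Over S} {p : T' ⟶ T} (hp : IsCov p) : Epi p := by
  obtain ⟨h1, h2⟩ := hp
  have : Epi p.left := Flat.epi_of_flat_of_surjective p.left
  exact (Over.forget S).epi_of_epi_map this

theorem isCov_id (T : Over S) : IsCov (𝟙 T) := by
  refine ⟨?_, ?_⟩
  · change Flat (𝟙 T.left); infer_instance
  · change Surjective (𝟙 T.left); infer_instance

theorem isCov_pullback_fst {X Y Z : Over S} (f : X ⟶ Z) (g : Y ⟶ Z) (hg : IsCov g) :
    IsCov (pullback.fst f g) := by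
  obtain ⟨h1, h2⟩ := hg
  have hpb : IsPullback (pullback.fst f g) (pullback.snd f g) f g := IsPullback.of_hasPullback _ _
  have hpb' := hpb.map (Over.forget S)
  have hg1 : Flat ((Over.forget S).map g) := h1
  have hg2 : Surjective ((Over.forget S).map g) := h2
  exact ⟨MorphismProperty.of_isPullback (P := @Flat) hpb'.flip hg1,
    MorphismProperty.of_isPullback (P := @Surjective) hpb'.flip hg2⟩

theorem IsCov.comp {T₁ T₂ T₃ : Over S} {p : T₁ ⟶ T₂} {p' : T₂ ⟶ T₃} (hp : IsCov p)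
    (hp' : IsCov p') : IsCov (p ≫ p') := by
  obtain ⟨h1, h2⟩ := hp
  obtain ⟨h1', h2'⟩ := hp'
  refine ⟨?_, ?_⟩
  · rw [Over.comp_left]; infer_instance
  · rw [Over.comp_left]; infer_instance

theorem exists_common_refinement {T T₁ T₂ : Over S} (p₁ : T₁ ⟶ T) (p₂ : T₂ ⟶ T) (h₁ : IsCov p₁)
    (h₂ : IsCov p₂) :
    ∃ (T₃ : Over S) (r₁ : T₃ ⟶ T₁) (r₂ : T₃ ⟶ T₂), r₁ ≫ p₁ = r₂ ≫ p₂ ∧ IsCov (r₁ ≫ p₁) :=
  ⟨pullback p₁ p₂, pullback.fst p₁ p₂, pullback.snd p₁ p₂, pullback.condition,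
    (isCov_pullback_fst p₁ p₂ h₂).comp h₁⟩

theorem exists_local_lift {G Q T : Over S} (q : G ⟶ Q) (hq : IsCov q) (x : T ⟶ Q) :
    ∃ (T' : Over S) (p : T' ⟶ T) (y : T' ⟶ G), IsCov p ∧ y ≫ q = p ≫ x :=
  ⟨pullback x q, pullback.fst x q, pullback.snd x q, isCov_pullback_fst x q hq,
    pullback.condition.symm⟩

/-- a subgroup functor of the functor of points -/
structure SubFun (G : Over S) [GrpObj G] where
  /-- the subgroups -/
  A : ∀ T : Over S, Subgroup (T ⟶ G)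
  /-- stability under pullback -/
  stable : ∀ {T T' : Over S} (f : T' ⟶ T) (y : T ⟶ G), y ∈ A T → f ≫ y ∈ A T'

variable {G Q : Over S} [GrpObj G] [GrpObj Q]

/-- the whole functor of points -/
def SubFun.top (G : Over S) [GrpObj G] : SubFun G where
  A _ := ⊤
  stable _ _ _ := Subgroup.mem_top _

/-- the derived series -/
def SubFun.derived (G : Over S) [GrpObj G] (n : ℕ) : SubFun G where
  A T := derivedSeries (T ⟶ G) n
  stable f y hy :=
    map_derivedSeries_le_derivedSeries (pre f) n (Subgroup.mem_map_of_mem (pre f) hy)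

/-- the lower central series -/
def SubFun.lcs (G : Over S) [GrpObj G] (n : ℕ) : SubFun G where
  A T := (⊤ : Subgroup (T ⟶ G)).lowerCentralSeries n
  stable f y hy := by
    have h1 : pre f y ∈ ((⊤ : Subgroup (_ ⟶ G)).lowerCentralSeries n).map (pre f) :=
      Subgroup.mem_map_of_mem (pre f) hy
    rw [Subgroup.map_lowerCentralSeries] at h1
    exact Subgroup.lowerCentralSeries_mono n le_top h1

/-- the local image of a subgroup functor under `q` -/
def locIm (q : G ⟶ Q) [IsMonHom q] (𝒜 : SubFun G) (T : Over S) : Subgroup (T ⟶ Q) where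
  carrier := {x | ∃ (T' : Over S) (p : T' ⟶ T) (y : T' ⟶ G), IsCov p ∧ y ∈ 𝒜.A T' ∧ y ≫ q = p ≫ x}
  one_mem' := ⟨T, 𝟙 T, 1, isCov_id T, one_mem _, by rw [MonObj.one_comp, MonObj.comp_one]⟩
  mul_mem' := by
    rintro a b ⟨T₁, p₁, y₁, h₁, hy₁, e₁⟩ ⟨T₂, p₂, y₂, h₂, hy₂, e₂⟩
    obtain ⟨T₃, r₁, r₂, hr, hcov⟩ := exists_common_refinement p₁ p₂ h₁ h₂
    refine ⟨T₃, r₁ ≫ p₁, (r₁ ≫ y₁) * (r₂ ≫ y₂), hcov,
      mul_mem (𝒜.stable r₁ y₁ hy₁) (𝒜.stable r₂ y₂ hy₂), ?_⟩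
    have hr' : r₂ ≫ p₂ ≫ b = r₁ ≫ p₁ ≫ b := by rw [← Category.assoc, ← hr, Category.assoc]
    rw [MonObj.mul_comp, MonObj.comp_mul, Category.assoc, Category.assoc, e₁, e₂, hr',
      Category.assoc, Category.assoc]
  inv_mem' := by
    rintro a ⟨T₁, p₁, y₁, h₁, hy₁, e₁⟩
    exact ⟨T₁, p₁, y₁⁻¹, h₁, inv_mem hy₁, by rw [GrpObj.inv_comp, e₁, GrpObj.comp_inv]⟩

theorem mem_locIm (q : G ⟶ Q) [IsMonHom q] (𝒜 : SubFun G) (T : Over S) (x : T ⟶ Q) :
    x ∈ locIm q 𝒜 T ↔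
      ∃ (T' : Over S) (p : T' ⟶ T) (y : T' ⟶ G), IsCov p ∧ y ∈ 𝒜.A T' ∧ y ≫ q = p ≫ x :=
  Iff.rfl

theorem locIm_eq_bot (q : G ⟶ Q) [IsMonHom q] (𝒜 : SubFun G) (h : ∀ T, 𝒜.A T = ⊥)
    (T : Over S) : locIm q 𝒜 T = ⊥ := by
  rw [eq_bot_iff]
  rintro x ⟨T', p, y, hp, hy, e⟩
  rw [h T', Subgroup.mem_bot] at hy
  rw [hy, MonObj.one_comp] at e
  haveI := hp.epi
  rw [Subgroup.mem_bot, ← cancel_epi p, ← e, MonObj.comp_one]

theorem commutator_mem_locIm (q : G ⟶ Q) [IsMonHom q] (𝒜 ℬ 𝒞 : SubFun G)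
    (h𝒞 : ∀ (T : Over S) (y₁ y₂ : T ⟶ G), y₁ ∈ 𝒜.A T → y₂ ∈ ℬ.A T → ⁅y₁, y₂⁆ ∈ 𝒞.A T)
    {T : Over S} {a b : T ⟶ Q} (ha : a ∈ locIm q 𝒜 T) (hb : b ∈ locIm q ℬ T) :
    ⁅a, b⁆ ∈ locIm q 𝒞 T := by
  obtain ⟨T₁, p₁, y₁, h₁, hy₁, e₁⟩ := ha
  obtain ⟨T₂, p₂, y₂, h₂, hy₂, e₂⟩ := hb
  obtain ⟨T₃, r₁, r₂, hr, hcov⟩ := exists_common_refinement p₁ p₂ h₁ h₂
  refine ⟨T₃, r₁ ≫ p₁, ⁅r₁ ≫ y₁, r₂ ≫ y₂⁆, hcov,
    h𝒞 T₃ _ _ (𝒜.stable r₁ y₁ hy₁) (ℬ.stable r₂ y₂ hy₂), ?_⟩
  have hr' : r₂ ≫ p₂ ≫ b = (r₁ ≫ p₁) ≫ b := by rw [← Category.assoc, ← hr]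
  have e3 : ⁅r₁ ≫ y₁, r₂ ≫ y₂⁆ ≫ q = ⁅(r₁ ≫ y₁) ≫ q, (r₂ ≫ y₂) ≫ q⁆ :=
    map_commutatorElement (post q T₃) _ _
  have e4 : (r₁ ≫ p₁) ≫ ⁅a, b⁆ = ⁅(r₁ ≫ p₁) ≫ a, (r₁ ≫ p₁) ≫ b⁆ :=
    map_commutatorElement (pre (r₁ ≫ p₁)) a b
  rw [e3, e4, Category.assoc, Category.assoc, e₁, e₂, hr']
  simp only [Category.assoc]

theorem derivedSeries_le_locIm (q : G ⟶ Q) [IsMonHom q] (hq : IsCov q) (n : ℕ) (T : Over S) :
    derivedSeries (T ⟶ Q) n ≤ locIm q (SubFun.derived G n) T := by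
  induction n with
  | zero =>
    intro x _
    obtain ⟨T', p, y, hp, e⟩ := exists_local_lift q hq x
    exact ⟨T', p, y, hp, Subgroup.mem_top _, e⟩
  | succ n ih =>
    rw [derivedSeries_succ]
    refine (Subgroup.commutator_mono ih ih).trans ?_
    rw [Subgroup.commutator_le]
    intro a ha b hb
    exact commutator_mem_locIm q _ _ _
      (fun T y₁ y₂ h1 h2 => Subgroup.commutator_mem_commutator h1 h2) ha hb

theorem lowerCentralSeries_le_locIm (q : G ⟶ Q) [IsMonHom q] (hq : IsCov q) (n : ℕ)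
    (T : Over S) :
    (⊤ : Subgroup (T ⟶ Q)).lowerCentralSeries n ≤ locIm q (SubFun.lcs G n) T := by
  induction n with
  | zero =>
    intro x _
    obtain ⟨T', p, y, hp, e⟩ := exists_local_lift q hq x
    exact ⟨T', p, y, hp, Subgroup.mem_top _, e⟩
  | succ n ih =>
    rw [Subgroup.lowerCentralSeries_succ]
    have htop : (⊤ : Subgroup (T ⟶ Q)) ≤ locIm q (SubFun.top G) T := by
      intro x _
      obtain ⟨T', p, y, hp, e⟩ := exists_local_lift q hq x
      exact ⟨T', p, y, hp, Subgroup.mem_top _, e⟩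
    refine (Subgroup.commutator_mono ih htop).trans ?_
    rw [Subgroup.commutator_le]
    intro a ha b hb
    exact commutator_mem_locIm q _ _ _
      (fun T y₁ y₂ h1 h2 => Subgroup.commutator_mem_commutator h1 h2) ha hb

/-- quantitative version of `isSolvable_of_ker_le_range` -/
theorem derivedSeries_eq_bot_of_ker_le_range {G₀ G' G'' : Type*} [Group G₀] [Group G']
    [Group G''] (f : G' →* G₀) (g : G₀ →* G'') (hfg : g.ker ≤ f.range) {n m : ℕ}
    (hn : derivedSeries G'' n = ⊥) (hm : derivedSeries G' m = ⊥) :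
    derivedSeries G₀ (n + m) = ⊥ := by
  refine le_bot_iff.mp (Subgroup.map_bot f ▸ hm ▸ ?_)
  clear hm
  induction m with
  | zero =>
    exact f.range_eq_map ▸ ((derivedSeries G₀ n).map_eq_bot_iff.mp
      (le_bot_iff.mp ((map_derivedSeries_le_derivedSeries g n).trans hn.le))).trans hfg
  | succ m hm => exact Subgroup.commutator_le_map_commutator hm hm

/-- kernel of post-composition with `q` is the image of post-composition with a kernel `i` -/
theorem ker_post_le_range_post {N G Q : Over S} [GrpObj N] [GrpObj G] [GrpObj Q] (i : N ⟶ G)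
    [IsMonHom i] (q : G ⟶ Q) [IsMonHom q] (h : IsPullback i (toUnit N) q η[Q]) (T : Over S) :
    (post q T).ker ≤ (post i T).range := by
  intro x hx
  rw [MonoidHom.mem_ker, post_apply] at hx
  have hx' : x ≫ q = toUnit T ≫ η[Q] := by rw [hx]; exact Hom.one_def
  exact ⟨h.lift x (toUnit T) hx', h.lift_fst _ _ _⟩

end

end Groth.Agent.H40.GrpFun
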