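import Mathlib.AlgebraicGeometry.Group.Abelian
import Mathlib.CategoryTheory.Monoidal.Cartesian.Over
import Mathlib.CategoryTheory.Monoidal.Cartesian.Grp
import Mathlib.AlgebraicGeometry.Morphisms.ClosedImmersion

/-!
# Group schemes over a field: morphisms agreeing on a "dense" family of points — helper40
-/

set_option autoImplicit false
universe u

open CategoryTheory MonoidalCategory CartesianMonoidalCategory MonObj AlgebraicGeometry Limits

namespace Groth.Agent.H40.GrpPts

variable {k : Type u} [Field k]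

/-- base change of a closed immersion in `Over S` -/
theorem isClosedImmersion_pullback_fst {S : Scheme.{u}} {X Y Z : Over S} (f : X ⟶ Z) (g : Y ⟶ Z)
    [IsClosedImmersion g.left] : IsClosedImmersion (pullback.fst f g).left := by
  have hpb : IsPullback (pullback.fst f g) (pullback.snd f g) f g := IsPullback.of_hasPullback _ _
  have hpb' := hpb.map (Over.forget S)
  have hg : IsClosedImmersion ((Over.forget S).map g) := inferInstanceAs (IsClosedImmersion g.left)
  exact MorphismProperty.of_isPullback (P := @IsClosedImmersion) hpb'.flip hg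

/-- If every closed subscheme of `H` through which all `T`-points factor is everything, then two
morphisms from `H` to a `k`-group scheme agreeing on `T`-points are equal. -/
theorem eq_of_eq_on_points {G H T : Over (Spec (CommRingCat.of k))} [GrpObj G]
    (hd : ∀ (Z : Over (Spec (CommRingCat.of k))) (c : Z ⟶ H), IsClosedImmersion c.left →
      (∀ h : T ⟶ H, ∃ z : T ⟶ Z, z ≫ c = h) → IsIso c)
    (φ₁ φ₂ : H ⟶ G) (h : ∀ p : T ⟶ H, p ≫ φ₁ = p ≫ φ₂) : φ₁ = φ₂ := by
  have hc : IsClosedImmersion (pullback.fst (φ₁ * φ₂⁻¹) η[G]).left :=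
    isClosedImmersion_pullback_fst _ _
  have hiso : IsIso (pullback.fst (φ₁ * φ₂⁻¹) η[G]) := by
    apply hd _ _ hc
    intro p
    refine ⟨pullback.lift p (toUnit T) ?_, pullback.lift_fst _ _ _⟩
    rw [MonObj.comp_mul, GrpObj.comp_inv, h p, mul_inv_cancel, Hom.one_def]
  have h1 : φ₁ * φ₂⁻¹ = 1 := by
    have hcond := pullback.condition (f := φ₁ * φ₂⁻¹) (g := η[G])
    have h2 : φ₁ * φ₂⁻¹ = inv (pullback.fst (φ₁ * φ₂⁻¹) η[G]) ≫
        pullback.snd (φ₁ * φ₂⁻¹) η[G] ≫ η[G] := by
      rw [← hcond, IsIso.inv_hom_id_assoc]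
    rw [h2, ← Category.assoc, toUnit_unique (inv _ ≫ pullback.snd _ _) (toUnit H), Hom.one_def]
  exact mul_inv_eq_one.mp h1

/-- If every closed subscheme of `H` through which all `T`-points factor is everything, then a
morphism from `H` to `G` whose `T`-points land in a closed subobject `i` factors through `i`. -/
theorem exists_factor_of_points {G H N T : Over (Spec (CommRingCat.of k))}
    (hd : ∀ (Z : Over (Spec (CommRingCat.of k))) (c : Z ⟶ H), IsClosedImmersion c.left →
      (∀ h : T ⟶ H, ∃ z : T ⟶ Z, z ≫ c = h) → IsIso c)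
    (i : N ⟶ G) [IsClosedImmersion i.left] (φ : H ⟶ G)
    (h : ∀ p : T ⟶ H, ∃ n : T ⟶ N, p ≫ φ = n ≫ i) : ∃ ψ : H ⟶ N, φ = ψ ≫ i := by
  have hc : IsClosedImmersion (pullback.fst φ i).left := isClosedImmersion_pullback_fst _ _
  have hiso : IsIso (pullback.fst φ i) := by
    apply hd _ _ hc
    intro p
    obtain ⟨n, hn⟩ := h p
    exact ⟨pullback.lift p n hn, pullback.lift_fst _ _ _⟩
  refine ⟨inv (pullback.fst φ i) ≫ pullback.snd φ i, ?_⟩
  rw [Category.assoc, ← pullback.condition, IsIso.inv_hom_id_assoc]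

end Groth.Agent.H40.GrpPts
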