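import Mathlib.AlgebraicGeometry.Morphisms.Flat
import Mathlib.AlgebraicGeometry.Morphisms.ClosedImmersion
import Mathlib.AlgebraicGeometry.Morphisms.IsIso
import Groth.Agent.H40.GrpFun
import Groth.Agent.H40.GrpPts

/-!
# Closed conditions are local for flat surjective maps — helper40
-/

set_option autoImplicit false
universe u

open CategoryTheory MonoidalCategory CartesianMonoidalCategory MonObj AlgebraicGeometry Limits

namespace Groth.Agent.H40.FlatDesc

/-- stalk maps of flat morphisms are injective -/
theorem stalkMap_injective_of_flat {X Y : Scheme.{u}} (f : X ⟶ Y) [Flat f] (x : X) :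
    Function.Injective (f.stalkMap x) := by
  algebraize [(f.stalkMap x).hom]
  have : Module.FaithfullyFlat (Y.presheaf.stalk (f x)) (X.presheaf.stalk x) :=
    @Module.FaithfullyFlat.of_flat_of_isLocalHom _ _ _ _ _ _ _
      (Flat.stalkMap f x) (f.toLRSHom.prop x)
  exact ‹RingHom.FaithfullyFlat _›.injective

/-- a closed immersion through which a flat surjective map factors is an isomorphism -/
theorem isIso_of_isClosedImmersion_of_factor {Z T T' : Scheme.{u}} (i : Z ⟶ T)
    [IsClosedImmersion i] (π' : T' ⟶ Z) [Flat (π' ≫ i)] [Surjective (π' ≫ i)] : IsIso i := by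
  have hsurj : Function.Surjective i := fun t => by
    obtain ⟨x, hx⟩ := (π' ≫ i).surjective t
    exact ⟨π' x, by rw [← hx, Scheme.Hom.comp_apply]⟩
  have hopen : Topology.IsOpenEmbedding i :=
    (i.isClosedEmbedding.isEmbedding.toHomeomorphOfSurjective hsurj).isOpenEmbedding
  have hst : ∀ z, IsIso (i.stalkMap z) := by
    intro z
    obtain ⟨x, hx⟩ := (π' ≫ i).surjective (i z)
    have hz : π' x = z := i.isClosedEmbedding.injective (by rw [← hx, Scheme.Hom.comp_apply])
    subst hz
    have hinj : Function.Injective ((π' ≫ i).stalkMap x) := stalkMap_injective_of_flat _ x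
    have e := Scheme.Hom.stalkMap_comp π' i x
    have ea : ∀ c, ((π' ≫ i).stalkMap x).hom c =
        (π'.stalkMap x).hom ((i.stalkMap (π' x)).hom c) := fun c => by
      rw [e]; rfl
    have hinj' : Function.Injective (i.stalkMap (π' x)) := by
      intro a b hab
      apply hinj
      exact (ea a).trans ((congrArg _ hab).trans (ea b).symm)
    have hsurj' := i.stalkMap_surjective (π' x)
    exact (ConcreteCategory.isIso_iff_bijective _).mpr ⟨hinj', hsurj'⟩
  have := IsOpenImmersion.of_isIso_stalkMap i hopen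
  exact (isIso_iff_isOpenImmersion_and_surjective i).mpr ⟨this, ⟨hsurj⟩⟩

variable {S : Scheme.{u}}

/-- factoring through a closed immersion is local for flat surjective maps -/
theorem exists_factor_of_local_factor {H G T T' : Over S} (iH : H ⟶ G)
    [IsClosedImmersion iH.left] (g : T ⟶ G) (p : T' ⟶ T) (hp : GrpFun.IsCov p) (h' : T' ⟶ H)
    (e : h' ≫ iH = p ≫ g) : ∃ h : T ⟶ H, h ≫ iH = g := by
  have hfst : IsClosedImmersion (pullback.fst g iH).left :=
    GrpPts.isClosedImmersion_pullback_fst g iH
  let π' : T' ⟶ pullback g iH := pullback.lift p h' e.symm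
  have hπ : π' ≫ pullback.fst g iH = p := pullback.lift_fst _ _ _
  have h1 : IsIso (pullback.fst g iH).left := by
    haveI : Flat (π'.left ≫ (pullback.fst g iH).left) := by
      rw [← Over.comp_left, hπ]; exact hp.1
    haveI : Surjective (π'.left ≫ (pullback.fst g iH).left) := by
      rw [← Over.comp_left, hπ]; exact hp.2
    exact isIso_of_isClosedImmersion_of_factor _ π'.left
  have h2 : IsIso (pullback.fst g iH) := by
    have : IsIso ((Over.forget S).map (pullback.fst g iH)) := h1
    exact isIso_of_reflects_iso _ (Over.forget S)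
  exact ⟨inv (pullback.fst g iH) ≫ pullback.snd g iH, by
    rw [Category.assoc, ← pullback.condition, IsIso.inv_hom_id_assoc]⟩

/-- a monomorphism `i` with `i ≫ q = 1`-ish universal property: kernel membership -/
theorem exists_lift_of_isKernel {N G Q T : Over S} [GrpObj Q] (i : N ⟶ G) (q : G ⟶ Q)
    (h : IsPullback i (toUnit N) q η[Q]) [GrpObj G] [IsMonHom q] (x : T ⟶ G) (hx : x ≫ q = 1) :
    ∃ n : T ⟶ N, n ≫ i = x := by
  have hx' : x ≫ q = toUnit T ≫ η[Q] := by rw [hx]; exact Hom.one_def
  exact ⟨h.lift x (toUnit T) hx', h.lift_fst _ _ _⟩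

theorem comp_eq_one_of_isKernel {N G Q T : Over S} [GrpObj Q] (i : N ⟶ G) (q : G ⟶ Q)
    (h : IsPullback i (toUnit N) q η[Q]) (n : T ⟶ N) : (n ≫ i) ≫ q = 1 := by
  rw [Category.assoc, h.w, ← Category.assoc, Hom.one_def]
  congr 1
  exact toUnit_unique _ _

theorem mono_of_isClosedImmersion_left {X Y : Over S} (i : X ⟶ Y) [IsClosedImmersion i.left] :
    Mono i := by
  have : Mono ((Over.forget S).map i) := inferInstanceAs (Mono i.left)
  exact (Over.forget S).mono_of_mono_map this

/-- criterion for being a kernel, on points -/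
theorem isKernel_of_forall_exists {N G Q : Over S} [GrpObj G] [GrpObj Q] (i : N ⟶ G) [Mono i]
    (q : G ⟶ Q) (w : i ≫ q = toUnit N ≫ η[Q])
    (h : ∀ (T : Over S) (x : T ⟶ G), x ≫ q = 1 → ∃ n : T ⟶ N, n ≫ i = x) :
    IsPullback i (toUnit N) q η[Q] := by
  have key : ∀ s : PullbackCone q η[Q], s.fst ≫ q = 1 := fun s => by
    rw [s.condition, Hom.one_def]
    congr 1
    exact toUnit_unique _ _
  refine ⟨⟨w⟩, ⟨PullbackCone.IsLimit.mk _ (fun s => (h s.pt s.fst (key s)).choose) ?_ ?_ ?_⟩⟩
  · intro s
    exact (h s.pt s.fst (key s)).choose_spec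
  · intro s
    exact toUnit_unique _ _
  · intro s m hm _
    rw [← cancel_mono i, hm]
    exact (h s.pt s.fst (key s)).choose_spec.symm

end Groth.Agent.H40.FlatDesc
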