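import Groth.Agent.S0346
import Groth.Agent.H40.FlatDesc
import Mathlib.AlgebraicGeometry.Morphisms.FlatMono

/-!
# Group schemes over a field are quasi-separated; homs from quasi-compact ones are quasi-compact — helper40
-/

set_option autoImplicit false
universe u

open CategoryTheory MonoidalCategory CartesianMonoidalCategory MonObj AlgebraicGeometry Limits

namespace Groth.Agent.H40.GrpQC

variable {k : Type u} [Field k]

/-- any morphism out of the spectrum of a field is quasi-compact -/
theorem quasiCompact_of_field_source {X Y : Scheme.{u}} (e : X ≅ Spec (CommRingCat.of k))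
    (f : X ⟶ Y) : QuasiCompact f := by
  refine ⟨fun U hU _ => ?_⟩
  have : Subsingleton X := by
    have : Subsingleton (Spec (CommRingCat.of k)) :=
      inferInstanceAs (Subsingleton (PrimeSpectrum k))
    exact (e.hom.homeomorph).injective.subsingleton
  exact (Set.subsingleton_of_subsingleton).isCompact

/-- a group scheme over a field is quasi-separated -/
theorem quasiSeparated_of_grpObj (G : Over (Spec (CommRingCat.of k))) [GrpObj G] :
    QuasiSeparated G.hom := by
  rw [(Groth.Agent.S0346.result _ G).2]
  exact quasiCompact_of_field_source (k := k) (Iso.refl _) _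

/-- a morphism from a quasi-compact `k`-scheme to a `k`-group scheme is quasi-compact -/
theorem quasiCompact_left {X G : Over (Spec (CommRingCat.of k))} [GrpObj G]
    [QuasiCompact X.hom] (f : X ⟶ G) : QuasiCompact f.left := by
  haveI := quasiSeparated_of_grpObj G
  haveI : QuasiCompact (f.left ≫ G.hom) := by rw [Over.w f]; infer_instance
  exact QuasiCompact.of_comp f.left G.hom

end Groth.Agent.H40.GrpQC
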