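import Groth.Agent.H40.LeftDer
import Groth.Agent.H31.KFlatQuasiIso
import Groth.Agent.H31.KFlatTriangle
import Mathlib.Algebra.Homology.DerivedCategory.Basic

/-!
# Left derived functors computed on K-flat complexes (helper40 library)

For a tensor-like bifunctor `T` on an abelian category `A` (helper31's `TensorLike`), the K-flat
complexes form a triangulated subcategory of the homotopy category with enough left resolutions;
hence (helper40's `LeftDer`) any left derived functor of a functor `F : K(A) ⥤ H` which inverts the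
quasi-isomorphisms between K-flat complexes is computed by `F` on K-flat complexes.  We also show that
termwise `- ⊗ G` inverts these quasi-isomorphisms.
-/

set_option autoImplicit false
set_option backward.isDefEq.respectTransparency false

namespace Groth.Agent.H40.LTensorComp

open CategoryTheory Limits HomologicalComplex CochainComplex Groth.Agent.H31 Groth.Agent.H31.KFlat
  Groth.Agent.H40.LeftDer ZeroObject

section Conc

variable {C₁ C₂ D : Type*} [Category C₁] [Category C₂] [Category D]
  [Abelian C₁] [Abelian C₂] [Abelian D]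
  (F : C₁ ⥤ C₂ ⥤ D) [F.Additive] [∀ X, (F.obj X).Additive]
  [∀ (K₁ : CochainComplex C₁ ℤ) (K₂ : CochainComplex C₂ ℤ),
    HasMapBifunctor K₁ K₂ F (ComplexShape.up ℤ)]

lemma π_zero (a : ℤ) :
    ComplexShape.π (ComplexShape.up ℤ) (ComplexShape.up ℤ) (ComplexShape.up ℤ) (a, 0) = a := by
  simp

lemma ι_d_of_concentrated (L : CochainComplex C₁ ℤ) (S : CochainComplex C₂ ℤ)
    (hS : ∀ q, q ≠ 0 → IsZero (S.X q)) (a b : ℤ) (hab : a + 1 = b) :
    ιMapBifunctor L S F (ComplexShape.up ℤ) a 0 a (π_zero a) ≫
        (mapBifunctor L S F (ComplexShape.up ℤ)).d a b =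
      (F.map (L.d a b)).app (S.X 0) ≫
        ιMapBifunctor L S F (ComplexShape.up ℤ) b 0 b (π_zero b) := by
  have hd0 : S.d 0 (0 + 1) = 0 := (hS (0 + 1) (by omega)).eq_of_tgt _ _
  rw [mapBifunctor.d_eq, Preadditive.comp_add, mapBifunctor.ι_D₁, mapBifunctor.ι_D₂,
    mapBifunctor.d₁_eq L S F (ComplexShape.up ℤ) (show (ComplexShape.up ℤ).Rel a b from hab)
      0 b (π_zero b),
    mapBifunctor.d₂_eq L S F (ComplexShape.up ℤ) a
      (show (ComplexShape.up ℤ).Rel 0 (0 + 1) from rfl) b (by
        show a + (0 + 1) = b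
        omega),
    hd0, Functor.map_zero, zero_comp, smul_zero, add_zero]
  have hε : ComplexShape.ε₁ (ComplexShape.up ℤ) (ComplexShape.up ℤ) (ComplexShape.up ℤ)
      (a, 0) = 1 := rfl
  rw [hε, one_smul]

/-- For `S` concentrated in degree `0`, `Tot(F(L, S))` is the termwise `F(L, S⁰)`. -/
noncomputable def concIso (L : CochainComplex C₁ ℤ) (S : CochainComplex C₂ ℤ)
    (hS : ∀ q, q ≠ 0 → IsZero (S.X q)) :
    haveI := additive_flip_obj F (S.X 0)
    ((F.flip.obj (S.X 0)).mapHomologicalComplex (ComplexShape.up ℤ)).obj L ≅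
      mapBifunctor L S F (ComplexShape.up ℤ) :=
  haveI := additive_flip_obj F (S.X 0)
  HomologicalComplex.Hom.isoOfComponents
    (fun n => @asIso _ _ _ _ (ιMapBifunctor L S F (ComplexShape.up ℤ) n 0 n (π_zero n))
      (isIso_ιMapBifunctor_of_isZero F L S 0 hS n n (π_zero n)))
    (fun a b hab => ι_d_of_concentrated F L S hS a b hab)

end Conc

section Gen

variable {A : Type*} [Category A] [Abelian A]
  (T : A ⥤ A ⥤ A) [T.Additive] [∀ X, (T.obj X).Additive]
  [∀ (K₁ : CochainComplex A ℤ) (K₂ : CochainComplex A ℤ),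
    HasMapBifunctor K₁ K₂ T (ComplexShape.up ℤ)]
  [∀ ι : Type, HasColimitsOfShape (Discrete ι) A]
  [∀ ι : Type, HasExactColimitsOfShape (Discrete ι) A]

/-- K-flatness (in the second variable) for the bifunctor `T`. -/
def KF (K : CochainComplex A ℤ) : Prop :=
  ∀ L : CochainComplex A ℤ, L.Acyclic → (mapBifunctor L K T (ComplexShape.up ℤ)).Acyclic

variable {T} in
lemma KF.shift {K : CochainComplex A ℤ} (hK : KF T K) (a : ℤ) : KF T (K⟦a⟧) := fun L hL =>
  (acyclic_iff_of_iso (((T.map₂CochainComplex.obj L).commShiftIso a).app K)).2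
    ((acyclic_shift_iff _ a).2 (hK L hL))

variable {T} in
lemma KF.of_homotopyEquiv {K K' : CochainComplex A ℤ} (hK : KF T K) (e : HomotopyEquiv K K') :
    KF T K' := fun L hL => acyclic_mapBifunctor_of_homotopyEquiv T L e (hK L hL)

lemma KF_zero : KF T (0 : CochainComplex A ℤ) := fun L _ =>
  acyclic_mapBifunctor_right T L 0 (Homotopy.ofEq (by simp))

/-- The K-flat complexes, as a property of objects of the homotopy category. -/
def kflat : ObjectProperty (HomotopyCategory A (ComplexShape.up ℤ)) := fun K => KF T K.as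

instance : (kflat T).IsClosedUnderIsomorphisms where
  of_iso {K K'} e hK :=
    KF.of_homotopyEquiv hK (HomotopyCategory.homotopyEquivOfIso
      (show (HomotopyCategory.quotient _ _).obj K.as ≅ (HomotopyCategory.quotient _ _).obj K'.as
        from e))

instance : (kflat T).ContainsZero where
  exists_zero := ⟨(HomotopyCategory.quotient A (ComplexShape.up ℤ)).obj 0,
    Functor.map_isZero _ (isZero_zero _), KF_zero T⟩

instance : (kflat T).IsStableUnderShift ℤ where
  isStableUnderShiftBy a :=
    { le_shift := fun K hK =>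
        (kflat T).prop_of_iso
          (((HomotopyCategory.quotient A (ComplexShape.up ℤ)).commShiftIso a).app K.as)
          (show KF T (K.as⟦a⟧) from KF.shift hK a) }

instance : (kflat T).IsTriangulatedClosed₂ where
  ext₂' Tr hTr h₁ h₃ := by
    obtain ⟨X, Y, φ, ⟨e⟩⟩ := hTr
    have hX : KF T X := (kflat T).prop_of_iso (Pretriangulated.Triangle.π₁.mapIso e) h₁
    have hC : KF T (mappingCone φ) :=
      (kflat T).prop_of_iso (Pretriangulated.Triangle.π₃.mapIso e) h₃
    have hY : KF T Y := fun L hL => (acyclic_mappingCone_right T L φ).2.1 (hX L hL) (hC L hL)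
    exact ⟨(HomotopyCategory.quotient A (ComplexShape.up ℤ)).obj Y, hY,
      ⟨Pretriangulated.Triangle.π₂.mapIso e⟩⟩

instance : (kflat T).IsTriangulated where

variable [∀ X : A, PreservesColimitsOfShape ℕ (T.obj X)]
  [∀ X : A, PreservesColimitsOfShape ℕ (T.flip.obj X)] [HasColimitsOfShape ℕ A]
  [HasExactColimitsOfShape ℕ A]

variable {T}

/-- Every object of the homotopy category has a K-flat left resolution. -/
theorem hasLeftRes (hT : TensorLike T) :
    HasLeftRes (kflat T) (HomotopyCategory.subcategoryAcyclic A) := by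
  intro K
  obtain ⟨P, q, h1, -, h3, -⟩ := exists_kflat_resolution (T := T) hT K.as
  refine ⟨(HomotopyCategory.quotient _ _).obj P, (HomotopyCategory.quotient _ _).map q, h1, ?_⟩
  rw [← HomotopyCategory.quasiIso_eq_trW_subcategoryAcyclic,
    HomotopyCategory.quotient_map_mem_quasiIso_iff, HomologicalComplex.mem_quasiIso_iff]
  exact h3

/-- A K-flat acyclic complex stays acyclic after `Tot(F ⊗ -)` for any complex `F`. -/
theorem acyclic_mapBifunctor_of_KF_acyclic (hT : TensorLike T) {N : CochainComplex A ℤ}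
    (hN : KF T N) (hNa : N.Acyclic) (F : CochainComplex A ℤ) :
    (mapBifunctor F N T (ComplexShape.up ℤ)).Acyclic := by
  obtain ⟨F', r, hF', hr⟩ := exists_left_kflat_resolution T hT F
  have h3 := hF' _ hNa
  have h4 := hN _ ((quasiIso_iff_acyclic_mappingCone r).1 hr)
  have h5 : QuasiIso (mapBifunctorMap r (𝟙 N) T (ComplexShape.up ℤ)) :=
    quasiIso_mapBifunctorMap_left T r _ h4
  exact fun i => (quasiIsoAt_iff_exactAt
    (mapBifunctorMap r (𝟙 N) T (ComplexShape.up ℤ)) i (h3 i)).1 inferInstance

/-- A K-flat acyclic complex stays acyclic after the termwise `- ⊗ G`. -/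
theorem acyclic_map_flip_obj (hT : TensorLike T) {N : CochainComplex A ℤ}
    (hN : KF T N) (hNa : N.Acyclic) (G : A) :
    haveI := additive_flip_obj T G
    (((T.flip.obj G).mapHomologicalComplex (ComplexShape.up ℤ)).obj N).Acyclic := by
  haveI := additive_flip_obj T G
  let S : CochainComplex A ℤ := (HomologicalComplex.single A (ComplexShape.up ℤ) 0).obj G
  have hS : ∀ q, q ≠ 0 → IsZero (S.X q) := fun q hq =>
    HomologicalComplex.isZero_single_obj_X (ComplexShape.up ℤ) 0 G q hq
  have h1 : (mapBifunctor S N T (ComplexShape.up ℤ)).Acyclic :=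
    acyclic_mapBifunctor_of_KF_acyclic hT hN hNa S
  haveI : T.flip.Additive := additive_flip T
  haveI : ∀ X, (T.flip.obj X).Additive := fun X => additive_flip_obj T X
  have h2 : (mapBifunctor N S T.flip (ComplexShape.up ℤ)).Acyclic :=
    acyclic_of_iso (mapBifunctorFlipIso S N T (ComplexShape.up ℤ)).symm h1
  haveI := additive_flip_obj T.flip (S.X 0)
  have h3 : (((T.flip.flip.obj (S.X 0)).mapHomologicalComplex (ComplexShape.up ℤ)).obj
      N).Acyclic :=
    acyclic_of_iso (concIso T.flip N S hS).symm h2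
  obtain ⟨β⟩ := hT.symm G
  let e : T.flip.flip.obj (S.X 0) ≅ T.flip.obj G :=
    (flipFlipObjIso T (S.X 0)).symm ≪≫
      T.mapIso (HomologicalComplex.singleObjXSelf (ComplexShape.up ℤ) 0 G) ≪≫ β
  exact acyclic_of_iso ((NatIso.mapHomologicalComplex e (ComplexShape.up ℤ)).app N) h3

/-- The termwise `- ⊗ G` sends quasi-isomorphisms between K-flat complexes to
quasi-isomorphisms. -/
theorem quasiIso_map_flip_obj (hT : TensorLike T) {P Q : CochainComplex A ℤ} (α : P ⟶ Q)
    (hα : QuasiIso α) (hP : KF T P) (hQ : KF T Q) (G : A) :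
    haveI := additive_flip_obj T G
    QuasiIso (((T.flip.obj G).mapHomologicalComplex (ComplexShape.up ℤ)).map α) := by
  haveI := additive_flip_obj T G
  rw [quasiIso_iff_acyclic_mappingCone]
  have hC : (mappingCone α).Acyclic := (quasiIso_iff_acyclic_mappingCone α).1 hα
  have hCK : KF T (mappingCone α) := fun L hL =>
    (acyclic_mappingCone_right T L α).1 (hP L hL) (hQ L hL)
  exact acyclic_of_iso (mappingCone.mapHomologicalComplexIso α (T.flip.obj G))
    (acyclic_map_flip_obj hT hCK hC G)

/-- Left derived functors are computed on K-flat complexes. -/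
theorem isIso_counit_app (hT : TensorLike T) {H D₂ : Type*} [Category H] [Category D₂]
    (F : HomotopyCategory A (ComplexShape.up ℤ) ⥤ H)
    (hF : ∀ {P Q : CochainComplex A ℤ} (α : P ⟶ Q), KF T P → KF T Q → QuasiIso α →
      IsIso (F.map ((HomotopyCategory.quotient _ _).map α)))
    {L₂ : HomotopyCategory A (ComplexShape.up ℤ) ⥤ D₂}
    [L₂.IsLocalization (HomotopyCategory.quasiIso A (ComplexShape.up ℤ))] {LF : D₂ ⥤ H}
    (α : L₂ ⋙ LF ⟶ F)
    [LF.IsLeftDerivedFunctor α (HomotopyCategory.quasiIso A (ComplexShape.up ℤ))]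
    (P : CochainComplex A ℤ) (hP : KF T P) :
    IsIso (α.app ((HomotopyCategory.quotient _ _).obj P)) := by
  refine isIso_app_of_hasLeftRes (hasLeftRes hT) F ?_ _
    (HomotopyCategory.quasiIso_eq_trW_subcategoryAcyclic A) α _ hP
  intro X Y f hX hY hf
  obtain ⟨f', rfl⟩ : ∃ f' : X.as ⟶ Y.as, (HomotopyCategory.quotient _ _).map f' = f :=
    (HomotopyCategory.quotient _ _).map_surjective f
  refine hF f' hX hY ?_
  rwa [← HomotopyCategory.quasiIso_eq_trW_subcategoryAcyclic,
    HomotopyCategory.quotient_map_mem_quasiIso_iff, HomologicalComplex.mem_quasiIso_iff] at hf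

end Gen

end Groth.Agent.H40.LTensorComp
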