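import Mathlib.CategoryTheory.Localization.DerivabilityStructure.Derives
import Mathlib.CategoryTheory.Localization.DerivabilityStructure.Constructor
import Mathlib.CategoryTheory.Triangulated.LocalizingSubcategory
import Mathlib.CategoryTheory.Functor.Derived.LeftDerived
import Mathlib.CategoryTheory.Functor.Derived.PointwiseLeftDerived

/-!
# Computing left derived functors on adapted objects (helper40 library)

* `isLeftKanExtension_op`: the opposite of a right Kan extension is a left Kan extension.
* `isIso_of_isLeftDerivedFunctor`: the left-handed version of Mathlib's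
  `LocalizerMorphism.Derives.isIso_of_isRightDerivedFunctor`.
* `isLeftDerivabilityStructure`: if `A`, `B` are triangulated subcategories of a triangulated category
  and every object receives a `B.trW`-morphism from an object of `A`, then the inclusion of `A` is a
  left derivability structure.
* `isIso_app_of_hasLeftRes`: hence, for a functor `F` inverting the `B.trW`-morphisms between objects
  of `A`, and any left derived functor `(LF, α)` of `F`, the map `α.app P` is an isomorphism for `P` in
  `A`.
-/

set_option autoImplicit false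

namespace Groth.Agent.H40.LeftDer

open CategoryTheory Opposite Limits

section KanOp

variable {C D H : Type*} [Category C] [Category D] [Category H]
  {L : C ⥤ D} {F : C ⥤ H} (LF : D ⥤ H) (α : L ⋙ LF ⟶ F)

/-- The opposite of a right extension, as a left extension of the opposite functors. -/
def opNat : F.op ⟶ L.op ⋙ LF.op where
  app X := (α.app X.unop).op
  naturality _ _ f := Quiver.Hom.unop_inj (α.naturality f.unop).symm

variable {LF} in
/-- A left extension of `F.op` along `L.op` gives a right extension of `F` along `L`. -/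
def unopNat {G' : Dᵒᵖ ⥤ Hᵒᵖ} (β' : F.op ⟶ L.op ⋙ G') : L ⋙ G'.unop ⟶ F where
  app X := (β'.app (op X)).unop
  naturality _ _ f := Quiver.Hom.op_inj (β'.naturality f.op).symm

/-- The opposite of a right Kan extension is a left Kan extension. -/
lemma isLeftKanExtension_op [LF.IsRightKanExtension α] :
    LF.op.IsLeftKanExtension (opNat LF α) := by
  refine ⟨⟨IsInitial.ofUniqueHom
    (fun E => StructuredArrow.homMk
      (NatTrans.op (LF.liftOfIsRightKanExtension α E.right.unop (unopNat E.hom))) ?_) ?_⟩⟩
  · ext X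
    exact Quiver.Hom.unop_inj
      (LF.liftOfIsRightKanExtension_fac_app α E.right.unop (unopNat E.hom) X.unop)
  · intro E m
    apply StructuredArrow.hom_ext
    have hσ : NatTrans.unop m.right =
        LF.liftOfIsRightKanExtension α E.right.unop (unopNat E.hom) := by
      apply LF.hom_ext_of_isRightKanExtension α
      ext Y
      rw [NatTrans.comp_app, Functor.whiskerLeft_app, NatTrans.comp_app, Functor.whiskerLeft_app,
        Functor.liftOfIsRightKanExtension_fac_app]
      exact Quiver.Hom.op_inj (congr_app (StructuredArrow.w m) (op Y))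
    ext X
    exact Quiver.Hom.unop_inj (congr_app hσ X.unop)

end KanOp

section LeftDerives

variable {C₁ C₂ D₂ H : Type*} [Category C₁] [Category C₂] [Category D₂] [Category H]
  {W₁ : MorphismProperty C₁} {W₂ : MorphismProperty C₂}
  (Φ : LocalizerMorphism W₁ W₂) [Φ.IsLeftDerivabilityStructure]
  {F : C₂ ⥤ H} (h : W₁.IsInvertedBy (Φ.functor ⋙ F))
  {L₂ : C₂ ⥤ D₂} [L₂.IsLocalization W₂] {LF : D₂ ⥤ H} (α : L₂ ⋙ LF ⟶ F)
  [LF.IsLeftDerivedFunctor α W₂]

include h in
/-- If `Φ` is a left derivability structure and `Φ.functor ⋙ F` inverts `W₁`, then the counit of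
any left derived functor of `F` is an isomorphism on the objects coming from `Φ`. -/
theorem isIso_of_isLeftDerivedFunctor (X₁ : C₁) : IsIso (α.app (Φ.functor.obj X₁)) := by
  have h' : Φ.op.Derives F.op := h.op
  have : LF.IsRightKanExtension α := Functor.IsLeftDerivedFunctor.isRightKanExtension LF α W₂
  have : LF.op.IsRightDerivedFunctor (opNat LF α) W₂.op := ⟨isLeftKanExtension_op LF α⟩
  have h1 : IsIso ((opNat LF α).app (Φ.op.functor.obj (op X₁))) :=
    h'.isIso_of_isRightDerivedFunctor (opNat LF α) (op X₁)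
  have h2 : IsIso (α.app (Φ.functor.obj X₁)).op := h1
  exact isIso_of_op _

end LeftDerives

section Triangulated

open Pretriangulated ObjectProperty

variable {C : Type*} [Category C] [HasZeroObject C] [HasShift C ℤ] [Preadditive C]
  [∀ (n : ℤ), (shiftFunctor C n).Additive] [Pretriangulated C] [IsTriangulated C]
  (A B : ObjectProperty C) [A.IsTriangulated] [B.IsTriangulated]
  [A.IsClosedUnderIsomorphisms] [B.IsClosedUnderIsomorphisms]

/-- Every object receives a `B.trW`-morphism from an object of `A`. -/
def HasLeftRes : Prop := ∀ X : C, ∃ (P : C) (s : P ⟶ X), A P ∧ B.trW s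

variable {A B}

lemma inf_trW_of_trW {X Y : C} (f : X ⟶ Y) (hX : A X) (hY : A Y) (hf : B.trW f) :
    (A ⊓ B).trW f := by
  obtain ⟨Z, g, h, hT, hZ⟩ := hf
  exact ⟨Z, g, h, hT, A.ext_of_isTriangulatedClosed₃ _ hT hX hY, hZ⟩

lemma isVerdierLeftLocalizing (hres : HasLeftRes A B) : A.IsVerdierLeftLocalizing B := by
  rw [isVerdierLeftLocalizing_iff]
  intro X Y s hY hs
  obtain ⟨Z, a, hZ, ha⟩ := hres X
  exact ⟨Z, a ≫ s, a, hZ, inf_trW_of_trW _ hZ hY (B.trW.comp_mem _ _ ha hs), rfl⟩

/-- If every object has a left `A`-resolution, the inclusion of `A` is a left derivability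
structure (with respect to the morphisms whose cone is in `B`). -/
theorem isLeftDerivabilityStructure (hres : HasLeftRes A B) :
    (A.triangulatedLocalizerMorphism B).IsLeftDerivabilityStructure := by
  have := isVerdierLeftLocalizing hres
  let Φ := A.triangulatedLocalizerMorphism B
  have hLR : Φ.HasLeftResolutions := fun X => by
    obtain ⟨P, s, hP, hs⟩ := hres X
    exact ⟨{ X₁ := ⟨P, hP⟩, w := s, hw := hs }⟩
  have hLE : Φ.IsLocalizedEquivalence := by
    let L₁ := (B.inverseImage A.ι).trW.Q
    let L₂ := B.trW.Q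
    let G := Φ.localizedFunctor L₁ L₂
    have h1 : (Φ.functor ⋙ L₂).EssSurj := Φ.essSurj_of_hasLeftResolutions L₂
    have h2 : (L₁ ⋙ G).EssSurj := Functor.essSurj_of_iso (CatCommSq.iso Φ.functor L₁ L₂ G)
    have h3 : G.EssSurj :=
      ⟨fun Y => ⟨L₁.obj ((L₁ ⋙ G).objPreimage Y), ⟨(L₁ ⋙ G).objObjPreimageIso Y⟩⟩⟩
    have h4 : G.IsEquivalence := { }
    exact LocalizerMorphism.IsLocalizedEquivalence.mk' Φ L₁ L₂ G
  have hArr : Φ.arrow.HasLeftResolutions := fun f => by
    obtain ⟨PY, wY, hPY, hwY⟩ := hres f.right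
    obtain ⟨ψ, hψ⟩ :=
      (MorphismProperty.LeftFraction.mk (W := B.trW) f.hom wY hwY).exists_rightFraction
    obtain ⟨PX, u, hPX, hu⟩ := hres ψ.X'
    exact ⟨{ X₁ := Arrow.mk (ObjectProperty.homMk (u ≫ ψ.f) :
                (⟨PX, hPX⟩ : A.FullSubcategory) ⟶ ⟨PY, hPY⟩)
             w := Arrow.homMk (u ≫ ψ.s) wY (by
               change (u ≫ ψ.s) ≫ f.hom = (u ≫ ψ.f) ≫ wY
               rw [Category.assoc, Category.assoc, hψ])
             hw := ⟨B.trW.comp_mem _ _ hu ψ.hs, hwY⟩ }⟩
  have hConn : ∀ X₂, IsConnected (Φ.LeftResolution X₂) := fun X₂ => by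
    have : Nonempty (Φ.LeftResolution X₂) := hLR X₂
    have : IsPreconnected (Φ.LeftResolution X₂) := zigzag_isPreconnected (fun R R' => by
      obtain ⟨ψ, hψ⟩ :=
        (MorphismProperty.LeftFraction.mk (W := B.trW) R.w R'.w R'.hw).exists_rightFraction
      obtain ⟨P, u, hP, hu⟩ := hres ψ.X'
      let R'' : Φ.LeftResolution X₂ :=
        { X₁ := ⟨P, hP⟩
          w := u ≫ ψ.s ≫ R.w
          hw := B.trW.comp_mem _ _ hu (B.trW.comp_mem _ _ ψ.hs R.hw) }
      have h1 : Zigzag R R'' := Zigzag.of_inv
        { f := ObjectProperty.homMk (u ≫ ψ.s)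
          comm := Category.assoc _ _ _ }
      have h2 : Zigzag R'' R' := Zigzag.of_hom
        { f := ObjectProperty.homMk (u ≫ ψ.f)
          comm := by
            dsimp at hψ
            change (u ≫ ψ.f) ≫ R'.w = u ≫ ψ.s ≫ R.w
            rw [Category.assoc, hψ] }
      exact h1.trans h2)
    constructor
  exact LocalizerMorphism.IsLeftDerivabilityStructure.mk' Φ

/-- Computing left derived functors on adapted objects: if every object has a left `A`-resolution
and `F` inverts the `B.trW`-morphisms between objects of `A`, then for any left derived functor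
`(LF, α)` of `F` the map `α.app P` is an isomorphism for every `P` in `A`. -/
theorem isIso_app_of_hasLeftRes (hres : HasLeftRes A B) {H D₂ : Type*} [Category H] [Category D₂]
    (F : C ⥤ H)
    (hF : ∀ ⦃X Y : C⦄ (f : X ⟶ Y), A X → A Y → B.trW f → IsIso (F.map f))
    (W : MorphismProperty C) (hW : W = B.trW)
    {L₂ : C ⥤ D₂} [L₂.IsLocalization W] {LF : D₂ ⥤ H} (α : L₂ ⋙ LF ⟶ F)
    [LF.IsLeftDerivedFunctor α W] (P : C) (hP : A P) : IsIso (α.app P) := by
  subst hW
  have := isLeftDerivabilityStructure hres
  have h : (B.inverseImage A.ι).trW.IsInvertedBy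
      ((A.triangulatedLocalizerMorphism B).functor ⋙ F) := by
    intro X Y f hf
    rw [trW_inverseImage_ι_iff] at hf
    obtain ⟨Z, g, k, hT, hZ⟩ := hf
    exact hF f.hom X.property Y.property ⟨Z, g, k, hT, hZ.2⟩
  exact isIso_of_isLeftDerivedFunctor (A.triangulatedLocalizerMorphism B) h α ⟨P, hP⟩

end Triangulated

end Groth.Agent.H40.LeftDer
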