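import Groth.Agent.H31.FlatGrid
import Mathlib.Algebra.Homology.Refinements

/-!
# Flatness of kernels in exact sequences of flat objects (helper40 library)

`flat_kernel_of_exact`: for an exact sequence `0 ⟶ A0 ⟶ F0 ⟶ F1 ⟶ F2 ⟶ F3 ⟶ 0` with all `F_i` flat,
`A0` is flat.
-/

set_option autoImplicit false
universe v u
open CategoryTheory CategoryTheory.Limits CategoryTheory.Category

namespace Groth.Agent.H40.FlatKer

open Groth.Agent.H31

variable {A : Type u} [Category.{v} A] [Abelian A] {T : A ⥤ A ⥤ A}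

/-- If `(f, g)` is exact and `g = u ≫ m` with `m` mono, the lift of `f` to the kernel of `u` is an
epimorphism. -/
theorem epi_kernel_lift_of_exact {F0 F1 F2 K : A} (f : F0 ⟶ F1) (g : F1 ⟶ F2) (wf : f ≫ g = 0)
    (ex : (ShortComplex.mk f g wf).Exact) (u : F1 ⟶ K) (m : K ⟶ F2) [Mono m] (hg : u ≫ m = g)
    (w : f ≫ u = 0) : Epi (kernel.lift u f w) := by
  rw [epi_iff_surjective_up_to_refinements]
  intro T y
  have hy : (y ≫ kernel.ι u) ≫ g = 0 := by
    rw [assoc, ← hg, kernel.condition_assoc, zero_comp, comp_zero]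
  obtain ⟨T', π, hπ, x, hx⟩ := ex.exact_up_to_refinements (y ≫ kernel.ι u) hy
  dsimp at x hx
  refine ⟨T', π, hπ, x, ?_⟩
  rw [← cancel_mono (kernel.ι u), assoc, assoc, kernel.lift_ι, hx]

/-- For an exact sequence `0 ⟶ A0 ⟶ F0 ⟶ F1 ⟶ F2 ⟶ F3 ⟶ 0` with all `F_i` flat, `A0` is flat. -/
theorem flat_kernel_of_exact (hT : TensorLike T) {A0 F0 F1 F2 F3 : A}
    (i : A0 ⟶ F0) (f : F0 ⟶ F1) (g : F1 ⟶ F2) (h : F2 ⟶ F3)
    (wi : i ≫ f = 0) (hi : IsLimit (KernelFork.ofι i wi))
    (wf : f ≫ g = 0) (ex1 : (ShortComplex.mk f g wf).Exact)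
    (wg : g ≫ h = 0) (ex2 : (ShortComplex.mk g h wg).Exact) [Epi h]
    (h0 : (T.flip.obj F0).PreservesMonomorphisms) (h1 : (T.flip.obj F1).PreservesMonomorphisms)
    (h2 : (T.flip.obj F2).PreservesMonomorphisms) (h3 : (T.flip.obj F3).PreservesMonomorphisms) :
    (T.flip.obj A0).PreservesMonomorphisms := by
  -- K3 = ker h
  have se3 : (ShortComplex.mk (kernel.ι h) h (kernel.condition h)).ShortExact :=
    ShortComplex.ShortExact.mk' (ShortComplex.exact_kernel h) inferInstance inferInstance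
  have k3 : (T.flip.obj (kernel h)).PreservesMonomorphisms := hT.flat_left _ se3 h2 h3
  -- u2 : F1 ⟶ K3
  let u2 : F1 ⟶ kernel h := kernel.lift h g wg
  have hu2 : Epi u2 := (ShortComplex.exact_iff_epi_kernel_lift (ShortComplex.mk g h wg)).1 ex2
  have se2 : (ShortComplex.mk (kernel.ι u2) u2 (kernel.condition u2)).ShortExact :=
    ShortComplex.ShortExact.mk' (ShortComplex.exact_kernel u2) inferInstance hu2
  have k2 : (T.flip.obj (kernel u2)).PreservesMonomorphisms := hT.flat_left _ se2 h1 k3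
  -- u1 : F0 ⟶ K2
  have w1 : f ≫ u2 = 0 := by
    rw [← cancel_mono (kernel.ι h), assoc, kernel.lift_ι, wf, zero_comp]
  let u1 : F0 ⟶ kernel u2 := kernel.lift u2 f w1
  have hu1 : Epi u1 :=
    epi_kernel_lift_of_exact f g wf ex1 u2 (kernel.ι h) (kernel.lift_ι _ _ _) w1
  have wi1 : i ≫ u1 = 0 := by
    rw [← cancel_mono (kernel.ι u2), assoc, kernel.lift_ι, wi, zero_comp]
  have hi1 : IsLimit (KernelFork.ofι i wi1) :=
    isKernelOfComp (kernel.ι u2) f hi wi1 (kernel.lift_ι _ _ _)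
  have hmono : Mono i := mono_of_isLimit_fork hi
  have se1 : (ShortComplex.mk i u1 wi1).ShortExact :=
    ShortComplex.ShortExact.mk' (ShortComplex.exact_of_f_is_kernel _ hi1) hmono hu1
  exact hT.flat_left _ se1 h0 k2

end Groth.Agent.H40.FlatKer
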