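import Groth.Agent.H31.TensorSite3
import Mathlib.Algebra.Homology.Additive

/-!
# The right unit isomorphism for the tensor product of sheaves of modules (helper40 library)
-/

set_option autoImplicit false
universe u
open CategoryTheory CategoryTheory.Limits MonoidalCategory Opposite CategoryTheory.Category

namespace Groth.Agent.H40.UnitIso

open Groth.Agent.H31

variable {C : Type u} [SmallCategory C] {J : GrothendieckTopology C}
variable (O : Sheaf J CommRingCat.{u})

/-- `G ⊗ O ≅ G`, componentwise. -/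
noncomputable def rightUnitIso (G : ModSite.Mod O) :
    ((ModSite.tensorBi O).flip.obj (ModSite.unit O)).obj G ≅ G :=
  (show ((ModSite.tensorBi O).flip.obj (ModSite.unit O)).obj G ≅
      (shf O).obj ((toPM O).obj G) from (shf O).mapIso (ρ_ ((toPM O).obj G))) ≪≫
    @asIso _ _ _ _ ((shfAdj O).counit.app G) (isIso_counit G)

theorem rightUnitIso_naturality {G G' : ModSite.Mod O} (f : G ⟶ G') :
    ((ModSite.tensorBi O).flip.obj (ModSite.unit O)).map f ≫ (rightUnitIso O G').hom =
      (rightUnitIso O G).hom ≫ f := by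
  have h1 : (toPM O).map f ▷ (𝟙_ (PM O)) ≫ (ρ_ ((toPM O).obj G')).hom =
      (ρ_ ((toPM O).obj G)).hom ≫ (toPM O).map f := rightUnitor_naturality _
  have h2 : (shf O).map ((toPM O).map f) ≫ (shfAdj O).counit.app G' =
      (shfAdj O).counit.app G ≫ f := (shfAdj O).counit.naturality f
  show (shf O).map ((toPM O).map f ▷ (𝟙_ (PM O))) ≫
      ((shf O).map (ρ_ ((toPM O).obj G')).hom ≫ (shfAdj O).counit.app G') =
    ((shf O).map (ρ_ ((toPM O).obj G)).hom ≫ (shfAdj O).counit.app G) ≫ f
  rw [← assoc, ← (shf O).map_comp, h1, (shf O).map_comp, assoc, h2, assoc]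
  rfl

/-- `- ⊗ O ≅ 𝟭`. -/
noncomputable def rightUnitNatIso :
    (ModSite.tensorBi O).flip.obj (ModSite.unit O) ≅ 𝟭 (ModSite.Mod O) :=
  NatIso.ofComponents (rightUnitIso O) (fun f => rightUnitIso_naturality O f)

end Groth.Agent.H40.UnitIso
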