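import Groth.Agent.H40.TorAmp2
import Groth.Agent.H40.FlatKer
import Groth.Agent.H40.UnitIso
import Groth.Agent.H31.KFlatResolutionSite
import Mathlib.Algebra.Homology.Embedding.CochainComplex

/-!
# Tor-amplitude implies flat amplitude (helper40 library)
-/

set_option autoImplicit false
set_option backward.isDefEq.respectTransparency false
universe u
open CategoryTheory CategoryTheory.Limits AlgebraicGeometry HomologicalComplex
attribute [local instance] HasDerivedCategory.standard

namespace Groth.Agent.H40.TorAmp3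

open Groth.Agent.H31 Groth.Agent.H40.LTensorDCoh Groth.Agent.H40.TorAmp Groth.Agent.H40.TorAmp2
  Groth.Agent.H40.FlatCoker Groth.Agent.H40.FlatKer

variable {X : Scheme.{u}}

/-- Termwise `- ⊗ G` on complexes. -/
noncomputable abbrev Fc (G : X.Modules) : CochainComplex X.Modules ℤ ⥤ CochainComplex X.Modules ℤ :=
  (DCoh.tensorRightMod G).mapHomologicalComplex (ComplexShape.up ℤ)

theorem stalkFlat_of_iso {M M' : X.Modules} (e : M ≅ M') (h : FlatMod.IsFlat M) :
    FlatMod.IsFlat M' := by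
  rw [stalkFlat_iff_preservesMonomorphisms] at h ⊢
  exact flat_of_retract (T := ModSite.tensorBi X.sheaf) e.inv e.hom e.inv_hom_id h

theorem stalkFlat_of_isZero {M : X.Modules} (h : IsZero M) : FlatMod.IsFlat M :=
  Groth.Agent.H40.FlatBridge2.stalkFlat_of_isFlat _ (KFlat.isFlat_of_isZero (O := X.sheaf) M h)

/-- If `P^b, P^{b+1}, P^{b+2}` are flat, `P` is exact at `b+1` and `H^{b+1}(P ⊗ G) = 0` for all `G`,
then the cycles `Z^b(P)` are flat. -/
theorem flat_cycles (P : CochainComplex X.Modules ℤ) (b : ℤ)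
    (h0 : FlatMod.IsFlat (P.X b)) (h1 : FlatMod.IsFlat (P.X (b + 1)))
    (h2 : FlatMod.IsFlat (P.X (b + 2)))
    (h : ∀ G : X.Modules, IsZero (((Fc G).obj P).homology (b + 1)))
    (hex : P.ExactAt (b + 1)) : FlatMod.IsFlat (P.cycles b) := by
  have h3 : FlatMod.IsFlat (P.opcycles (b + 2)) := by
    refine flat_cokernel_of_homology_zero P (b + 2) h2 (fun G => ?_) (P.pOpcycles (b + 2))
      (P.d_pOpcycles _ _) (P.opcyclesIsCokernel (b + 2 - 1) (b + 2) (by simp))
    have e : b + 2 - 1 = b + 1 := by omega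
    rw [e]
    exact h G
  rw [stalkFlat_iff_preservesMonomorphisms] at h0 h1 h2 h3 ⊢
  have ex1 : (ShortComplex.mk (P.d b (b + 1)) (P.d (b + 1) (b + 2)) (P.d_comp_d _ _ _)).Exact :=
    (P.exactAt_iff' b (b + 1) (b + 2) (by simp) (by simp; omega)).1 hex
  have ex2 : (ShortComplex.mk (P.d (b + 1) (b + 2)) (P.pOpcycles (b + 2))
      (P.d_pOpcycles _ _)).Exact :=
    ShortComplex.exact_of_g_is_cokernel _ (P.opcyclesIsCokernel (b + 1) (b + 2) (by simp; omega))
  exact flat_kernel_of_exact (T := ModSite.tensorBi X.sheaf) tensorLike_tensorBi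
    (P.iCycles b) (P.d b (b + 1)) (P.d (b + 1) (b + 2)) (P.pOpcycles (b + 2))
    (P.iCycles_d b (b + 1)) (P.cyclesIsKernel b (b + 1) (by simp)) (P.d_comp_d _ _ _) ex1
    (P.d_pOpcycles _ _) ex2 h0 h1 h2 h3

/-- `P ⊗ O ≅ P`. -/
noncomputable def tensorUnitCxIso (P : CochainComplex X.Modules ℤ) :
    (Fc (ModSite.unit X.sheaf)).obj P ≅ P :=
  HomologicalComplex.Hom.isoOfComponents
    (fun n => (Groth.Agent.H40.UnitIso.rightUnitNatIso X.sheaf).app (P.X n))
    (fun n m _ => ((Groth.Agent.H40.UnitIso.rightUnitNatIso X.sheaf).hom.naturality (P.d n m)).symm)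

theorem isZero_homology_of_tensor_unit (P : CochainComplex X.Modules ℤ) (i : ℤ)
    (h : IsZero (((Fc (ModSite.unit X.sheaf)).obj P).homology i)) : IsZero (P.homology i) :=
  ((HomologicalComplex.homologyFunctor _ _ i).mapIso (tensorUnitCxIso P)).isZero_iff.1 h

/-- Tor-amplitude in `[a,b]` implies flat amplitude in `[a,b]`. -/
theorem hasFlatAmplitudeIn_of_hasTorAmplitudeIn (E : DCoh.D X) (a b : ℤ) (hab : a ≤ b)
    (hL : ∀ G : X.Modules, DCoh.HasLTensorMod G) (hE : DCoh.HasTorAmplitudeIn a b E) :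
    DCoh.HasFlatAmplitudeIn a b E := by
  let K : CochainComplex X.Modules ℤ := DerivedCategory.Q.objPreimage E
  let eK : DCoh.toD X K ≅ E := DerivedCategory.Q.objObjPreimageIso E
  obtain ⟨P, q, hPK, hPfl, hq, -⟩ : ∃ (P : CochainComplex X.Modules ℤ) (q : P ⟶ K),
      DCoh.IsKFlat P ∧ (∀ n : ℤ, ModSite.IsFlat (O := X.sheaf) (P.X n)) ∧ QuasiIso q ∧
        ∀ n : ℤ, Epi (q.f n) :=
    Groth.Agent.H31.KFlat.exists_isKFlat_resolution (O := X.sheaf) K
  have hQq : IsIso (DerivedCategory.Q.map q) :=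
    (DerivedCategory.isIso_Q_map_iff_quasiIso _ _).2 hq
  have eP : DCoh.toD X P ≅ E := @asIso _ _ _ _ (DerivedCategory.Q.map q) hQq ≪≫ eK
  have hPfl' : ∀ n, FlatMod.IsFlat (P.X n) := fun n =>
    Groth.Agent.H40.FlatBridge2.stalkFlat_of_isFlat _ (hPfl n)
  have hvan : ∀ (G : X.Modules) (i : ℤ), (i < a ∨ b < i) →
      IsZero (((Fc G).obj P).homology i) := fun G i hi => by
    have := hL G
    exact (HDLTensorIso G P hPK i).isZero_iff.1
      (((DerivedCategory.homologyFunctor X.Modules i).mapIso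
        ((DCoh.LTensorMod G).mapIso eP)).isZero_iff.2 (hE G i hi))
  have hvanP : ∀ i : ℤ, (i < a ∨ b < i) → IsZero (P.homology i) := fun i hi =>
    isZero_homology_of_tensor_unit P i (hvan _ i hi)
  -- step 1 : truncation above
  have hLE : P.IsLE b := by
    rw [CochainComplex.isLE_iff]
    intro i hi
    rw [HomologicalComplex.exactAt_iff_isZero_homology]
    exact hvanP i (Or.inr hi)
  have hι : QuasiIso (P.ιTruncLE b) := inferInstance
  have hcyc : FlatMod.IsFlat (P.cycles b) :=
    flat_cycles P b (hPfl' _) (hPfl' _) (hPfl' _)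
      (fun G => hvan G (b + 1) (Or.inr (by omega)))
      (by rw [HomologicalComplex.exactAt_iff_isZero_homology]; exact hvanP (b + 1) (Or.inr (by omega)))
  have hP1fl : ∀ n, FlatMod.IsFlat ((P.truncLE b).X n) := by
    intro n
    rcases lt_trichotomy n b with h | h | h
    · exact stalkFlat_of_iso (P.truncLEXIso b n h).symm (hPfl' n)
    · subst h; exact stalkFlat_of_iso (P.truncLEXIsoCycles n).symm hcyc
    · exact stalkFlat_of_isZero ((P.truncLE b).isZero_of_isStrictlyLE b n h)
  have hP1K : DCoh.IsKFlat (P.truncLE b) :=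
    isKFlat_of_bounded_above_stalkFlat (P.truncLE b) b
      (fun q hq => (P.truncLE b).isZero_of_isStrictlyLE b q hq) hP1fl
  have hQι : IsIso (DerivedCategory.Q.map (P.ιTruncLE b)) :=
    (DerivedCategory.isIso_Q_map_iff_quasiIso _ _).2 hι
  have eP1 : DCoh.toD X (P.truncLE b) ≅ E :=
    @asIso _ _ _ _ (DerivedCategory.Q.map (P.ιTruncLE b)) hQι ≪≫ eP
  have hvan1 : ∀ (G : X.Modules) (i : ℤ), i < a →
      IsZero (((Fc G).obj (P.truncLE b)).homology i) := fun G i hi => by
    have := hL G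
    exact (HDLTensorIso G (P.truncLE b) hP1K i).isZero_iff.1
      (((DerivedCategory.homologyFunctor X.Modules i).mapIso
        ((DCoh.LTensorMod G).mapIso eP1)).isZero_iff.2 (hE G i (Or.inl hi)))
  have hvanP1 : ∀ i : ℤ, i < a → IsZero ((P.truncLE b).homology i) := fun i hi =>
    isZero_homology_of_tensor_unit _ i (hvan1 _ i hi)
  -- step 2 : truncation below
  have hGE : (P.truncLE b).IsGE a := by
    rw [CochainComplex.isGE_iff]
    intro i hi
    rw [HomologicalComplex.exactAt_iff_isZero_homology]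
    exact hvanP1 i hi
  have hπ : QuasiIso ((P.truncLE b).πTruncGE a) := inferInstance
  have hop : FlatMod.IsFlat ((P.truncLE b).opcycles a) :=
    flat_cokernel_of_homology_zero (P.truncLE b) a (hP1fl a)
      (fun G => hvan1 G (a - 1) (by omega)) ((P.truncLE b).pOpcycles a)
      ((P.truncLE b).d_pOpcycles _ _) ((P.truncLE b).opcyclesIsCokernel (a - 1) a (by simp))
  have hQπ : IsIso (DerivedCategory.Q.map ((P.truncLE b).πTruncGE a)) :=
    (DerivedCategory.isIso_Q_map_iff_quasiIso _ _).2 hπ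
  refine ⟨(P.truncLE b).truncGE a, ?_, ?_,
    ⟨(@asIso _ _ _ _ (DerivedCategory.Q.map ((P.truncLE b).πTruncGE a)) hQπ).symm ≪≫ eP1⟩⟩
  · intro i hi
    rcases hi with hi | hi
    · exact ((P.truncLE b).truncGE a).isZero_of_isStrictlyGE a i hi
    · exact ((P.truncLE b).truncGEXIso a i (by omega)).isZero_iff.2
        ((P.truncLE b).isZero_of_isStrictlyLE b i hi)
  · intro i
    rcases lt_trichotomy i a with h | h | h
    · exact stalkFlat_of_isZero (((P.truncLE b).truncGE a).isZero_of_isStrictlyGE a i h)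
    · subst h; exact stalkFlat_of_iso ((P.truncLE b).truncGEXIsoOpcycles i).symm hop
    · exact stalkFlat_of_iso ((P.truncLE b).truncGEXIso a i h).symm (hP1fl i)

end Groth.Agent.H40.TorAmp3
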