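import Groth.Agent.H40.FlatBridge

/-!
# Tensor-flat O_X-modules are stalkwise flat (helper40 library)

The converse of `FlatBridge`: on a ringed space `(X, O)`, if `- ⊗_O N` preserves monomorphisms then every
stalk `N_x` is flat over `O_x`.  The proof tensors `N` with skyscraper modules: for an `O_x`-module `P`
the skyscraper `S(P)` has sections `P` over the opens containing `x` and `0` elsewhere, `S` sends
injective maps to monomorphisms, and `(S(P) ⊗ N)_x = P ⊗ N_x`.
-/

set_option autoImplicit false
universe u
open CategoryTheory CategoryTheory.Limits Opposite TopologicalSpace MonoidalCategory TensorProduct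
  AlgebraicGeometry

namespace Groth.Agent.H40.FlatBridge2

open Groth.Agent.H31 Groth.Agent.H40.StalkTensor Groth.Agent.H40.FlatBridge

section LinAlg

/-- Injectivity of `f ⊗ M` transported along linear equivalences. -/
lemma rTensor_injective_of_conj {R : Type*} [CommRing R] {A' A B' B Mm : Type*}
    [AddCommGroup A'] [AddCommGroup A] [AddCommGroup B'] [AddCommGroup B] [AddCommGroup Mm]
    [Module R A'] [Module R A] [Module R B'] [Module R B] [Module R Mm]
    (e' : A' ≃ₗ[R] B') (e : A ≃ₗ[R] B) (σ : A' →ₗ[R] A) (f : B' →ₗ[R] B)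
    (h : ∀ a, e (σ a) = f (e' a)) (hσ : Function.Injective (σ.rTensor Mm)) :
    Function.Injective (f.rTensor Mm) := by
  have h1 : ∀ z, f.rTensor Mm (e'.rTensor Mm z) = e.rTensor Mm (σ.rTensor Mm z) := by
    intro z
    induction z using TensorProduct.induction_on with
    | zero => simp
    | tmul a m => simp [h a]
    | add a b ha hb => simp only [map_add, ha, hb]
  intro z w hzw
  obtain ⟨z', rfl⟩ := (e'.rTensor Mm).surjective z
  obtain ⟨w', rfl⟩ := (e'.rTensor Mm).surjective w
  rw [h1, h1] at hzw
  rw [hσ ((e.rTensor Mm).injective hzw)]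

end LinAlg

section Theta

variable {X : TopCat.{u}} {R : X.Presheaf CommRingCat.{u}}
  (N M : PresheafOfModules.{u} (R ⋙ forget₂ CommRingCat RingCat)) (x : X)

lemma theta_psi (z : St N x ⊗[Rx R x] St M x) : theta N M x (psi N M x z) = z := by
  induction z using TensorProduct.induction_on with
  | zero => rw [map_zero, map_zero]
  | tmul a b =>
    obtain ⟨W, hW, r₀, n, m, -, rfl, rfl⟩ := exists_rep₃ N M x 1 a b
    rw [psi_tmul, psiL_gm]
    unfold StalkTensor.pair
    rw [theta_germ_tm, gm_res', gm_res']
  | add a b ha hb => rw [map_add, map_add, ha, hb]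

variable {N} in
/-- If `φ ⊗ M` is injective on stalks at `x`, then so is `φ_x ⊗ M_x`. -/
lemma rTensor_stalkLin_injective
    {N' : PresheafOfModules.{u} (R ⋙ forget₂ CommRingCat RingCat)} (φ : N' ⟶ N)
    (h : Function.Injective (stalkAdd (φ ▷ M) x)) :
    Function.Injective (LinearMap.rTensor (St M x) (stalkLin φ x)) := by
  rw [injective_iff_map_eq_zero]
  intro z hz
  have h5 : theta N M x (stalkAdd (φ ▷ M) x (psi N' M x z)) = 0 := by
    rw [theta_natural, theta_psi, hz]
  have h6 : stalkAdd (φ ▷ M) x (psi N' M x z) = 0 :=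
    theta_injective N M x (by rw [h5, map_zero])
  have h7 : psi N' M x z = 0 := h (by rw [h6, map_zero])
  rw [← theta_psi N' M x z, h7, map_zero]

end Theta

section LocInj

variable {X : TopCat.{u}} {P Q : X.Presheaf AddCommGrpCat.{u}} (f : P ⟶ Q)

/-- A locally injective morphism of presheaves of abelian groups on a space is injective on
stalks. -/
theorem stalk_injective_of_isLocallyInjective
    [Presheaf.IsLocallyInjective (Opens.grothendieckTopology X) f] (x : X) :
    Function.Injective ((TopCat.Presheaf.stalkFunctor AddCommGrpCat x).map f).hom := by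
  rw [injective_iff_map_eq_zero]
  intro a ha
  obtain ⟨U, hU, s, rfl⟩ := TopCat.Presheaf.exists_germ_eq P a
  have ha' : Q.germ U x hU (f.app (op U) s) = 0 := by
    rw [← TopCat.Presheaf.stalkFunctor_map_germ_apply U x hU f s]; exact ha
  have h0 : Q.germ U x hU (f.app (op U) s) = Q.germ U x hU 0 := by rw [ha', map_zero]
  obtain ⟨W, hW, iU, iV, e⟩ := TopCat.Presheaf.germ_eq Q x hU hU _ _ h0
  have e' : f.app (op W) (P.map iU.op s) = f.app (op W) 0 := by
    rw [NatTrans.naturality_apply, e, map_zero, map_zero]
  obtain ⟨W', i, hi, hW'⟩ :=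
    Presheaf.equalizerSieve_mem (Opens.grothendieckTopology X) f _ _ e' x hW
  have hi' : P.map i.op (P.map iU.op s) = P.map i.op 0 := hi
  have h1 : P.germ U x hU s = P.germ W' x hW' (P.map i.op (P.map iU.op s)) := by
    rw [TopCat.Presheaf.germ_res_apply, TopCat.Presheaf.germ_res_apply]
  rw [h1, hi', map_zero, map_zero]
  rfl

end LocInj

section Site

variable {C : Type u} [SmallCategory C] {J : GrothendieckTopology C} {O : Sheaf J CommRingCat.{u}}

/-- If the sheafification of a morphism of presheaves of modules is a monomorphism, the morphism is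
locally injective. -/
lemma locallyInjective_of_mono_shf_map {A B : PM O} (ψ : A ⟶ B) [Mono ((shf O).map ψ)] :
    Presheaf.IsLocallyInjective J ((PresheafOfModules.toPresheaf (R₀ O)).map ψ) := by
  have h1 : Mono ((toPM O).map ((shf O).map ψ)) := inferInstance
  have h2 : ∀ U, Function.Injective (((toPM O).map ((shf O).map ψ)).app U) :=
    PresheafOfModules.injective_of_mono _
  have h3 : Sheaf.IsLocallyInjective ((presheafToSheaf J AddCommGrpCat.{u}).map
      ((PresheafOfModules.toPresheaf (R₀ O)).map ψ)) := by
    apply Presheaf.isLocallyInjective_of_injective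
    intro U
    exact h2 U
  exact (Presheaf.isLocallyInjective_presheafToSheaf_map_iff J _).1 h3

end Site

section Sky

variable {X : TopCat.{u}} (R : X.Presheaf CommRingCat.{u}) (x : X)
  (P : Type u) [AddCommGroup P] [Module (Rx R x) P]

/-- Sections over `V` of the skyscraper at `x` with value `P`. -/
def SkSec (x : X) (P : Type u) (V : Opens X) : Type u := PLift (x ∈ V) → P

instance (V : Opens X) : AddCommGroup (SkSec x P V) :=
  inferInstanceAs (AddCommGroup (PLift (x ∈ V) → P))

noncomputable instance skModule (V : Opens X) : Module (R.obj (op V)) (SkSec x P V) :=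
  @Pi.module (PLift (x ∈ V)) (fun _ => P) (R.obj (op V)) _ _
    (fun h => Module.compHom P (R.germ V x h.down).hom)

/-- The skyscraper presheaf of abelian groups. -/
noncomputable def skAb : (Opens X)ᵒᵖ ⥤ AddCommGrpCat.{u} where
  obj V := AddCommGrpCat.of (SkSec x P V.unop)
  map {V W} f := AddCommGrpCat.ofHom
    { toFun := fun s h => s ⟨f.unop.le h.down⟩
      map_zero' := rfl
      map_add' := fun _ _ => rfl }
  map_id _ := rfl
  map_comp _ _ := rfl

noncomputable instance skAbModule (V : (Opens X)ᵒᵖ) :
    Module ((R ⋙ forget₂ CommRingCat RingCat).obj V) ((skAb x P).obj V) :=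
  inferInstanceAs (Module (R.obj (op V.unop)) (SkSec x P V.unop))

/-- The skyscraper presheaf of modules. -/
noncomputable def skPM : PresheafOfModules.{u} (R ⋙ forget₂ CommRingCat RingCat) :=
  PresheafOfModules.ofPresheaf (skAb x P) (by
    intro V W f r s
    refine funext (fun h => ?_)
    exact (congrArg (fun t : Rx R x => t • (s : SkSec x P V.unop) ⟨f.unop.le h.down⟩)
      (TopCat.Presheaf.germ_res_apply R f.unop x h.down r)).symm)

omit [Module (Rx R x) P] in
lemma skAb_isSheaf : Presheaf.IsSheaf (Opens.grothendieckTopology X) (skAb x P) := by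
  show TopCat.Presheaf.IsSheaf (skAb x P)
  rw [TopCat.Presheaf.isSheaf_iff_isSheafUniqueGluing]
  intro ι U sf hsf
  have key : ∀ (i j : ι) (hi : x ∈ U i) (hj : x ∈ U j),
      (sf i : SkSec x P (U i)) ⟨hi⟩ = (sf j : SkSec x P (U j)) ⟨hj⟩ := by
    intro i j hi hj
    exact congrFun (hsf i j) ⟨⟨hi, hj⟩⟩
  refine ⟨(show SkSec x P (iSup U) from fun h =>
    (sf (Opens.mem_iSup.1 h.down).choose : SkSec x P _) ⟨(Opens.mem_iSup.1 h.down).choose_spec⟩),
    ?_, ?_⟩
  · intro i
    refine funext (fun h => ?_)
    exact key _ i _ h.down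
  · intro s' hs'
    refine funext (fun h => ?_)
    exact congrFun (hs' (Opens.mem_iSup.1 h.down).choose)
      ⟨(Opens.mem_iSup.1 h.down).choose_spec⟩

/-- Evaluation at `x`, on the stalk of the skyscraper. -/
noncomputable def skEvAdd : St (skPM R x P) x →+ P :=
  stalkDesc (skPM R x P).presheaf x P
    (fun U hx =>
      { toFun := fun s => (s : SkSec x P U) ⟨hx⟩
        map_zero' := rfl
        map_add' := fun _ _ => rfl })
    (fun _ _ _ _ _ => rfl)

lemma skEvAdd_gm (U : Opens X) (hU : x ∈ U) (s : (skPM R x P).obj (op U)) :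
    skEvAdd R x P (gm (skPM R x P) x U hU s) = (s : SkSec x P U) ⟨hU⟩ :=
  stalkDesc_germ (skPM R x P).presheaf x P _ _ U hU s

/-- Evaluation at `x` is linear over the stalk of the ring. -/
noncomputable def skEv : St (skPM R x P) x →ₗ[Rx R x] P :=
  { skEvAdd R x P with
    map_smul' := by
      intro r a
      obtain ⟨W, hW, r₀, s, -, rfl, rfl, -⟩ := exists_rep₃ (skPM R x P) (skPM R x P) x r a a
      show skEvAdd R x P (R.germ W x hW r₀ • gm (skPM R x P) x W hW s) =
        R.germ W x hW r₀ • skEvAdd R x P (gm (skPM R x P) x W hW s)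
      rw [← gm_smul, skEvAdd_gm, skEvAdd_gm]
      rfl }

lemma skEv_injective : Function.Injective (skEv R x P) := by
  rw [injective_iff_map_eq_zero]
  intro a ha
  obtain ⟨U, hU, s, rfl⟩ := exists_gm_eq (skPM R x P) x a
  have h1 : (s : SkSec x P U) ⟨hU⟩ = 0 := (skEvAdd_gm R x P U hU s).symm.trans ha
  have h2 : s = 0 := funext (fun _ => h1)
  rw [h2, map_zero]

lemma skEv_surjective : Function.Surjective (skEv R x P) := fun p =>
  ⟨gm (skPM R x P) x ⊤ (Opens.mem_top x) (show SkSec x P ⊤ from fun _ => p),
    skEvAdd_gm R x P ⊤ (Opens.mem_top x) _⟩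

/-- The stalk of the skyscraper at `x` is `P`. -/
noncomputable def skEquiv : St (skPM R x P) x ≃ₗ[Rx R x] P :=
  LinearEquiv.ofBijective (skEv R x P) ⟨skEv_injective R x P, skEv_surjective R x P⟩

variable {P} {P' : Type u} [AddCommGroup P'] [Module (Rx R x) P'] (f : P' →ₗ[Rx R x] P)

/-- Functoriality of the skyscraper presheaf of abelian groups. -/
noncomputable def skAbMap : skAb x P' ⟶ skAb x P where
  app V := AddCommGrpCat.ofHom
    { toFun := fun s h => f (s h)
      map_zero' := funext fun _ => f.map_zero
      map_add' := fun _ _ => funext fun _ => f.map_add _ _ }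
  naturality _ _ _ := rfl

/-- Functoriality of the skyscraper presheaf of modules. -/
noncomputable def skMap : skPM R x P' ⟶ skPM R x P :=
  PresheafOfModules.homMk (M₁ := skPM R x P') (M₂ := skPM R x P) (skAbMap R x f) (by
    intro V r s
    refine funext (fun h => ?_)
    exact f.map_smul _ _)

lemma skEquiv_nat (a : St (skPM R x P') x) :
    skEquiv R x P (stalkLin (skMap R x f) x a) = f (skEquiv R x P' a) := by
  obtain ⟨U, hU, s, rfl⟩ := exists_gm_eq (skPM R x P') x a
  rw [stalkLin_apply, stalkAdd_gm]
  show skEvAdd R x P (gm _ x U hU _) = f (skEvAdd R x P' (gm _ x U hU s))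
  rw [skEvAdd_gm, skEvAdd_gm]
  rfl

end Sky

section Main

variable {X : TopCat.{u}} (O : Sheaf (Opens.grothendieckTopology X) CommRingCat.{u}) (x : X)

/-- The skyscraper sheaf of modules at `x` with value the `O_x`-module `P`. -/
noncomputable def sky (P : Type u) [AddCommGroup P] [Module (Rx O.obj x) P] : ModSite.Mod O where
  val := skPM O.obj x P
  isSheaf := skAb_isSheaf x P

variable {P' P : Type u} [AddCommGroup P'] [Module (Rx O.obj x) P'] [AddCommGroup P]
  [Module (Rx O.obj x) P] (f : P' →ₗ[Rx O.obj x] P)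

/-- Functoriality of the skyscraper sheaf of modules. -/
noncomputable def skyMap : sky O x P' ⟶ sky O x P := ⟨skMap O.obj x f⟩

lemma skyMap_mono (hf : Function.Injective f) : Mono (skyMap O x f) := by
  apply (SheafOfModules.toSheaf (ModSite.ringSh O)).mono_of_mono_map
  apply Sheaf.mono_of_injective
  intro V s t hst
  refine funext (fun h => hf ?_)
  exact congrFun hst h

/-- If `- ⊗ N` preserves monomorphisms, the stalk `N_x` is flat over `O_x`. -/
theorem stalkFlat_at (N : ModSite.Mod O)
    (hN : ((ModSite.tensorBi O).flip.obj N).PreservesMonomorphisms) (x : X) :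
    Module.Flat (Rx O.obj x) (St ((toPM O).obj N) x) := by
  rw [Module.Flat.iff_rTensor_preserves_injective_linearMap'.{u, u, u}]
  intro P' P _ _ _ _ f hf
  have hmono : Mono (skyMap O x f) := skyMap_mono O x f hf
  have h1 : Mono (((ModSite.tensorBi O).flip.obj N).map (skyMap O x f)) := hN.preserves _
  have h1' : Mono ((shf O).map (skMap O.obj x f ▷ (toPM O).obj N)) := h1
  have h2 : Presheaf.IsLocallyInjective (Opens.grothendieckTopology X)
      ((PresheafOfModules.toPresheaf (R₀ O)).map (skMap O.obj x f ▷ (toPM O).obj N)) :=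
    locallyInjective_of_mono_shf_map _
  have h3 : Function.Injective (stalkAdd (skMap O.obj x f ▷ (toPM O).obj N) x) :=
    stalk_injective_of_isLocallyInjective _ x
  have h4 := rTensor_stalkLin_injective ((toPM O).obj N) x (skMap O.obj x f) h3
  exact rTensor_injective_of_conj (skEquiv O.obj x P') (skEquiv O.obj x P)
    (stalkLin (skMap O.obj x f) x) f (skEquiv_nat O.obj x f) h4

end Main

variable {X : Scheme.{u}}

/-- A tensor-flat `O_X`-module is stalkwise flat. -/
theorem stalkFlat_of_isFlat (N : ModSite.Mod X.sheaf) (hN : ModSite.IsFlat N) :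
    FlatMod.IsFlat (X := X) N := fun x =>
  stalkFlat_at (O := X.sheaf) N ((isFlat_iff_preservesMonomorphisms N).1 hN) x

/-- For `O_X`-modules on a scheme, tensor-flatness and stalkwise flatness agree. -/
theorem isFlat_iff_stalkFlat (N : ModSite.Mod X.sheaf) :
    ModSite.IsFlat N ↔ FlatMod.IsFlat (X := X) N :=
  ⟨stalkFlat_of_isFlat N, isFlat_of_stalkFlat N⟩

end Groth.Agent.H40.FlatBridge2
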