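import Groth.Agent.H40.LTensorDCoh
import Groth.Agent.H40.FlatBridge2
import Groth.Agent.H31.KFlatBounded

/-!
# Tor-amplitude of complexes of flat modules (helper40 library)
-/

set_option autoImplicit false
universe u
open CategoryTheory CategoryTheory.Limits AlgebraicGeometry HomologicalComplex
attribute [local instance] HasDerivedCategory.standard

namespace Groth.Agent.H40.TorAmp

open Groth.Agent.H31 Groth.Agent.H40.LTensorDCoh

lemma isZero_of_retract {C : Type*} [Category C] [HasZeroMorphisms C] {X Y : C} (i : X ⟶ Y)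
    (r : Y ⟶ X) (h : i ≫ r = 𝟙 X) (hY : IsZero Y) : IsZero X := by
  rw [IsZero.iff_id_eq_zero, ← h, hY.eq_of_tgt i 0, zero_comp]

variable {X : Scheme.{u}}

/-- A bounded above complex with (stalkwise) flat terms is K-flat. -/
theorem isKFlat_of_bounded_above_stalkFlat (E : CochainComplex X.Modules ℤ) (b : ℤ)
    (hb : ∀ q, b < q → IsZero (E.X q)) (hflat : ∀ n : ℤ, FlatMod.IsFlat (E.X n)) :
    DCoh.IsKFlat E :=
  KFlat.isKFlat_of_bounded_above_flat (O := X.sheaf) E b hb
    (fun n => Groth.Agent.H40.FlatBridge.isFlat_of_stalkFlat _ (hflat n))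

/-- The cohomology of `(Q P) ⊗^L G` for `P` K-flat is the cohomology of the termwise tensor
product. -/
noncomputable def HDLTensorIso (G : X.Modules) [DCoh.HasLTensorMod G]
    (P : CochainComplex X.Modules ℤ) (hP : DCoh.IsKFlat P) (i : ℤ) :
    DCoh.HD ((DCoh.LTensorMod G).obj (DCoh.toD X P)) i ≅
      (((DCoh.tensorRightMod G).mapHomologicalComplex (ComplexShape.up ℤ)).obj P).homology i :=
  (DerivedCategory.homologyFunctor X.Modules i).mapIso (LTensorModObjIso G P hP) ≪≫
    (DerivedCategory.homologyFunctorFactors X.Modules i).app _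

lemma isZero_homology_map_of_isZero (G : X.Modules) (P : CochainComplex X.Modules ℤ) (i : ℤ)
    (h : IsZero (P.X i)) :
    IsZero ((((DCoh.tensorRightMod G).mapHomologicalComplex
      (ComplexShape.up ℤ)).obj P).homology i) :=
  ShortComplex.isZero_homology_of_isZero_X₂ _ (Functor.map_isZero (DCoh.tensorRightMod G) h)

/-- The flat-representative form of tor-amplitude implies the derived-tensor form. -/
theorem hasTorAmplitudeIn_of_hasFlatAmplitudeIn {a b : ℤ} {K : DCoh.D X}
    (h : DCoh.HasFlatAmplitudeIn a b K) : DCoh.HasTorAmplitudeIn a b K := by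
  obtain ⟨E, hE, hflat, ⟨e⟩⟩ := h
  intro F _ i hi
  have hK : DCoh.IsKFlat E :=
    isKFlat_of_bounded_above_stalkFlat E b (fun q hq => hE q (Or.inr hq)) hflat
  have h1 : IsZero (DCoh.HD ((DCoh.LTensorMod F).obj (DCoh.toD X E)) i) :=
    (HDLTensorIso F E hK i).isZero_iff.2 (isZero_homology_map_of_isZero F E i (hE i hi))
  exact (((DerivedCategory.homologyFunctor X.Modules i).mapIso
    ((DCoh.LTensorMod F).mapIso e)).isZero_iff).1 h1

end Groth.Agent.H40.TorAmp
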