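import Groth.Agent.H40.LTensorComp
import Groth.Agent.H31.KFlatQuasiIsoSite
import Groth.Agent.H31.KFlatResolutionSite
import Groth.Prelude.Def_DDual2
import Groth.Prelude.Def_DTor2

/-!
# `- ⊗^L G` on K-flat complexes of O_X-modules (helper40 library)

`(LTensorMod G).obj (Q P) ≅ Q (P ⊗ G)` for a K-flat complex `P` of `O_X`-modules, where `P ⊗ G` is the
termwise tensor product.
-/

set_option autoImplicit false
universe u
open CategoryTheory CategoryTheory.Limits AlgebraicGeometry HomologicalComplex
attribute [local instance] HasDerivedCategory.standard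

namespace Groth.Agent.H40.LTensorDCoh

open Groth.Agent.H31 Groth.Agent.H31.KFlat Groth.Agent.H40.LTensorComp

section Site

variable {C : Type u} [SmallCategory C] {J : GrothendieckTopology C} {O : Sheaf J CommRingCat.{u}}

theorem KF_iff (K : CochainComplex (ModSite.Mod O) ℤ) :
    KF (ModSite.tensorBi O) K ↔ ModSite.IsKFlat K := (isKFlat_iff K).symm

/-- Termwise `- ⊗ G` sends quasi-isomorphisms between K-flat complexes to quasi-isomorphisms. -/
theorem quasiIso_map_tensorRight (G : ModSite.Mod O) {P Q : CochainComplex (ModSite.Mod O) ℤ}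
    (α : P ⟶ Q) (hα : QuasiIso α) (hP : ModSite.IsKFlat P) (hQ : ModSite.IsKFlat Q) :
    QuasiIso ((((ModSite.tensorBi O).flip.obj G).mapHomologicalComplex
      (ComplexShape.up ℤ)).map α) := by
  have := hasExactColimitsOfShape_nat_Mod (O := O)
  exact quasiIso_map_flip_obj (T := ModSite.tensorBi O) tensorLike_tensorBi α hα
    ((isKFlat_iff P).1 hP) ((isKFlat_iff Q).1 hQ) G

/-- A K-flat acyclic complex stays acyclic after termwise `- ⊗ G`. -/
theorem acyclic_map_tensorRight (G : ModSite.Mod O) {N : CochainComplex (ModSite.Mod O) ℤ}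
    (hN : ModSite.IsKFlat N) (hNa : N.Acyclic) :
    ((((ModSite.tensorBi O).flip.obj G).mapHomologicalComplex
      (ComplexShape.up ℤ)).obj N).Acyclic := by
  have := hasExactColimitsOfShape_nat_Mod (O := O)
  exact acyclic_map_flip_obj (T := ModSite.tensorBi O) tensorLike_tensorBi
    ((isKFlat_iff N).1 hN) hNa G

/-- Left derived functors on the homotopy category of `O`-modules are computed on K-flat
complexes. -/
theorem isIso_counit_app_site {H D₂ : Type*} [Category H] [Category D₂]
    (F : HomotopyCategory (ModSite.Mod O) (ComplexShape.up ℤ) ⥤ H)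
    (hF : ∀ {P Q : CochainComplex (ModSite.Mod O) ℤ} (α : P ⟶ Q), ModSite.IsKFlat P →
      ModSite.IsKFlat Q → QuasiIso α → IsIso (F.map ((HomotopyCategory.quotient _ _).map α)))
    {L₂ : HomotopyCategory (ModSite.Mod O) (ComplexShape.up ℤ) ⥤ D₂}
    (hL : L₂.IsLocalization (HomotopyCategory.quasiIso (ModSite.Mod O) (ComplexShape.up ℤ)))
    {LF : D₂ ⥤ H} (α : L₂ ⋙ LF ⟶ F)
    (hLF : LF.IsLeftDerivedFunctor α
      (HomotopyCategory.quasiIso (ModSite.Mod O) (ComplexShape.up ℤ)))
    (P : CochainComplex (ModSite.Mod O) ℤ) (hP : ModSite.IsKFlat P) :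
    IsIso (α.app ((HomotopyCategory.quotient _ _).obj P)) := by
  have := hasExactColimitsOfShape_nat_Mod (O := O)
  exact isIso_counit_app (T := ModSite.tensorBi O) tensorLike_tensorBi F
    (fun α hP hQ hα => hF α ((isKFlat_iff _).2 hP) ((isKFlat_iff _).2 hQ) hα) α P
    ((isKFlat_iff P).1 hP)

end Site

variable {X : Scheme.{u}}

/-- The counit of `- ⊗^L G` is an isomorphism on K-flat complexes. -/
theorem isIso_LTensorMod_counit_app (G : X.Modules) [DCoh.HasLTensorMod G]
    (P : CochainComplex X.Modules ℤ) (hP : DCoh.IsKFlat P) :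
    IsIso (((DCoh.tensorModKh G).totalLeftDerivedCounit DerivedCategory.Qh
      (HomotopyCategory.quasiIso X.Modules (ComplexShape.up ℤ))).app
        ((HomotopyCategory.quotient _ _).obj P)) := by
  have h1 : (DerivedCategory.Qh (C := X.Modules)).IsLocalization
      (HomotopyCategory.quasiIso X.Modules (ComplexShape.up ℤ)) := inferInstance
  have h2 : (DCoh.LTensorMod G).IsLeftDerivedFunctor
      ((DCoh.tensorModKh G).totalLeftDerivedCounit DerivedCategory.Qh
        (HomotopyCategory.quasiIso X.Modules (ComplexShape.up ℤ)))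
      (HomotopyCategory.quasiIso X.Modules (ComplexShape.up ℤ)) := inferInstance
  refine isIso_counit_app_site (O := X.sheaf) (DCoh.tensorModKh G) ?_ h1 _ h2 P hP
  intro P' Q' α hP' hQ' hα
  show IsIso (DerivedCategory.Qh.map
    (((DCoh.tensorRightMod G).mapHomotopyCategory (ComplexShape.up ℤ)).map
      ((HomotopyCategory.quotient _ _).map α)))
  rw [DerivedCategory.isIso_Qh_map_iff]
  change HomotopyCategory.quasiIso _ _ ((HomotopyCategory.quotient _ _).map
    (((DCoh.tensorRightMod G).mapHomologicalComplex _).map α))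
  rw [HomotopyCategory.quotient_map_mem_quasiIso_iff, HomologicalComplex.mem_quasiIso_iff]
  exact quasiIso_map_tensorRight (O := X.sheaf) G α hα hP' hQ'

/-- `(Q P) ⊗^L G ≅ Q (P ⊗ G)` for a K-flat complex `P`. -/
noncomputable def LTensorModObjIso (G : X.Modules) [DCoh.HasLTensorMod G]
    (P : CochainComplex X.Modules ℤ) (hP : DCoh.IsKFlat P) :
    (DCoh.LTensorMod G).obj (DCoh.toD X P) ≅
      DCoh.toD X (((DCoh.tensorRightMod G).mapHomologicalComplex (ComplexShape.up ℤ)).obj P) :=
  @asIso _ _ _ _ (((DCoh.tensorModKh G).totalLeftDerivedCounit DerivedCategory.Qh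
    (HomotopyCategory.quasiIso X.Modules (ComplexShape.up ℤ))).app
      ((HomotopyCategory.quotient _ _).obj P)) (isIso_LTensorMod_counit_app G P hP)

end Groth.Agent.H40.LTensorDCoh
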