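import Groth.Prelude
import Groth.Agent.H31.KFlatSite
import Groth.Agent.H31.FlatSite
import Groth.Agent.H31.KFlatCycles
import Groth.Agent.H31.TotFunctor

/-!
# Tensoring a module in degree 0 with a complex (helper40 library)

`termTensor E : Mod O ⥤ CochainComplex (Mod O) ℤ`, `M ↦ (M ⊗ E^•, M ⊗ d)` and the natural
isomorphism with `M ↦ Tot(M[0] ⊗ E)`.
-/

set_option autoImplicit false
set_option backward.isDefEq.respectTransparency false
universe u
open CategoryTheory CategoryTheory.Limits

namespace Groth.Agent.H40.SingleTensor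

open HomologicalComplex

variable {C : Type u} [SmallCategory C] {J : GrothendieckTopology C} {O : Sheaf J CommRingCat.{u}}

/-- `M ↦ (M ⊗ E^•, M ⊗ d)`. -/
noncomputable def termTensor (E : CochainComplex (ModSite.Mod O) ℤ) :
    ModSite.Mod O ⥤ CochainComplex (ModSite.Mod O) ℤ where
  obj M := (((ModSite.tensorBi O).obj M).mapHomologicalComplex (ComplexShape.up ℤ)).obj E
  map f := (NatTrans.mapHomologicalComplex ((ModSite.tensorBi O).map f) (ComplexShape.up ℤ)).app E
  map_id M := by ext n; simp
  map_comp f g := by ext n; simp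

@[simp] theorem termTensor_obj_X (E : CochainComplex (ModSite.Mod O) ℤ) (M : ModSite.Mod O) (n : ℤ) :
    ((termTensor E).obj M).X n = ((ModSite.tensorBi O).obj M).obj (E.X n) := rfl

@[simp] theorem termTensor_obj_d (E : CochainComplex (ModSite.Mod O) ℤ) (M : ModSite.Mod O) (i j : ℤ) :
    ((termTensor E).obj M).d i j = ((ModSite.tensorBi O).obj M).map (E.d i j) := rfl

@[simp] theorem termTensor_map_f (E : CochainComplex (ModSite.Mod O) ℤ) {M N : ModSite.Mod O}
    (f : M ⟶ N) (n : ℤ) :
    ((termTensor E).map f).f n = ((ModSite.tensorBi O).map f).app (E.X n) := rfl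

instance (E : CochainComplex (ModSite.Mod O) ℤ) : (termTensor E).Additive where
  map_add {M N f g} := by
    ext n
    simp [Functor.map_add]

theorem termTensor_shortExact (E : CochainComplex (ModSite.Mod O) ℤ)
    (hEf : ∀ i, ModSite.IsFlat (E.X i)) (S : ShortComplex (ModSite.Mod O)) (hS : S.ShortExact) :
    (S.map (termTensor E)).ShortExact := by
  apply HomologicalComplex.shortExact_of_degreewise_shortExact
  intro i
  have := (hEf i).1
  have := (hEf i).2
  exact hS.map_of_exact ((ModSite.tensorBi O).flip.obj (E.X i))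

/-- `M ↦ Tot(M[0] ⊗ E)`. -/
noncomputable def singleTensor (E : CochainComplex (ModSite.Mod O) ℤ) :
    ModSite.Mod O ⥤ CochainComplex (ModSite.Mod O) ℤ :=
  HomologicalComplex.single (ModSite.Mod O) (ComplexShape.up ℤ) 0 ⋙ (ModSite.tensorCx O).flip.obj E

theorem isZero_single_X (M : ModSite.Mod O) (p : ℤ) (hp : p ≠ 0) :
    IsZero (((HomologicalComplex.single (ModSite.Mod O) (ComplexShape.up ℤ) 0).obj M).X p) :=
  HomologicalComplex.isZero_single_obj_X _ _ _ _ hp

/-- The summand inclusion `M[0]^0 ⊗ E^n ⟶ Tot^n(M[0] ⊗ E)`. -/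
noncomputable abbrev incl (E : CochainComplex (ModSite.Mod O) ℤ) (M : ModSite.Mod O) (n : ℤ) :=
  ιMapBifunctor ((HomologicalComplex.single (ModSite.Mod O) (ComplexShape.up ℤ) 0).obj M) E
    (ModSite.tensorBi O) (ComplexShape.up ℤ) 0 n n (zero_add n)

instance (E : CochainComplex (ModSite.Mod O) ℤ) (M : ModSite.Mod O) (n : ℤ) :
    IsIso (incl E M n) :=
  Groth.Agent.H31.KFlat.isIso_ιMapBifunctor_of_isZero_left (ModSite.tensorBi O) _ E 0
    (fun p hp => isZero_single_X M p hp) n n (zero_add n)

theorem incl_d (E : CochainComplex (ModSite.Mod O) ℤ) (M : ModSite.Mod O) (n : ℤ) :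
    incl E M n ≫ ((singleTensor E).obj M).d n (n + 1) =
      ((ModSite.tensorBi O).obj _).map (E.d n (n + 1)) ≫ incl E M (n + 1) := by
  have h := Groth.Agent.H31.KFlat.ι_d (ModSite.tensorBi O)
    ((HomologicalComplex.single (ModSite.Mod O) (ComplexShape.up ℤ) 0).obj M) E 0 n n (n + 1)
    (zero_add n) (by show (0 : ℤ) + 1 + n = n + 1; omega) (by show (0 : ℤ) + (n + 1) = n + 1; omega)
  have hε : ComplexShape.ε₂ (ComplexShape.up ℤ) (ComplexShape.up ℤ) (ComplexShape.up ℤ)
      ((0 : ℤ), n) = 1 := rfl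
  rw [hε, one_smul, HomologicalComplex.single_obj_d, Functor.map_zero, NatTrans.app_zero,
    zero_comp, smul_zero, zero_add] at h
  exact h

/-- Degreewise isomorphism `M ⊗ E^n ≅ Tot^n(M[0] ⊗ E)`. -/
noncomputable def compIso (E : CochainComplex (ModSite.Mod O) ℤ) (M : ModSite.Mod O) (n : ℤ) :
    ((termTensor E).obj M).X n ≅ ((singleTensor E).obj M).X n :=
  ((ModSite.tensorBi O).mapIso
      (HomologicalComplex.singleObjXSelf (ComplexShape.up ℤ) 0 M).symm).app (E.X n) ≪≫
    asIso (incl E M n)

theorem compIso_hom (E : CochainComplex (ModSite.Mod O) ℤ) (M : ModSite.Mod O) (n : ℤ) :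
    (compIso E M n).hom =
      ((ModSite.tensorBi O).map
        (HomologicalComplex.singleObjXSelf (ComplexShape.up ℤ) 0 M).inv).app (E.X n) ≫
        incl E M n := rfl

/-- `(M ⊗ E^•, M ⊗ d) ≅ Tot(M[0] ⊗ E)`. -/
noncomputable def objIso (E : CochainComplex (ModSite.Mod O) ℤ) (M : ModSite.Mod O) :
    (termTensor E).obj M ≅ (singleTensor E).obj M :=
  HomologicalComplex.Hom.isoOfComponents (fun n => compIso E M n) (by
    rintro i j (rfl : i + 1 = j)
    rw [compIso_hom, compIso_hom, Category.assoc, incl_d, termTensor_obj_d]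
    rw [← Category.assoc, ← Category.assoc]
    congr 1
    exact (((ModSite.tensorBi O).map
      (HomologicalComplex.singleObjXSelf (ComplexShape.up ℤ) 0 M).inv).naturality
        (E.d i (i + 1))).symm)

@[simp] theorem objIso_hom_f (E : CochainComplex (ModSite.Mod O) ℤ) (M : ModSite.Mod O) (n : ℤ) :
    (objIso E M).hom.f n = (compIso E M n).hom := rfl

/-- The natural isomorphism `(M ↦ (M ⊗ E^•, M ⊗ d)) ≅ (M ↦ Tot(M[0] ⊗ E))`. -/
noncomputable def natIso (E : CochainComplex (ModSite.Mod O) ℤ) :
    termTensor E ≅ singleTensor E :=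
  NatIso.ofComponents (objIso E) (by
    intro M N f
    refine HomologicalComplex.hom_ext _ _ (fun n => ?_)
    rw [HomologicalComplex.comp_f, HomologicalComplex.comp_f, objIso_hom_f, objIso_hom_f,
      compIso_hom, compIso_hom, termTensor_map_f]
    have h1 : ((singleTensor E).map f).f n =
        (mapBifunctorMap ((HomologicalComplex.single (ModSite.Mod O) (ComplexShape.up ℤ) 0).map f)
          (𝟙 E) (ModSite.tensorBi O) (ComplexShape.up ℤ)).f n := rfl
    rw [h1, Category.assoc, ι_mapBifunctorMap, HomologicalComplex.single_map_f_self,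
      HomologicalComplex.id_f, CategoryTheory.Functor.map_id, Category.id_comp]
    rw [← Category.assoc, ← Category.assoc, ← NatTrans.comp_app, ← NatTrans.comp_app,
      ← CategoryTheory.Functor.map_comp, ← CategoryTheory.Functor.map_comp]
    congr 3)

end Groth.Agent.H40.SingleTensor
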