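import Groth.Agent.H53.SiteTensor
import Groth.Agent.H53.CxDerive
import Groth.Agent.H31.KFlatTriangle
import Groth.Agent.H31.KFlatQuasiIsoSite
import Groth.Agent.H31.KFlatResolutionSite
import Groth.Agent.H40.SingleTensor

/-!
# `- ⊗^L E` on a ringed site: computed on left K-flat complexes, and invariant under
quasi-isomorphisms of the fixed factor (helper40 library)

* `adapted E` : left K-flat complexes are adapted to `F ↦ Q (Tot (F ⊗ E))`;
* `isIso_counit_app E K hK` : the counit of `LTensorCx E` is an isomorphism at a left K-flat `K`;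
* `invIso q hq hP` : `LTensorCx P ≅ LTensorCx E` for a quasi-isomorphism `q : P ⟶ E` with `P` K-flat;
* `homologyIso E hE p` : `single₀ ⋙ LTensorCx E ⋙ H^p ≅ termTensor E ⋙ H^p` for K-flat `E`.
-/

set_option autoImplicit false
universe u
open CategoryTheory CategoryTheory.Limits HomologicalComplex
attribute [local instance] HasDerivedCategory.standard

namespace Groth.Agent.H40.LTensorInv

open Groth.Agent.H31 Groth.Agent.H31.KFlat Groth.Agent.H40.LTensorComp Groth.Agent.H40.LeftDer
  Groth.Agent.H53.SiteTensor Groth.Agent.H53.CxDerive Groth.Agent.H40.SingleTensor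

variable {C : Type u} [SmallCategory C] {J : GrothendieckTopology C} {O : Sheaf J CommRingCat.{u}}

/-- `Tot(- ⊗ E)` sends homotopy equivalences to quasi-isomorphisms. -/
theorem quasiIso_map_of_homotopyEquiv (E : CochainComplex (ModSite.Mod O) ℤ)
    {K K' : CochainComplex (ModSite.Mod O) ℤ} (e : HomotopyEquiv K K') :
    QuasiIso (((ModSite.tensorCx O).flip.obj E).map e.hom) := by
  let G := (ModSite.tensorCx O).flip.obj E
  have H1 := mapBifunctorMapHomotopy₁ e.homotopyHomInvId (𝟙 E) (ModSite.tensorBi O)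
    (ComplexShape.up ℤ)
  have H2 := mapBifunctorMapHomotopy₁ e.homotopyInvHomId (𝟙 E) (ModSite.tensorBi O)
    (ComplexShape.up ℤ)
  have e1 : mapBifunctorMap (𝟙 K) (𝟙 E) (ModSite.tensorBi O) (ComplexShape.up ℤ) = 𝟙 _ :=
    G.map_id K
  have e1' : mapBifunctorMap (𝟙 K') (𝟙 E) (ModSite.tensorBi O) (ComplexShape.up ℤ) = 𝟙 _ :=
    G.map_id K'
  have e2 : mapBifunctorMap (e.hom ≫ e.inv) (𝟙 E) (ModSite.tensorBi O) (ComplexShape.up ℤ) =
      G.map e.hom ≫ G.map e.inv := G.map_comp e.hom e.inv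
  have e2' : mapBifunctorMap (e.inv ≫ e.hom) (𝟙 E) (ModSite.tensorBi O) (ComplexShape.up ℤ) =
      G.map e.inv ≫ G.map e.hom := G.map_comp e.inv e.hom
  rw [e1, e2] at H1
  rw [e1', e2'] at H2
  let e' : HomotopyEquiv (G.obj K) (G.obj K') :=
    { hom := G.map e.hom, inv := G.map e.inv, homotopyHomInvId := H1, homotopyInvHomId := H2 }
  exact HomotopyEquiv.quasiIso_hom e'

/-- A left K-flat acyclic complex tensored with anything is acyclic. -/
theorem acyclic_tensor_of_lkf_acyclic {N : CochainComplex (ModSite.Mod O) ℤ}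
    (hN : KF (Tf O) N) (hNa : N.Acyclic) (E : CochainComplex (ModSite.Mod O) ℤ) :
    (mapBifunctor N E (ModSite.tensorBi O) (ComplexShape.up ℤ)).Acyclic := by
  have := hasExactColimitsOfShape_nat_Mod (O := O)
  have h1 := acyclic_mapBifunctor_of_KF_acyclic (tensorLike_Tf O) hN hNa E
  exact acyclic_of_iso (mapBifunctorFlipIso N E (ModSite.tensorBi O) (ComplexShape.up ℤ)) h1

/-- A left K-flat complex tensored with an acyclic complex is acyclic. -/
theorem acyclic_tensor_of_lkf {K : CochainComplex (ModSite.Mod O) ℤ}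
    (hK : KF (Tf O) K) {N : CochainComplex (ModSite.Mod O) ℤ} (hN : N.Acyclic) :
    (mapBifunctor K N (ModSite.tensorBi O) (ComplexShape.up ℤ)).Acyclic :=
  acyclic_of_iso (mapBifunctorFlipIso K N (ModSite.tensorBi O) (ComplexShape.up ℤ)) (hK N hN)

/-- Left K-flat complexes are adapted to `F ↦ Q (Tot (F ⊗ E))`. -/
theorem adapted (E : CochainComplex (ModSite.Mod O) ℤ) :
    Adapted (lkfl O) (ModSite.tensorCxQ E) where
  res := by
    have := hasExactColimitsOfShape_nat_Mod (O := O)
    exact hasLeftRes (tensorLike_Tf O)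
  inv₁ := by
    rintro K K' f ⟨e, rfl⟩
    show IsIso (DerivedCategory.Q.map (((ModSite.tensorCx O).flip.obj E).map e.hom))
    exact (DerivedCategory.isIso_Q_map_iff_quasiIso _ _).2 (quasiIso_map_of_homotopyEquiv E e)
  inv₂ := by
    intro P P' f hP hP' hf
    have hP1 : KF (Tf O) P := hP
    have hP2 : KF (Tf O) P' := hP'
    have hC : (CochainComplex.mappingCone f).Acyclic :=
      (quasiIso_iff_acyclic_mappingCone f).1 hf
    have hCK : KF (Tf O) (CochainComplex.mappingCone f) := fun L hL =>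
      (acyclic_mappingCone_right (Tf O) L f).1 (hP1 L hL) (hP2 L hL)
    have h3 : QuasiIso (mapBifunctorMap f (𝟙 E) (ModSite.tensorBi O) (ComplexShape.up ℤ)) :=
      quasiIso_mapBifunctorMap_left (ModSite.tensorBi O) f E
        (acyclic_tensor_of_lkf_acyclic hCK hC E)
    show IsIso (DerivedCategory.Q.map (((ModSite.tensorCx O).flip.obj E).map f))
    exact (DerivedCategory.isIso_Q_map_iff_quasiIso _ _).2 h3

/-- The counit of `LTensorCx E`. -/
noncomputable abbrev ε (E : CochainComplex (ModSite.Mod O) ℤ) [ModSite.HasLTensorCx E] :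
    DerivedCategory.Q ⋙ ModSite.LTensorCx E ⟶ ModSite.tensorCxQ E :=
  (ModSite.tensorCxQ E).totalLeftDerivedCounit DerivedCategory.Q
    (HomologicalComplex.quasiIso (ModSite.Mod O) (ComplexShape.up ℤ))

/-- The counit of `LTensorCx E` is an isomorphism at left K-flat complexes. -/
theorem isIso_ε_app (E : CochainComplex (ModSite.Mod O) ℤ) [ModSite.HasLTensorCx E]
    (K : CochainComplex (ModSite.Mod O) ℤ) (hK : KF (Tf O) K) : IsIso ((ε E).app K) :=
  (adapted E).isIso_app (ModSite.LTensorCx E) (ε E) K hK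

/-- For `E` K-flat, the counit of `LTensorCx E` is an isomorphism. -/
theorem isIso_ε_of_isKFlat (E : CochainComplex (ModSite.Mod O) ℤ) [ModSite.HasLTensorCx E]
    (hE : ModSite.IsKFlat E) : IsIso (ε E) := by
  have hinv : (HomologicalComplex.quasiIso (ModSite.Mod O) (ComplexShape.up ℤ)).IsInvertedBy
      (ModSite.tensorCxQ E) := by
    intro K K' φ hφ
    have hq : QuasiIso φ := hφ
    have h2 : QuasiIso (((ModSite.tensorCx O).flip.obj E).map φ) :=
      quasiIso_tensor_of_isKFlat E ((isKFlat_iff E).1 hE) φ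
    show IsIso (DerivedCategory.Q.map (((ModSite.tensorCx O).flip.obj E).map φ))
    exact (DerivedCategory.isIso_Q_map_iff_quasiIso _ _).2 h2
  exact Functor.isIso_of_isLeftDerivedFunctor_of_inverts _ _ hinv

/-- The natural transformation `Q (Tot (- ⊗ P)) ⟶ Q (Tot (- ⊗ E))` induced by `q : P ⟶ E`. -/
noncomputable abbrev τ {P E : CochainComplex (ModSite.Mod O) ℤ} (q : P ⟶ E) :
    ModSite.tensorCxQ P ⟶ ModSite.tensorCxQ E :=
  Functor.whiskerRight ((ModSite.tensorCx O).flip.map q) DerivedCategory.Q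

theorem isIso_τ_app {P E : CochainComplex (ModSite.Mod O) ℤ} (q : P ⟶ E) (hq : QuasiIso q)
    (K : CochainComplex (ModSite.Mod O) ℤ) (hK : KF (Tf O) K) : IsIso ((τ q).app K) := by
  have hC : (CochainComplex.mappingCone q).Acyclic := (quasiIso_iff_acyclic_mappingCone q).1 hq
  have h3 : QuasiIso (mapBifunctorMap (𝟙 K) q (ModSite.tensorBi O) (ComplexShape.up ℤ)) :=
    quasiIso_mapBifunctorMap_right (ModSite.tensorBi O) K q (acyclic_tensor_of_lkf hK hC)
  show IsIso (DerivedCategory.Q.map (mapBifunctorMap (𝟙 K) q (ModSite.tensorBi O)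
    (ComplexShape.up ℤ)))
  exact (DerivedCategory.isIso_Q_map_iff_quasiIso _ _).2 h3

/-- For a quasi-isomorphism `q : P ⟶ E` with `P` K-flat, `LTensorCx P` is also a left derived
functor of `F ↦ Q (Tot (F ⊗ E))`. -/
theorem isLeftDerivedFunctor_of_quasiIso {P E : CochainComplex (ModSite.Mod O) ℤ} (q : P ⟶ E)
    (hq : QuasiIso q) (hP : ModSite.IsKFlat P) [ModSite.HasLTensorCx P] :
    (ModSite.LTensorCx P).IsLeftDerivedFunctor (ε P ≫ τ q)
      (HomologicalComplex.quasiIso (ModSite.Mod O) (ComplexShape.up ℤ)) := by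
  refine (adapted E).isLeftDerivedFunctor_of_isIso (ModSite.LTensorCx P) (ε P ≫ τ q) ?_
  intro K hK
  have h1 : IsIso (ε P) := isIso_ε_of_isKFlat P hP
  have h2 : IsIso ((τ q).app K) := isIso_τ_app q hq K hK
  rw [NatTrans.comp_app]
  infer_instance

/-- Invariance of the derived tensor product in the fixed variable. -/
noncomputable def invIso {P E : CochainComplex (ModSite.Mod O) ℤ} (q : P ⟶ E)
    (hq : QuasiIso q) (hP : ModSite.IsKFlat P) [ModSite.HasLTensorCx P] [ModSite.HasLTensorCx E] :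
    ModSite.LTensorCx P ≅ ModSite.LTensorCx E :=
  haveI := isLeftDerivedFunctor_of_quasiIso q hq hP
  Functor.leftDerivedUnique (ModSite.LTensorCx E) (ModSite.LTensorCx P) (ε P ≫ τ q) (ε E)
    (HomologicalComplex.quasiIso (ModSite.Mod O) (ComplexShape.up ℤ))

/-- For `E` K-flat: `M ↦ H^p(M ⊗^L E)` is `M ↦ H^p(M ⊗ E^•)`. -/
noncomputable def homologyIso (E : CochainComplex (ModSite.Mod O) ℤ) [ModSite.HasLTensorCx E]
    (hE : ModSite.IsKFlat E) (p : ℤ) :
    DerivedCategory.singleFunctor (ModSite.Mod O) 0 ⋙ ModSite.LTensorCx E ⋙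
        DerivedCategory.homologyFunctor (ModSite.Mod O) p ≅
      termTensor E ⋙ HomologicalComplex.homologyFunctor (ModSite.Mod O) (ComplexShape.up ℤ) p :=
  haveI := isIso_ε_of_isKFlat E hE
  let α : DerivedCategory.Q ⋙ ModSite.LTensorCx E ≅ ModSite.tensorCxQ E := asIso (ε E)
  let S := CochainComplex.singleFunctor (ModSite.Mod O) 0
  let L := ModSite.LTensorCx E
  let Hd := DerivedCategory.homologyFunctor (ModSite.Mod O) p
  let i1 : DerivedCategory.singleFunctor (ModSite.Mod O) 0 ⋙ L ⋙ Hd ≅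
      (S ⋙ DerivedCategory.Q) ⋙ L ⋙ Hd :=
    Functor.isoWhiskerRight (DerivedCategory.singleFunctorIsoCompQ (ModSite.Mod O) 0) _
  let i2 : (S ⋙ DerivedCategory.Q) ⋙ L ⋙ Hd ≅
      S ⋙ ((ModSite.tensorCx O).flip.obj E ⋙ DerivedCategory.Q) ⋙ Hd :=
    Functor.isoWhiskerLeft S (Functor.isoWhiskerRight α Hd)
  let i3 : S ⋙ ((ModSite.tensorCx O).flip.obj E ⋙ DerivedCategory.Q) ⋙ Hd ≅
      S ⋙ (ModSite.tensorCx O).flip.obj E ⋙
        HomologicalComplex.homologyFunctor (ModSite.Mod O) (ComplexShape.up ℤ) p :=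
    Functor.isoWhiskerLeft S (Functor.isoWhiskerLeft ((ModSite.tensorCx O).flip.obj E)
      (DerivedCategory.homologyFunctorFactors (ModSite.Mod O) p))
  let i4 : S ⋙ (ModSite.tensorCx O).flip.obj E ⋙
        HomologicalComplex.homologyFunctor (ModSite.Mod O) (ComplexShape.up ℤ) p ≅
      termTensor E ⋙ HomologicalComplex.homologyFunctor (ModSite.Mod O) (ComplexShape.up ℤ) p :=
    Functor.isoWhiskerRight (natIso E).symm
      (HomologicalComplex.homologyFunctor (ModSite.Mod O) (ComplexShape.up ℤ) p)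
  i1 ≪≫ i2 ≪≫ i3 ≪≫ i4

end Groth.Agent.H40.LTensorInv
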