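import Groth.Agent.H31.StalkPullback
import Groth.Agent.H40.FlatBridge2

/-!
# The pullback of a flat module is flat (helper40 library)
-/

set_option autoImplicit false
set_option backward.isDefEq.respectTransparency false
universe u
open CategoryTheory CategoryTheory.Limits AlgebraicGeometry

namespace Groth.Agent.H40.FlatPullback

open Groth.Agent.H31.Stalk Groth.Agent.H40.StalkTensor

lemma flat_extendScalars {A B : Type u} [CommRing A] [CommRing B] (φ : A →+* B)
    (M : ModuleCat.{u} A) [Module.Flat A M] :
    Module.Flat B ((ModuleCat.extendScalars.{u, u, u} φ).obj M) := by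
  letI : Algebra A B := ((algebraMap B B).comp φ).toAlgebra
  exact (inferInstance : Module.Flat B (TensorProduct A B M))

variable {X Y : Scheme.{u}}

/-- The pullback of a (stalkwise) flat module is (stalkwise) flat. -/
theorem isFlat_pullback (f : X ⟶ Y) (M : Y.Modules) (hM : FlatMod.IsFlat M) :
    FlatMod.IsFlat ((Scheme.Modules.pullback f).obj M) := by
  intro x
  have e : (stk (shX X) x).obj ((Scheme.Modules.pullback f).obj M) ≅
      (ModuleCat.extendScalars.{u, u, u} (φx f x)).obj ((stk (shX Y) (f x)).obj M) :=
    (stkPullbackIso f x).app M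
  have hflat : Module.Flat (Rx (shX Y).obj (f x)) ((stk (shX Y) (f x)).obj M) := hM (f x)
  have h2 : Module.Flat (Rx (shX X).obj x)
      ((ModuleCat.extendScalars.{u, u, u} (φx f x)).obj ((stk (shX Y) (f x)).obj M)) :=
    flat_extendScalars (φx f x) _
  have h3 : Module.Flat (Rx (shX X).obj x)
      ((stk (shX X) x).obj ((Scheme.Modules.pullback f).obj M)) :=
    Module.Flat.of_linearEquiv e.toLinearEquiv
  exact h3

end Groth.Agent.H40.FlatPullback
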