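import Groth.Agent.H40.StalkTensor
import Groth.Agent.H31.KFlatSch
import Groth.Prelude.Def_FlatMod2
import Groth.Prelude.Def_DCoh4

/-!
# Stalkwise flat O_X-modules are tensor-flat (helper40 library)

For a scheme `X`, an `O_X`-module all of whose stalks are flat (`FlatMod.IsFlat`) is flat in the sense
of `ModSite.IsFlat` (tensoring with it is exact), where `X.Modules = ModSite.Mod X.sheaf`
definitionally.
-/

set_option autoImplicit false
universe u
open CategoryTheory CategoryTheory.Limits Opposite TopologicalSpace MonoidalCategory AlgebraicGeometry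

namespace Groth.Agent.H40.FlatBridge

open Groth.Agent.H31 Groth.Agent.H40.StalkTensor

section Site

variable {C : Type u} [SmallCategory C] {J : GrothendieckTopology C} {O : Sheaf J CommRingCat.{u}}

/-- A locally injective morphism of presheaves of modules becomes a monomorphism after
sheafification. -/
lemma mono_shf_map_of_locallyInjective {A B : PM O} (ψ : A ⟶ B)
    (h : Presheaf.IsLocallyInjective J ((PresheafOfModules.toPresheaf (R₀ O)).map ψ)) :
    Mono ((shf O).map ψ) := by
  have h1 : Sheaf.IsLocallyInjective ((presheafToSheaf J AddCommGrpCat.{u}).map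
      ((PresheafOfModules.toPresheaf (R₀ O)).map ψ)) :=
    (Presheaf.isLocallyInjective_presheafToSheaf_map_iff J _).2 h
  have h2 : Mono ((presheafToSheaf J AddCommGrpCat.{u}).map
      ((PresheafOfModules.toPresheaf (R₀ O)).map ψ)) :=
    Sheaf.mono_of_isLocallyInjective _
  have h3 : Mono ((SheafOfModules.toSheaf (ModSite.ringSh O)).map ((shf O).map ψ)) := h2
  exact (SheafOfModules.toSheaf (ModSite.ringSh O)).mono_of_mono_map h3

end Site

variable {X : Scheme.{u}}

/-- A monomorphism of `O_X`-modules is injective on stalks. -/
lemma stalkAdd_injective_of_mono {A B : ModSite.Mod X.sheaf} (f : A ⟶ B) [Mono f] (x : X) :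
    Function.Injective (stalkAdd (R := X.sheaf.obj) ((toPM X.sheaf).map f) x) := by
  have : Mono ((toPM X.sheaf).map f) := inferInstance
  have h1 : ∀ U, Function.Injective (((toPM X.sheaf).map f).app U) :=
    PresheafOfModules.injective_of_mono _
  exact TopCat.Presheaf.stalkFunctor_map_injective_of_app_injective
    (f := (PresheafOfModules.toPresheaf _).map ((toPM X.sheaf).map f)) (fun U => h1 (op U)) x

/-- Tensoring with a stalkwise flat module preserves monomorphisms. -/
theorem preservesMono_of_stalkFlat (N : ModSite.Mod X.sheaf)
    (hN : FlatMod.IsFlat (X := X) N) :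
    ((ModSite.tensorBi X.sheaf).flip.obj N).PreservesMonomorphisms := by
  constructor
  intro A B f hf
  show Mono ((shf X.sheaf).map ((toPM X.sheaf).map f ▷ (toPM X.sheaf).obj N))
  apply mono_shf_map_of_locallyInjective
  apply isLocallyInjective_of_stalk_injective
  intro x
  have hx : Module.Flat (Rx X.sheaf.obj x) (St ((toPM X.sheaf).obj N) x) := hN x
  exact stalkAdd_whiskerRight_injective (R := X.sheaf.obj) ((toPM X.sheaf).map f)
    ((toPM X.sheaf).obj N) x (stalkAdd_injective_of_mono f x)

/-- A stalkwise flat `O_X`-module is flat in the tensor-exactness sense. -/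
theorem isFlat_of_stalkFlat (N : ModSite.Mod X.sheaf) (hN : FlatMod.IsFlat (X := X) N) :
    ModSite.IsFlat N :=
  (isFlat_iff_preservesMonomorphisms N).2 (preservesMono_of_stalkFlat N hN)

end Groth.Agent.H40.FlatBridge
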