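import Groth.Agent.H31.KFlat
import Mathlib.Algebra.Homology.Embedding.CochainComplex
import Mathlib.CategoryTheory.Functor.OfSequence
import Mathlib.Algebra.Homology.ShortComplex.FunctorEquivalence
import Mathlib.Algebra.Homology.ShortComplex.ExactFunctor

/-!
# Bounded above complexes of flat objects are K-flat (helper40 library, generic)
-/

set_option autoImplicit false

namespace Groth.Agent.H40.KFlatBdd

open CategoryTheory Limits HomologicalComplex

section General

variable {B : Type*} [Category B] [Abelian B]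

/-- Exactness at `n` transfers along a morphism which is an isomorphism in degrees
`n - 1`, `n`, `n + 1`. -/
theorem exactAt_of_isIso_three {T T' : CochainComplex B ℤ} (f : T ⟶ T') (n : ℤ)
    (h₁ : IsIso (f.f (n - 1))) (h₂ : IsIso (f.f n)) (h₃ : IsIso (f.f (n + 1)))
    (h : T'.ExactAt n) : T.ExactAt n := by
  have hq : QuasiIsoAt f n := by
    rw [quasiIsoAt_iff' f (n - 1) n (n + 1) (by simp) (by simp)]
    let φ := (shortComplexFunctor' B (ComplexShape.up ℤ) (n - 1) n (n + 1)).map f
    have : IsIso φ.τ₁ := h₁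
    have : IsIso φ.τ₂ := h₂
    have : IsIso φ.τ₃ := h₃
    exact ShortComplex.quasiIso_of_epi_of_isIso_of_mono φ
  exact (quasiIsoAt_iff_exactAt' f n h).1 hq

/-- An acyclic complex concentrated in degrees `t - 1` and `t` is contractible. -/
theorem homotopy_of_width_two (M : CochainComplex B ℤ) (t : ℤ) (hM : M.Acyclic)
    (hz : ∀ i : ℤ, i ≠ t - 1 → i ≠ t → IsZero (M.X i)) : Nonempty (Homotopy (𝟙 M) 0) := by
  have hmono : Mono (M.d (t - 1) t) := by
    have h1 := (M.exactAt_iff' (t - 1 - 1) (t - 1) t (by simp) (by simp)).1 (hM (t - 1))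
    exact (ShortComplex.exact_iff_mono _
      ((hz (t - 1 - 1) (by omega) (by omega)).eq_of_src _ _)).1 h1
  have hepi : Epi (M.d (t - 1) t) := by
    have h1 := (M.exactAt_iff' (t - 1) t (t + 1) (by simp) (by simp)).1 (hM t)
    exact (ShortComplex.exact_iff_epi _
      ((hz (t + 1) (by omega) (by omega)).eq_of_tgt _ _)).1 h1
  have hiso : IsIso (M.d (t - 1) t) := isIso_of_mono_of_epi _
  refine ⟨{ hom := fun i j => if h : i = t ∧ j = t - 1 then
              eqToHom (by rw [h.1]) ≫ inv (M.d (t - 1) t) ≫ eqToHom (by rw [h.2]) else 0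
            zero := fun i j hij => by
              rw [dif_neg]
              rintro ⟨rfl, rfl⟩
              exact hij (by simp)
            comm := fun i => ?_ }⟩
  by_cases h1 : i = t
  · subst h1
    rw [dNext_eq _ (show (ComplexShape.up ℤ).Rel i (i + 1) from rfl),
      prevD_eq _ (show (ComplexShape.up ℤ).Rel (i - 1) i by simp)]
    rw [dif_neg (by omega), dif_pos ⟨rfl, rfl⟩]
    simp
  · by_cases h2 : i = t - 1
    · subst h2
      rw [dNext_eq _ (show (ComplexShape.up ℤ).Rel (t - 1) t by simp),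
        prevD_eq _ (show (ComplexShape.up ℤ).Rel (t - 1 - 1) (t - 1) by simp)]
      rw [dif_pos ⟨rfl, rfl⟩, dif_neg (by omega)]
      simp
    · exact (hz i h2 h1).eq_of_src _ _

end General

section AB5

variable {D : Type*} [Category D] [Abelian D]

/-- A short complex of functors which is pointwise exact is exact. -/
theorem exact_of_evaluation {J : Type*} [Category J] (S : ShortComplex (J ⥤ D))
    (h : ∀ j, (S.map ((evaluation J D).obj j)).Exact) : S.Exact := by
  rw [ShortComplex.exact_iff_isZero_homology]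
  apply Functor.isZero
  intro j
  have hj := h j
  rw [ShortComplex.exact_iff_isZero_homology] at hj
  exact IsZero.of_iso hj (S.mapHomologyIso ((evaluation J D).obj j)).symm

variable [HasColimitsOfShape ℕ D] [HasExactColimitsOfShape ℕ D]

/-- AB5: a sequential colimit (computed degreewise) of acyclic complexes is acyclic. -/
theorem acyclic_of_isColimit (𝒯 : ℕ ⥤ CochainComplex D ℤ) (c : Cocone 𝒯)
    (hc : ∀ j : ℤ, IsColimit ((eval D (ComplexShape.up ℤ) j).mapCocone c))
    (h : ∀ m, (𝒯.obj m).Acyclic) : c.pt.Acyclic := by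
  intro n
  rw [HomologicalComplex.exactAt_iff' _ (n - 1) n (n + 1) (by simp) (by simp)]
  let G : ℕ ⥤ ShortComplex D :=
    𝒯 ⋙ shortComplexFunctor' D (ComplexShape.up ℤ) (n - 1) n (n + 1)
  let S : ShortComplex (ℕ ⥤ D) := (ShortComplex.functorEquivalence ℕ D).inverse.obj G
  have hS : S.Exact := exact_of_evaluation S (fun m =>
    (HomologicalComplex.exactAt_iff' _ (n - 1) n (n + 1) (by simp) (by simp)).1 (h m n))
  have : PreservesFiniteLimits (colim (J := ℕ) (C := D)) :=
    HasExactColimitsOfShape.preservesFiniteLimits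
  have hadd : (colim (J := ℕ) (C := D)).Additive := by
    have := preservesBinaryBiproducts_of_preservesBinaryCoproducts (colim (J := ℕ) (C := D))
    exact Functor.additive_of_preservesBinaryBiproducts _
  have hS' : (S.map colim).Exact := hS.map colim
  refine ShortComplex.exact_of_iso ?_ hS'
  refine ShortComplex.isoMk
    (IsColimit.coconePointUniqueUpToIso (colimit.isColimit _) (hc (n - 1)))
    (IsColimit.coconePointUniqueUpToIso (colimit.isColimit _) (hc n))
    (IsColimit.coconePointUniqueUpToIso (colimit.isColimit _) (hc (n + 1))) ?_ ?_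
  · apply colimit.hom_ext
    intro m
    have e1 := IsColimit.comp_coconePointUniqueUpToIso_hom
      (colimit.isColimit (𝒯 ⋙ eval D (ComplexShape.up ℤ) (n - 1))) (hc (n - 1)) m
    have e2 := IsColimit.comp_coconePointUniqueUpToIso_hom
      (colimit.isColimit (𝒯 ⋙ eval D (ComplexShape.up ℤ) n)) (hc n) m
    have e3 : colimit.ι (𝒯 ⋙ eval D (ComplexShape.up ℤ) (n - 1)) m ≫ colimMap S.f =
        S.f.app m ≫ colimit.ι (𝒯 ⋙ eval D (ComplexShape.up ℤ) n) m := ι_colimMap _ _
    refine Eq.symm ?_
    refine ((Category.assoc _ _ _).symm.trans ((congrArg (· ≫ _) e3).trans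
      ((Category.assoc _ _ _).trans (congrArg (S.f.app m ≫ ·) e2)))).trans ?_
    refine Eq.trans ?_ ((congrArg (· ≫ c.pt.d (n - 1) n) e1.symm).trans (Category.assoc _ _ _))
    exact ((c.ι.app m).comm (n - 1) n).symm
  · apply colimit.hom_ext
    intro m
    have e1 := IsColimit.comp_coconePointUniqueUpToIso_hom
      (colimit.isColimit (𝒯 ⋙ eval D (ComplexShape.up ℤ) n)) (hc n) m
    have e2 := IsColimit.comp_coconePointUniqueUpToIso_hom
      (colimit.isColimit (𝒯 ⋙ eval D (ComplexShape.up ℤ) (n + 1))) (hc (n + 1)) m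
    have e3 : colimit.ι (𝒯 ⋙ eval D (ComplexShape.up ℤ) n) m ≫ colimMap S.g =
        S.g.app m ≫ colimit.ι (𝒯 ⋙ eval D (ComplexShape.up ℤ) (n + 1)) m := ι_colimMap _ _
    refine Eq.symm ?_
    refine ((Category.assoc _ _ _).symm.trans ((congrArg (· ≫ _) e3).trans
      ((Category.assoc _ _ _).trans (congrArg (S.g.app m ≫ ·) e2)))).trans ?_
    refine Eq.trans ?_ ((congrArg (· ≫ c.pt.d n (n + 1)) e1.symm).trans (Category.assoc _ _ _))
    exact ((c.ι.app m).comm n (n + 1)).symm

end AB5

section Trunc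

open ComplexShape

variable {C : Type*} [Category C] [Abelian C] (M : CochainComplex C ℤ)

/-- `πTruncGE` is an isomorphism in degrees `> n`. -/
theorem isIso_πTruncGE_f (n i : ℤ) (hi : n < i) : IsIso ((M.πTruncGE n).f i) := by
  have hk : (embeddingUpIntGE n).f (i - n).natAbs = i := by
    have : ((i - n).natAbs : ℤ) = i - n := Int.natAbs_of_nonneg (by omega)
    show n + ((i - n).natAbs : ℤ) = i
    omega
  have hb : ¬ (embeddingUpIntGE n).BoundaryGE (i - n).natAbs := by
    rw [boundaryGE_embeddingUpIntGE_iff, Int.natAbs_eq_zero]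
    omega
  have h1 := HomologicalComplex.isIso_restrictionToTruncGE' M (embeddingUpIntGE n) _ hb
  have h2 : IsIso ((HomologicalComplex.πTruncGE M (embeddingUpIntGE n)).f i) :=
    ((embeddingUpIntGE n).isIso_liftExtend_f_iff _ _ hk).2 h1
  exact h2

/-- `ιTruncLE` is an isomorphism in degrees `< n`. -/
theorem isIso_ιTruncLE_f (n i : ℤ) (hi : i < n) : IsIso ((M.ιTruncLE n).f i) := by
  have hk : (embeddingUpIntLE n).f (n - i).natAbs = i := by
    have : ((n - i).natAbs : ℤ) = n - i := Int.natAbs_of_nonneg (by omega)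
    show n - ((n - i).natAbs : ℤ) = i
    omega
  have hb : ¬ (embeddingUpIntLE n).BoundaryLE (n - i).natAbs := by
    rw [boundaryLE_embeddingUpIntLE_iff, Int.natAbs_eq_zero]
    omega
  have h1 := HomologicalComplex.isIso_restrictionToTruncGE' M.op (embeddingUpIntLE n).op _
    (by simpa using hb)
  have h2 : IsIso ((M.op.πTruncGE (embeddingUpIntLE n).op).f i) :=
    ((embeddingUpIntLE n).op.isIso_liftExtend_f_iff _ _ hk).2 h1
  exact inferInstanceAs (IsIso ((M.op.πTruncGE (embeddingUpIntLE n).op).f i).unop)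

/-- The transition morphisms between canonical truncations. -/
noncomputable def truncLETrans (a a' : ℤ) (h : a ≤ a') : M.truncLE a ⟶ M.truncLE a' :=
  haveI : (M.truncLE a).IsStrictlyLE a' := CochainComplex.isStrictlyLE_of_le _ a a' h
  inv ((M.truncLE a).ιTruncLE a') ≫ CochainComplex.truncLEMap (M.ιTruncLE a) a'

@[reassoc]
lemma truncLETrans_ι (a a' : ℤ) (h : a ≤ a') :
    truncLETrans M a a' h ≫ M.ιTruncLE a' = M.ιTruncLE a := by
  have : (M.truncLE a).IsStrictlyLE a' := CochainComplex.isStrictlyLE_of_le _ a a' h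
  unfold truncLETrans
  rw [Category.assoc, CochainComplex.ιTruncLE_naturality, IsIso.inv_hom_id_assoc]

lemma acyclic_truncLE (hM : M.Acyclic) (n : ℤ) : (M.truncLE n).Acyclic := by
  rw [CochainComplex.acyclic_truncLE_iff M n (n + 1) rfl, CochainComplex.isGE_iff]
  intro i _
  exact hM i

lemma acyclic_truncGE (hM : M.Acyclic) (n : ℤ) : (M.truncGE n).Acyclic := by
  rw [CochainComplex.acyclic_truncGE_iff M (n - 1) n (by omega), CochainComplex.isLE_iff]
  intro i _
  exact hM i

lemma isZero_truncLE_X_of_isZero (n i : ℤ) (h : IsZero (M.X i)) : IsZero ((M.truncLE n).X i) :=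
  haveI : Mono ((M.ιTruncLE n).f i) :=
    inferInstanceAs (Mono ((HomologicalComplex.ιTruncLE M (embeddingUpIntLE n)).f i))
  IsZero.of_mono ((M.ιTruncLE n).f i) h

end Trunc

section Bifunctor

variable {C₁ C₂ D : Type*} [Category C₁] [Category C₂] [Category D]
  [Abelian C₁] [Abelian C₂] [Abelian D]
  (F : C₁ ⥤ C₂ ⥤ D) [F.Additive] [∀ X, (F.obj X).Additive]
  [∀ (K₁ : CochainComplex C₁ ℤ) (K₂ : CochainComplex C₂ ℤ),
    HasMapBifunctor K₁ K₂ F (ComplexShape.up ℤ)]

/-- `Tot(F(f, K))` is an isomorphism in degree `j` if `F(f^p, K^q)` is for all `p + q = j`. -/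
theorem isIso_mapBifunctorMap_f {L L' : CochainComplex C₁ ℤ} (f : L ⟶ L')
    (K : CochainComplex C₂ ℤ) (j : ℤ)
    (h : ∀ p q : ℤ, p + q = j → IsIso ((F.map (f.f p)).app (K.X q))) :
    IsIso ((mapBifunctorMap f (𝟙 K) F (ComplexShape.up ℤ)).f j) := by
  refine ⟨mapBifunctorDesc (fun p q hpq =>
    haveI := h p q hpq
    inv ((F.map (f.f p)).app (K.X q)) ≫ ιMapBifunctor L K F (ComplexShape.up ℤ) p q j hpq), ?_, ?_⟩
  · apply mapBifunctor.hom_ext
    intro p q hpq
    have := h p q hpq
    rw [ι_mapBifunctorMap_assoc, ι_mapBifunctorDesc]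
    simp
  · apply mapBifunctor.hom_ext
    intro p q hpq
    have := h p q hpq
    rw [ι_mapBifunctorDesc_assoc, Category.assoc, ι_mapBifunctorMap]
    simp

/-- `Tot(F(-, K))` commutes (degreewise) with sequential colimits which are degreewise
eventually constant. -/
noncomputable def isColimitMapCocone (𝓛 : ℕ ⥤ CochainComplex C₁ ℤ) (c : Cocone 𝓛)
    (K : CochainComplex C₂ ℤ)
    (m₀ : ℤ → ℕ) (hm₀ : ∀ (p : ℤ) (m : ℕ), m₀ p ≤ m → IsIso ((c.ι.app m).f p)) (j : ℤ) :
    IsColimit ((eval D (ComplexShape.up ℤ) j).mapCocone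
      ((F.map₂CochainComplex.flip.obj K).mapCocone c)) := by
  have hiso : ∀ (p : ℤ) (m : ℕ), m₀ p ≤ m → ∀ q, IsIso ((F.map ((c.ι.app m).f p)).app (K.X q)) :=
    fun p m hm q => by have := hm₀ p m hm; infer_instance
  have key : ∀ (p q : ℤ) (m m' : ℕ) (hm : m₀ p ≤ m') (hmm' : m ≤ m'),
      (F.map ((c.ι.app m).f p)).app (K.X q) ≫
        (haveI := hiso p m' hm q; inv ((F.map ((c.ι.app m').f p)).app (K.X q))) =
      (F.map ((𝓛.map (homOfLE hmm')).f p)).app (K.X q) := by
    intro p q m m' hm hmm'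
    have := hiso p m' hm q
    rw [IsIso.comp_inv_eq, ← NatTrans.comp_app, ← F.map_comp, ← HomologicalComplex.comp_f,
      c.w]
  refine
    { desc := fun s => mapBifunctorDesc (fun p q hpq =>
        haveI := hiso p (m₀ p) le_rfl q
        inv ((F.map ((c.ι.app (m₀ p)).f p)).app (K.X q)) ≫
          ιMapBifunctor (𝓛.obj (m₀ p)) K F (ComplexShape.up ℤ) p q j hpq ≫ s.ι.app (m₀ p))
      fac := fun s m => ?_
      uniq := fun s g hg => ?_ }
  · apply mapBifunctor.hom_ext
    intro p q hpq
    have := hiso p (m₀ p) le_rfl q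
    have hM := hiso p (max m (m₀ p)) (le_max_right _ _) q
    show ιMapBifunctor (𝓛.obj m) K F (ComplexShape.up ℤ) p q j hpq ≫
      (mapBifunctorMap (c.ι.app m) (𝟙 K) F (ComplexShape.up ℤ)).f j ≫ _ = _
    rw [ι_mapBifunctorMap_assoc, ι_mapBifunctorDesc]
    have hs1 := s.w (homOfLE (le_max_left m (m₀ p)))
    have hs2 := s.w (homOfLE (le_max_right m (m₀ p)))
    rw [← hs1, ← hs2]
    show _ ≫ _ ≫ _ ≫ _ ≫ (mapBifunctorMap (𝓛.map (homOfLE (le_max_right m (m₀ p)))) (𝟙 K) F
      (ComplexShape.up ℤ)).f j ≫ _ = _ ≫ (mapBifunctorMap (𝓛.map (homOfLE (le_max_left m (m₀ p))))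
      (𝟙 K) F (ComplexShape.up ℤ)).f j ≫ _
    rw [ι_mapBifunctorMap_assoc, ι_mapBifunctorMap_assoc]
    simp only [HomologicalComplex.id_f, Functor.map_id, Category.id_comp]
    rw [← key p q (m₀ p) _ (le_max_right _ _) (le_max_right _ _),
      ← key p q m _ (le_max_right _ _) (le_max_left _ _)]
    simp
  · apply mapBifunctor.hom_ext
    intro p q hpq
    have := hiso p (m₀ p) le_rfl q
    rw [ι_mapBifunctorDesc, ← hg (m₀ p)]
    show _ = _ ≫ _ ≫ (mapBifunctorMap (c.ι.app (m₀ p)) (𝟙 K) F (ComplexShape.up ℤ)).f j ≫ g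
    rw [ι_mapBifunctorMap_assoc]
    simp

variable [∀ ι : Type, HasColimitsOfShape (Discrete ι) D]
  [∀ ι : Type, HasExactColimitsOfShape (Discrete ι) D]

/-- Every term `K^q` of `K` is flat for `F`: the functor `F(-, K^q)` preserves short exact
sequences. -/
def TermwiseFlat (K : CochainComplex C₂ ℤ) : Prop :=
  ∀ (q : ℤ) (S : ShortComplex C₁), S.ShortExact → (S.map (F.flip.obj (K.X q))).ShortExact

open Groth.Agent.H31.KFlat

/-- `Tot(F(M, K))` is acyclic for a bounded acyclic complex `M` and a termwise flat `K`. -/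
theorem acyclic_of_bounded (K : CochainComplex C₂ ℤ) (hK : TermwiseFlat F K) (k : ℕ) :
    ∀ (M : CochainComplex C₁ ℤ) (s : ℤ), M.Acyclic → (∀ i, i < s → IsZero (M.X i)) →
      (∀ i, s + k < i → IsZero (M.X i)) →
      (mapBifunctor M K F (ComplexShape.up ℤ)).Acyclic := by
  induction k with
  | zero =>
    intro M s hM h1 h2
    obtain ⟨h⟩ := homotopy_of_width_two M (s + 1) hM (fun i hi1 hi2 => by
      by_cases hlt : i < s
      · exact h1 i hlt
      · exact h2 i (by push_cast; omega))
    exact acyclic_mapBifunctor_left F M K h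
  | succ k ih =>
    intro M s hM h1 h2
    have hS : (M.shortComplexTruncLE (s + k)).ShortExact :=
      M.shortComplexTruncLE_shortExact (s + k)
    have hX₁ : (mapBifunctor (M.truncLE (s + k)) K F (ComplexShape.up ℤ)).Acyclic :=
      ih (M.truncLE (s + k)) s (acyclic_truncLE M hM _)
        (fun i hi => isZero_truncLE_X_of_isZero M _ i (h1 i hi))
        (fun i hi => CochainComplex.isZero_of_isStrictlyLE (M.truncLE (s + k)) (s + k) i hi)
    have hQ : (M.shortComplexTruncLE (s + k)).X₃.Acyclic :=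
      acyclic_X₃_of_shortExact hS (acyclic_truncLE M hM _) hM
    have hQz : ∀ i : ℤ, i ≠ s + k + 1 - 1 → i ≠ s + k + 1 →
        IsZero ((M.shortComplexTruncLE (s + k)).X₃.X i) := by
      intro i hi1 hi2
      have hSi : ((M.shortComplexTruncLE (s + k)).map
          (eval C₁ (ComplexShape.up ℤ) i)).ShortExact := hS.map_of_exact _
      have hepi := hSi.epi_g
      by_cases hlt : i < s + k
      · have hiso : IsIso ((M.shortComplexTruncLE (s + k)).map
            (eval C₁ (ComplexShape.up ℤ) i)).f := isIso_ιTruncLE_f M (s + k) i hlt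
        have hg : ((M.shortComplexTruncLE (s + k)).map (eval C₁ (ComplexShape.up ℤ) i)).g = 0 := by
          rw [← cancel_epi ((M.shortComplexTruncLE (s + k)).map
            (eval C₁ (ComplexShape.up ℤ) i)).f, ShortComplex.zero, comp_zero]
        exact @IsZero.of_epi_eq_zero _ _ _ _ _ _ hepi hg
      · have hz : IsZero (M.X i) := h2 i (by push_cast; omega)
        exact @IsZero.of_epi _ _ _ _ _ ((M.shortComplexTruncLE (s + k)).map
          (eval C₁ (ComplexShape.up ℤ) i)).g hepi hz
    obtain ⟨h⟩ := homotopy_of_width_two _ (s + k + 1) hQ hQz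
    have hX₃ : (mapBifunctor (M.shortComplexTruncLE (s + k)).X₃ K F
        (ComplexShape.up ℤ)).Acyclic := acyclic_mapBifunctor_left F _ K h
    have hSES : ((M.shortComplexTruncLE (s + k)).map
        (F.map₂CochainComplex.flip.obj K)).ShortExact :=
      shortExact_map_flip_obj F _ K (fun p q => hK q _ (hS.map_of_exact _))
    exact hSES.acyclic_X₂ hX₁ hX₃

variable [HasColimitsOfShape ℕ D] [HasExactColimitsOfShape ℕ D]

/-- **Bounded above complexes with flat terms are K-flat** (generic form): if `L` is acyclic and `K`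
is bounded above and termwise flat for `F`, then `Tot(F(L, K))` is acyclic. -/
theorem acyclic_mapBifunctor_of_bounded_above (L : CochainComplex C₁ ℤ) (hL : L.Acyclic)
    (K : CochainComplex C₂ ℤ) (b : ℤ) (hb : ∀ q, b < q → IsZero (K.X q))
    (hK : TermwiseFlat F K) : (mapBifunctor L K F (ComplexShape.up ℤ)).Acyclic := by
  intro n
  obtain ⟨s, hs⟩ : ∃ s : ℤ, s = n - 2 - b := ⟨_, rfl⟩
  have hL' : (L.truncGE s).Acyclic := acyclic_truncGE L hL s
  have hz' : ∀ i, i < s → IsZero ((L.truncGE s).X i) :=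
    fun i hi => CochainComplex.isZero_of_isStrictlyGE _ s i hi
  have main : (mapBifunctor (L.truncGE s) K F (ComplexShape.up ℤ)).Acyclic := by
    let X : ℕ → CochainComplex C₁ ℤ := fun k => (L.truncGE s).truncLE (s + k)
    let f : ∀ k, X k ⟶ X (k + 1) := fun k =>
      truncLETrans (L.truncGE s) (s + k) (s + ((k + 1 : ℕ) : ℤ)) (by push_cast; omega)
    let c : Cocone (Functor.ofSequence f) :=
      { pt := L.truncGE s
        ι := NatTrans.ofSequence (fun k => (L.truncGE s).ιTruncLE (s + k)) (fun k => by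
          rw [Functor.ofSequence_map_homOfLE_succ]
          exact (truncLETrans_ι (L.truncGE s) _ _ _).trans (Category.comp_id _).symm) }
    have hcol := fun j => isColimitMapCocone F (Functor.ofSequence f) c K
      (fun p => (p - s + 1).toNat) (fun p m hm => by
        show IsIso (((L.truncGE s).ιTruncLE (s + m)).f p)
        apply isIso_ιTruncLE_f
        omega) j
    have hacyc : ∀ m, ((Functor.ofSequence f ⋙ F.map₂CochainComplex.flip.obj K).obj m).Acyclic :=
      fun m => acyclic_of_bounded F K hK m ((L.truncGE s).truncLE (s + m)) s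
        (acyclic_truncLE _ hL' _)
        (fun i hi => isZero_truncLE_X_of_isZero _ _ i (hz' i hi))
        (fun i hi => CochainComplex.isZero_of_isStrictlyLE _ (s + m) i hi)
    exact acyclic_of_isColimit (Functor.ofSequence f ⋙ F.map₂CochainComplex.flip.obj K)
      ((F.map₂CochainComplex.flip.obj K).mapCocone c) hcol hacyc
  refine exactAt_of_isIso_three
    (mapBifunctorMap (L.πTruncGE s) (𝟙 K) F (ComplexShape.up ℤ)) n ?_ ?_ ?_ (main n)
  all_goals
    apply isIso_mapBifunctorMap_f
    intro p q hpq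
    by_cases hq : b < q
    · have h0 := hb q hq
      exact ⟨⟨0, ((F.obj _).map_isZero h0).eq_of_src _ _, ((F.obj _).map_isZero h0).eq_of_src _ _⟩⟩
    · have : IsIso ((L.πTruncGE s).f p) := isIso_πTruncGE_f L s p (by omega)
      infer_instance

end Bifunctor

end Groth.Agent.H40.KFlatBdd
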