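import Groth.Agent.H40.TorsorSq

/-!
# Descent of morphisms along the quotient map of an exact sequence `1 → G → E → P → 1` (helper40)

For `u : G ⟶ E`, `v : E ⟶ P` with the cartesian square and the fpqc-local sections of `NonAbH1.IsExactSeq`:
* `exact_diff`: two points of `E` with the same image in `P` differ by a point of `G`;
* `exact_cover_sections`: points of `P` lift to `E` fpqc-locally;
* `exact_cancel`: `v ▷ Y` is an epimorphism; `exact_desc`: morphisms `E ⊗ Y ⟶ Z` invariant under right translation by `G` in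
  the first variable descend to `P ⊗ Y`.
-/

set_option autoImplicit false
universe u
open CategoryTheory CategoryTheory.Limits AlgebraicGeometry MonoidalCategory CartesianMonoidalCategory
open MonObj

namespace Groth.Agent.H40.FpqcFam

variable {S : Scheme.{u}}

theorem locTriv_fpqc_of_fppf {X : Over S}
    (h : NonAbH1.IsLocallyTrivialFor Scheme.fppfPrecoverage X) :
    NonAbH1.IsLocallyTrivialFor Scheme.fpqcPrecoverage X := by
  obtain ⟨R, hR, hsec⟩ := h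
  exact ⟨R, Scheme.fppfPrecoverage_le_fpqcPrecoverage _ hR, hsec⟩

variable {E G P : Over S} [GrpObj E] [GrpObj G] [GrpObj P] {u : G ⟶ E} {v : E ⟶ P}

omit [GrpObj G] [GrpObj P] in
/-- two points of `E` with the same image in `P` differ by a point of `G`. -/
theorem exact_diff (hpb : IsPullback (fst E G) ((E ◁ u) ≫ μ[E]) v v) {T : Over S} (x x' : T ⟶ E)
    (h : x ≫ v = x' ≫ v) : ∃ g : T ⟶ G, x' = x * (g ≫ u) := by
  refine ⟨hpb.lift x x' h ≫ snd E G, ?_⟩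
  have hw : hpb.lift x x' h = lift x (hpb.lift x x' h ≫ snd E G) := by
    apply CartesianMonoidalCategory.hom_ext
    · rw [lift_fst, hpb.lift_fst]
    · rw [lift_snd]
  have := hpb.lift_snd x x' h
  rw [hw, lift_whiskerLeft_assoc, ← Hom.mul_def] at this
  exact this.symm

omit [GrpObj E] [GrpObj G] [GrpObj P] in
theorem exact_cover_sections
    (hloc : NonAbH1.IsLocallyTrivialFor Scheme.fpqcPrecoverage (Over.mk v.left : Over P.left))
    {T : Over S} (p : T ⟶ P) :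
    ∃ R' ∈ Scheme.fpqcPrecoverage T.left, ∀ ⦃T' : Scheme.{u}⦄ (π : T' ⟶ T.left), R' π →
      ∃ σ : ov T π ⟶ E, σ ≫ v = ovHom T π ≫ p := by
  obtain ⟨R, hR, hsec⟩ := hloc
  refine ⟨R.pullbackArrows p.left, Precoverage.pullbackArrows_mem p.left hR, ?_⟩
  rintro T' π ⟨Z₀, r, hr⟩
  obtain ⟨s, hs⟩ := hsec r hr
  have hs' : s ≫ v.left = r := hs
  refine ⟨Over.homMk (pullback.fst r p.left ≫ s) ?_, ?_⟩
  · change (pullback.fst r p.left ≫ s) ≫ E.hom = pullback.snd r p.left ≫ T.hom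
    rw [← Over.w v, Category.assoc, ← Category.assoc s, hs', ← Category.assoc, pullback.condition,
      Category.assoc, Over.w p]
  · apply Over.OverMorphism.ext
    change (pullback.fst r p.left ≫ s) ≫ v.left = pullback.snd r p.left ≫ p.left
    rw [Category.assoc, hs', pullback.condition]

omit [GrpObj E] [GrpObj G] [GrpObj P] in
/-- `v ▷ Y` is an epimorphism. -/
theorem exact_cancel
    (hloc : NonAbH1.IsLocallyTrivialFor Scheme.fpqcPrecoverage (Over.mk v.left : Over P.left))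
    {Y₀ Z₀ : Over S} (φ φ' : P ⊗ Y₀ ⟶ Z₀) (h : (v ▷ Y₀) ≫ φ = (v ▷ Y₀) ≫ φ') : φ = φ' := by
  obtain ⟨R', hR', hσ⟩ := exact_cover_sections hloc (fst P Y₀)
  refine over_hom_ext hR' φ φ' fun T' π hπ => ?_
  obtain ⟨σ, hσv⟩ := hσ π hπ
  have e : ovHom (P ⊗ Y₀) π = lift σ (ovHom (P ⊗ Y₀) π ≫ snd P Y₀) ≫ (v ▷ Y₀) := by
    rw [lift_whiskerRight, hσv]
    apply CartesianMonoidalCategory.hom_ext
    · rw [lift_fst]
    · rw [lift_snd]
  rw [e, Category.assoc, Category.assoc, h]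

omit [GrpObj E] [GrpObj G] [GrpObj P] in
/-- `v` is an epimorphism. -/
theorem exact_cancel' 
    (hloc : NonAbH1.IsLocallyTrivialFor Scheme.fpqcPrecoverage (Over.mk v.left : Over P.left))
    {Z₀ : Over S} (φ φ' : P ⟶ Z₀) (h : v ≫ φ = v ≫ φ') : φ = φ' := by
  obtain ⟨R', hR', hσ⟩ := exact_cover_sections hloc (𝟙 P)
  refine over_hom_ext hR' φ φ' fun T' π hπ => ?_
  obtain ⟨σ, hσv⟩ := hσ π hπ
  rw [Category.comp_id] at hσv
  rw [← hσv, Category.assoc, Category.assoc, h]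

omit [GrpObj G] [GrpObj P] in
/-- invariant morphisms descend along `v ▷ Y`. -/
theorem exact_desc (hpb : IsPullback (fst E G) ((E ◁ u) ≫ μ[E]) v v)
    (hloc : NonAbH1.IsLocallyTrivialFor Scheme.fpqcPrecoverage (Over.mk v.left : Over P.left))
    {Y₀ Z₀ : Over S} (ψ : E ⊗ Y₀ ⟶ Z₀)
    (hψ : ∀ (T : Over S) (g : T ⟶ G) (x : T ⟶ E) (y : T ⟶ Y₀),
      lift (x * (g ≫ u)) y ≫ ψ = lift x y ≫ ψ) :
    ∃ φ : P ⊗ Y₀ ⟶ Z₀, (v ▷ Y₀) ≫ φ = ψ := by
  have hconst : ∀ (T : Over S) (x x' : T ⟶ E) (y : T ⟶ Y₀), x ≫ v = x' ≫ v →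
      lift x y ≫ ψ = lift x' y ≫ ψ := by
    intro T x x' y h
    obtain ⟨g, rfl⟩ := exact_diff hpb x x' h
    rw [hψ]
  obtain ⟨R', hR', hσ⟩ := exact_cover_sections hloc (fst P Y₀)
  choose σ hσv using hσ
  obtain ⟨φ₀, hφ₀⟩ := exists_glue hR'
    (fun T' π hπ => (lift (σ π hπ) (ovHom (P ⊗ Y₀) π ≫ snd P Y₀) ≫ ψ).left) (by
    intro T₁ T₂ W g₁ g₂ π₁ π₂ h₁ h₂ e
    let W₁ : Over S := Over.mk (g₁ ≫ π₁ ≫ (P ⊗ Y₀).hom)
    let γ₁ : W₁ ⟶ ov (P ⊗ Y₀) π₁ := Over.homMk g₁ rfl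
    let γ₂ : W₁ ⟶ ov (P ⊗ Y₀) π₂ := Over.homMk g₂ (by
      change g₂ ≫ π₂ ≫ (P ⊗ Y₀).hom = g₁ ≫ π₁ ≫ (P ⊗ Y₀).hom
      rw [← Category.assoc, ← e, Category.assoc])
    have e' : γ₁ ≫ ovHom (P ⊗ Y₀) π₁ = γ₂ ≫ ovHom (P ⊗ Y₀) π₂ := Over.OverMorphism.ext e
    have h3 : γ₁ ≫ lift (σ π₁ h₁) (ovHom (P ⊗ Y₀) π₁ ≫ snd P Y₀) ≫ ψ =
        γ₂ ≫ lift (σ π₂ h₂) (ovHom (P ⊗ Y₀) π₂ ≫ snd P Y₀) ≫ ψ := by
      rw [← Category.assoc, ← Category.assoc, comp_lift, comp_lift, ← Category.assoc,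
        ← Category.assoc, ← e']
      apply hconst
      rw [Category.assoc, Category.assoc, hσv, hσv, ← Category.assoc, ← Category.assoc, e']
    exact congrArg (fun m => m.left) h3)
  have hφZ : φ₀ ≫ Z₀.hom = (P ⊗ Y₀).hom := by
    refine hom_ext hR' _ _ fun T' π hπ => ?_
    rw [← Category.assoc, hφ₀ π hπ, Over.w]
    rfl
  let φ : P ⊗ Y₀ ⟶ Z₀ := Over.homMk φ₀ hφZ
  have hφ : ∀ ⦃T' : Scheme.{u}⦄ (π : T' ⟶ (P ⊗ Y₀).left) (hπ : R' π),
      ovHom (P ⊗ Y₀) π ≫ φ = lift (σ π hπ) (ovHom (P ⊗ Y₀) π ≫ snd P Y₀) ≫ ψ := fun T' π hπ =>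
    Over.OverMorphism.ext (hφ₀ π hπ)
  refine ⟨φ, ?_⟩
  apply AlgGrp.Action.hom_ext_lift₂
  intro T x y
  rw [lift_whiskerRight_assoc]
  refine over_hom_ext (Precoverage.pullbackArrows_mem (lift (x ≫ v) y).left hR') _ _ ?_
  rintro T'' π' ⟨Z₀', p, hp⟩
  let β : ov T (pullback.snd p (lift (x ≫ v) y).left) ⟶ ov (P ⊗ Y₀) p :=
    Over.homMk (pullback.fst p (lift (x ≫ v) y).left) (by
      change pullback.fst p (lift (x ≫ v) y).left ≫ p ≫ (P ⊗ Y₀).hom =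
        pullback.snd p (lift (x ≫ v) y).left ≫ T.hom
      rw [← Category.assoc, pullback.condition, Category.assoc, Over.w (lift (x ≫ v) y)])
  have hβ : β ≫ ovHom (P ⊗ Y₀) p =
      ovHom T (pullback.snd p (lift (x ≫ v) y).left) ≫ lift (x ≫ v) y :=
    Over.OverMorphism.ext pullback.condition
  rw [← Category.assoc, ← hβ, Category.assoc, hφ p hp, ← Category.assoc, comp_lift,
    ← Category.assoc β, hβ, Category.assoc, lift_snd, ← Category.assoc, comp_lift]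
  apply hconst
  rw [Category.assoc, hσv, ← Category.assoc, hβ, Category.assoc, lift_fst, Category.assoc]

omit [GrpObj G] [GrpObj P] in
/-- descent in both variables. -/
theorem exact_desc₂ (hpb : IsPullback (fst E G) ((E ◁ u) ≫ μ[E]) v v)
    (hloc : NonAbH1.IsLocallyTrivialFor Scheme.fpqcPrecoverage (Over.mk v.left : Over P.left))
    {Z₀ : Over S} (κ : E ⊗ E ⟶ Z₀)
    (hx : ∀ (T : Over S) (g : T ⟶ G) (x y : T ⟶ E), lift (x * (g ≫ u)) y ≫ κ = lift x y ≫ κ)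
    (hy : ∀ (T : Over S) (g : T ⟶ G) (x y : T ⟶ E), lift x (y * (g ≫ u)) ≫ κ = lift x y ≫ κ) :
    ∃ κ₂ : P ⊗ P ⟶ Z₀, ∀ (T : Over S) (x y : T ⟶ E),
      lift (x ≫ v) (y ≫ v) ≫ κ₂ = lift x y ≫ κ := by
  obtain ⟨κ₁, hκ₁⟩ := exact_desc hpb hloc κ (fun T g x y => hx T g x y)
  have hκ₁p : ∀ {T : Over S} (x y : T ⟶ E), lift (x ≫ v) y ≫ κ₁ = lift x y ≫ κ := by
    intro T x y
    rw [← lift_whiskerRight_assoc, hκ₁]
  obtain ⟨κ₂, hκ₂⟩ := exact_desc hpb hloc (lift (snd E P) (fst E P) ≫ κ₁) (by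
    intro T g y p
    obtain ⟨R', hR', hσ⟩ := exact_cover_sections hloc p
    refine over_hom_ext hR' _ _ fun T' π hπ => ?_
    obtain ⟨σ, hσv⟩ := hσ π hπ
    have key : ∀ (y' : T ⟶ E), ovHom T π ≫ lift y' p ≫ lift (snd E P) (fst E P) ≫ κ₁ =
        lift σ (ovHom T π ≫ y') ≫ κ := by
      intro y'
      rw [← hκ₁p, hσv, ← Category.assoc, comp_lift, ← Category.assoc, comp_lift, lift_snd,
        lift_fst]
    rw [key, key, MonObj.comp_mul, ← Category.assoc, hy])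
  refine ⟨lift (snd P P) (fst P P) ≫ κ₂, fun T x y => ?_⟩
  rw [← Category.assoc, comp_lift, lift_snd, lift_fst, ← lift_whiskerRight_assoc, hκ₂,
    ← Category.assoc, comp_lift, lift_snd, lift_fst, hκ₁p]

end Groth.Agent.H40.FpqcFam
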