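import Groth.Agent.H40.FpqcSub
import Groth.Agent.H40.ExactDesc
import Groth.Prelude.Def_TwC
import Groth.Prelude.Def_NonAbH2

/-!
# Maps to constant schemes (helper40)
-/

set_option autoImplicit false
universe u
open CategoryTheory CategoryTheory.Limits AlgebraicGeometry MonoidalCategory CartesianMonoidalCategory
open MonObj

namespace Groth.Agent.H40.ConstGrp

variable {S : Scheme.{u}} (M : Type u)

/-- the `m`-th component of the constant scheme. -/
noncomputable def comp (m : M) : (TwC.const S M).left.Opens :=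
  (Sigma.ι (fun _ : M => S) m).opensRange

theorem exists_mem_comp (x : (TwC.const S M).left) : ∃ m, x ∈ comp (S := S) M m := by
  obtain ⟨m, y, rfl⟩ := (sigmaOpenCover (fun _ : M => S)).exists_eq x
  exact ⟨m, y, rfl⟩

theorem comp_disjoint {m n : M} (x : (TwC.const S M).left) (hm : x ∈ comp (S := S) M m)
    (hn : x ∈ comp (S := S) M n) : m = n := by
  by_contra h
  exact (disjoint_opensRange_sigmaι (fun _ : M => S) m n h).le_bot ⟨hm, hn⟩

/-- a map to the constant scheme landing in one component is the constant map. -/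
theorem eq_pt_of_range {T : Over S} (f : T ⟶ TwC.const S M) (m : M)
    (h : ∀ t : T.left, f.left.base t ∈ comp (S := S) M m) : f = toUnit T ≫ TwC.pt S M m := by
  apply Over.OverMorphism.ext
  have hr : Set.range f.left.base ⊆ Set.range (Sigma.ι (fun _ : M => S) m).base := by
    rintro _ ⟨t, rfl⟩
    exact h t
  have hfac := IsOpenImmersion.lift_fac (Sigma.ι (fun _ : M => S) m) f.left hr
  have e : Sigma.ι (fun _ : M => S) m ≫ (TwC.const S M).hom = 𝟙 S := by
    simp [TwC.const]
  have hl : IsOpenImmersion.lift (Sigma.ι (fun _ : M => S) m) f.left hr = T.hom := by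
    have := Over.w f
    rw [← hfac, Category.assoc, e, Category.comp_id] at this
    exact this
  rw [← hfac, hl]
  rfl

theorem finite_setOf_comp {X : Scheme.{u}} [CompactSpace X] (f : X ⟶ (TwC.const S M).left) :
    {m | ∃ x : X, f.base x ∈ comp (S := S) M m}.Finite := by
  have hcov : (Set.univ : Set X) ⊆ ⋃ m, ((f ⁻¹ᵁ comp (S := S) M m : X.Opens) : Set X) := by
    intro x _
    obtain ⟨m, hm⟩ := exists_mem_comp M (f.base x)
    exact Set.mem_iUnion.mpr ⟨m, hm⟩
  obtain ⟨t, ht⟩ := isCompact_univ.elim_finite_subcover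
    (fun m => ((f ⁻¹ᵁ comp (S := S) M m : X.Opens) : Set X))
    (fun m => (f ⁻¹ᵁ comp (S := S) M m).2) hcov
  refine t.finite_toSet.subset ?_
  rintro m ⟨x, hx⟩
  obtain ⟨n, hn, hxn⟩ := Set.mem_iUnion₂.mp (ht (Set.mem_univ x))
  have := comp_disjoint M _ hx hxn
  rw [this]
  exact hn

end Groth.Agent.H40.ConstGrp
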