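import Groth.Agent.H40.GrpQC
import Mathlib.AlgebraicGeometry.Morphisms.LocalFlatDescent
import Mathlib.RingTheory.RingHom.Flat
import Mathlib.RingTheory.RingHom.FaithfullyFlat

/-!
# Flatness descends along fpqc covers; pullback squares of group schemes on points — helper40
-/

set_option autoImplicit false
universe u

open CategoryTheory MonoidalCategory CartesianMonoidalCategory MonObj AlgebraicGeometry Limits
open MorphismProperty

namespace Groth.Agent.H40.FlatDesc2

theorem flat_codescendsAlong_faithfullyFlat :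
    RingHom.CodescendsAlong RingHom.Flat RingHom.FaithfullyFlat := by
  refine .mk _ RingHom.Flat.respectsIso fun R S T _ _ _ _ _ h h' ↦ ?_
  rw [RingHom.flat_algebraMap_iff] at h' ⊢
  rw [RingHom.faithfullyFlat_algebraMap_iff] at h
  exact Module.Flat.of_flat_tensorProduct R T S

instance flat_descendsAlong :
    DescendsAlong @Flat (@Surjective ⊓ @Flat ⊓ @QuasiCompact) :=
  HasRingHomProperty.descendsAlong_flat flat_codescendsAlong_faithfullyFlat

variable {S : Scheme.{u}}

/-- criterion for a pullback square with monomorphic legs, on points -/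
theorem isPullback_of_mono_of_forall_exists {M G Hb Q : Over S} (jM : M ⟶ G) (c : M ⟶ Hb)
    (q : G ⟶ Q) (jb : Hb ⟶ Q) [Mono jM] [Mono jb] (w : jM ≫ q = c ≫ jb)
    (h : ∀ (T : Over S) (g : T ⟶ G) (y : T ⟶ Hb), g ≫ q = y ≫ jb → ∃ m : T ⟶ M, m ≫ jM = g) :
    IsPullback jM c q jb := by
  refine ⟨⟨w⟩, ⟨PullbackCone.IsLimit.mk _
    (fun s => (h s.pt s.fst s.snd s.condition).choose) ?_ ?_ ?_⟩⟩
  · intro s
    exact (h s.pt s.fst s.snd s.condition).choose_spec
  · intro s
    rw [← cancel_mono jb, Category.assoc, ← w, ← Category.assoc,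
      (h s.pt s.fst s.snd s.condition).choose_spec, s.condition]
  · intro s m hm _
    rw [← cancel_mono jM, hm]
    exact (h s.pt s.fst s.snd s.condition).choose_spec.symm

/-- the multiplication `N × H ⟶ M` is the base change of `H ⟶ M ⟶ Q = M/N` along `M ⟶ Q` -/
theorem isPullback_mul_snd {N H M Q : Over S} [GrpObj N] [GrpObj H] [GrpObj M] [GrpObj Q]
    (aN : N ⟶ M) [IsMonHom aN] (aH : H ⟶ M) [IsMonHom aH] (r : M ⟶ Q) [IsMonHom r]
    (hr : IsPullback aN (toUnit N) r η[Q]) :
    IsPullback (lift (fst N H ≫ aN) (snd N H ≫ aH) ≫ μ[M]) (snd N H) r (aH ≫ r) := by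
  have hmul : ∀ {T : Over S} (l : T ⟶ N ⊗ H),
      l ≫ lift (fst N H ≫ aN) (snd N H ≫ aH) ≫ μ[M] = (l ≫ fst N H ≫ aN) * (l ≫ snd N H ≫ aH) := by
    intro T l
    rw [Hom.mul_def, ← Category.assoc, comp_lift]
  have key : ∀ (T : Over S) (m : T ⟶ M) (h : T ⟶ H), m ≫ r = h ≫ aH ≫ r →
      ∃ n : T ⟶ N, n ≫ aN = m * (h ≫ aH)⁻¹ := by
    intro T m h e
    apply FlatDesc.exists_lift_of_isKernel aN r hr
    rw [MonObj.mul_comp, GrpObj.inv_comp, Category.assoc, e, mul_inv_cancel]
  refine ⟨⟨?_⟩, ⟨PullbackCone.IsLimit.mk _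
    (fun s => lift (key s.pt s.fst s.snd s.condition).choose s.snd) ?_ ?_ ?_⟩⟩
  · have e1 : aN ≫ r = toUnit N ≫ η[Q] := hr.w
    have e2 : (fst N H ≫ aN) ≫ r = 1 := by
      rw [Category.assoc, e1, ← Category.assoc, Hom.one_def]
      congr 1
    rw [← Category.assoc, ← Hom.mul_def, MonObj.mul_comp, e2, _root_.one_mul, Category.assoc]
  · intro s
    rw [hmul, lift_fst_assoc, lift_snd_assoc, (key s.pt s.fst s.snd s.condition).choose_spec,
      inv_mul_cancel_right]
  · intro s
    exact lift_snd _ _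
  · intro s l h1 h2
    have h3 : l ≫ fst N H = (key s.pt s.fst s.snd s.condition).choose := by
      apply hr.hom_ext
      · rw [(key s.pt s.fst s.snd s.condition).choose_spec, ← h1, ← h2, hmul, Category.assoc,
          Category.assoc, mul_inv_cancel_right]
      · exact toUnit_unique _ _
    apply CartesianMonoidalCategory.hom_ext
    · rw [lift_fst, h3]
    · rw [lift_snd, h2]

end Groth.Agent.H40.FlatDesc2
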