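import Groth.Prelude.Def_NonAbH2
import Groth.Prelude.Def_Red2
import Groth.Prelude.Def_TwC
import Groth.Agent.H43.GaGmFn
import Groth.Agent.H91.KerTorsor
import Groth.Agent.H40.ConstGrp
import Groth.Agent.H40.FlatDesc2

/-!
# Artin–Schreier sequence: the formal part (helper40)

* `add_pow_p`, `natCast_pow_p`: Frobenius identities in a commutative ring with `p = 0`
  (no `CharP` instance needed; the zero ring is allowed).
* `gaFn_P`, `isMonHom_P`: `P = 𝟙 * F⁻¹` is `x ↦ x - x ^ p` on points and a homomorphism.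
* `const_hom_ext`: maps out of a constant scheme are determined on the points `pt m`.
* `AS_KV`: values of `i` on the points of `(ℤ/p)_S`;  `AS_W`: `i ≫ P = 1`.
* `exact_of_pieces`: assembly of the exactness from flatness of `P`, monicity of `i` and
  surjectivity of `i` onto the points killed by `P`.
-/

set_option autoImplicit false
universe u
open CategoryTheory CategoryTheory.Limits MonoidalCategory CartesianMonoidalCategory MonObj GrpObj AlgebraicGeometry

namespace Groth.Agent.H40.ASBase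

open Groth.Agent.H43.GaGmFn

section alg
variable {R : Type*} [CommRing R] (p : ℕ) [Fact p.Prime]

theorem charP_of [Nontrivial R] (hp : (p : R) = 0) : CharP R p := by
  obtain ⟨q, hq⟩ := CharP.exists R
  have hd : q ∣ p := (CharP.cast_eq_zero_iff R q p).mp hp
  rcases (Nat.dvd_prime (Fact.out)).mp hd with h1 | h1
  · subst h1
    exact absurd rfl (CharP.char_ne_one R 1)
  · subst h1; exact hq

theorem add_pow_p (hp : (p : R) = 0) (a b : R) : (a + b) ^ p = a ^ p + b ^ p := by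
  rcases subsingleton_or_nontrivial R with h | h
  · exact Subsingleton.elim _ _
  · haveI : CharP R p := charP_of p hp
    exact add_pow_char a b p

theorem natCast_val_inj (hp : (p : R) = 0) (m n : ZMod p)
    (h : ((m.val : ℕ) : R) = ((n.val : ℕ) : R)) : Subsingleton R ∨ m = n := by
  rcases subsingleton_or_nontrivial R with h0 | h0
  · exact Or.inl h0
  · right
    haveI : CharP R p := charP_of p hp
    haveI : NeZero p := ⟨(Fact.out : p.Prime).ne_zero⟩
    have h1 : m.val ≡ n.val [MOD p] := (CharP.natCast_eq_natCast R p).mp h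
    apply ZMod.val_injective
    exact Nat.ModEq.eq_of_lt_of_lt h1 (ZMod.val_lt m) (ZMod.val_lt n)

theorem natCast_pow_p (hp : (p : R) = 0) (n : ℕ) : ((n : R)) ^ p = n := by
  induction n with
  | zero => simp [(Fact.out : p.Prime).ne_zero]
  | succ n ih => rw [Nat.cast_succ, add_pow_p p hp, ih, one_pow]

end alg

section cat
universe v₁ u₁
variable {C : Type u₁} [Category.{v₁} C] [CartesianMonoidalCategory C]

theorem isMonHom_of_points {M N : C} [GrpObj M] [GrpObj N] (v : M ⟶ N)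
    (h : ∀ (T : C) (x y : T ⟶ M), (x * y) ≫ v = (x ≫ v) * (y ≫ v)) : IsMonHom v := by
  have hmul : μ[M] ≫ v = (v ⊗ₘ v) ≫ μ[N] := by
    have h1 := h (M ⊗ M) (fst M M) (snd M M)
    rw [Hom.mul_def, Hom.mul_def, lift_fst_snd, Category.id_comp, lift_fst_comp_snd_comp] at h1
    exact h1
  refine ⟨?_, hmul⟩
  have h1 : (1 : 𝟙_ C ⟶ M) = η := by
    rw [Hom.one_def, toUnit_unique (toUnit _) (𝟙 _), Category.id_comp]
  have h1' : (1 : 𝟙_ C ⟶ N) = η := by
    rw [Hom.one_def, toUnit_unique (toUnit _) (𝟙 _), Category.id_comp]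
  have hx : (η[M] ≫ v) * (η[M] ≫ v) = (η[M] ≫ v) * 1 := by
    rw [_root_.mul_one, ← h, ← h1, _root_.mul_one]
  rw [← h1']
  exact mul_left_cancel hx

end cat

variable {S : Scheme.{u}} (p : ℕ) [Fact p.Prime]

theorem p_eq_zero (hp : (p : Γ(S, ⊤)) = 0) (T : Over S) : (p : Γ(T.left, ⊤)) = 0 := by
  have h := congrArg T.hom.appTop.hom hp
  simpa using h

theorem gaFn_P (F : Red.Ga S ⟶ Red.Ga S)
    (hF : ∀ (T : Over S) (x : T ⟶ Red.Ga S), Red.gaFn (x ≫ F) = Red.gaFn x ^ p)
    (T : Over S) (x : T ⟶ Red.Ga S) :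
    Red.gaFn (x ≫ (𝟙 (Red.Ga S) * F⁻¹)) = Red.gaFn x - Red.gaFn x ^ p := by
  rw [MonObj.comp_mul, GrpObj.comp_inv, Category.comp_id, gaFn_mul, gaFn_inv, hF, sub_eq_add_neg]

theorem isMonHom_P (hp : (p : Γ(S, ⊤)) = 0) (F : Red.Ga S ⟶ Red.Ga S)
    (hF : ∀ (T : Over S) (x : T ⟶ Red.Ga S), Red.gaFn (x ≫ F) = Red.gaFn x ^ p) :
    IsMonHom (𝟙 (Red.Ga S) * F⁻¹) := by
  apply isMonHom_of_points
  intro T x y
  apply ga_ext
  rw [gaFn_P p F hF, gaFn_mul, gaFn_mul, gaFn_P p F hF, gaFn_P p F hF,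
    add_pow_p p (p_eq_zero p hp T)]
  ring

theorem const_hom_ext {M : Type} {Y : Over S} (a b : TwC.const S M ⟶ Y)
    (h : ∀ m, TwC.pt S M m ≫ a = TwC.pt S M m ≫ b) : a = b := by
  apply Over.OverMorphism.ext
  apply Sigma.hom_ext
  intro m
  have h1 := congrArg (fun f => f.left) (h m)
  simpa [TwC.pt] using h1

theorem AS_KV {G' : Over S} [GrpObj G'] (e : G' ≅ TwC.const S (Multiplicative (ZMod p)))
    (he : TwC.IsConstGrp (Multiplicative (ZMod p)) G' e)
    (i : G' ⟶ Red.Ga S) [IsMonHom i]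
    (hi : Red.gaFn (TwC.pt S (Multiplicative (ZMod p)) (Multiplicative.ofAdd 1) ≫ e.inv ≫ i) = 1)
    (m : ZMod p) :
    Red.gaFn (TwC.pt S (Multiplicative (ZMod p)) (Multiplicative.ofAdd m) ≫ e.inv ≫ i) =
      ((m.val : ℕ) : Γ((𝟙_ (Over S)).left, ⊤)) := by
  haveI : NeZero p := ⟨(Fact.out : p.Prime).ne_zero⟩
  have key : ∀ n : ℕ, Red.gaFn (TwC.pt S (Multiplicative (ZMod p))
      (Multiplicative.ofAdd ((n : ℕ) : ZMod p)) ≫ e.inv ≫ i) = (n : Γ((𝟙_ (Over S)).left, ⊤)) := by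
    intro n
    induction n with
    | zero =>
      have h1 : TwC.pt S (Multiplicative (ZMod p)) (Multiplicative.ofAdd (((0 : ℕ) : ZMod p))) ≫ e.inv
          = 1 := by
        have h2 := he 1 1
        rw [_root_.mul_one] at h2
        have h3 : TwC.pt S (Multiplicative (ZMod p)) 1 ≫ e.inv = 1 := mul_eq_left.mp h2
        simpa using h3
      rw [← Category.assoc, h1, MonObj.one_comp i, gaFn_one]
      simp
    | succ n ih =>
      have h1 : TwC.pt S (Multiplicative (ZMod p)) (Multiplicative.ofAdd (((n + 1 : ℕ)) : ZMod p)) ≫ e.inv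
          = (TwC.pt S (Multiplicative (ZMod p)) (Multiplicative.ofAdd ((n : ℕ) : ZMod p)) ≫ e.inv) *
            (TwC.pt S (Multiplicative (ZMod p)) (Multiplicative.ofAdd 1) ≫ e.inv) := by
        rw [he]
        congr 2
        simp [ofAdd_add]
      rw [← Category.assoc, h1, MonObj.mul_comp _ _ i, gaFn_mul, Category.assoc, Category.assoc, ih, hi]
      simp
  have h := key m.val
  rwa [ZMod.natCast_zmod_val] at h

theorem AS_W {G' : Over S} [GrpObj G'] (e : G' ≅ TwC.const S (Multiplicative (ZMod p)))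
    (he : TwC.IsConstGrp (Multiplicative (ZMod p)) G' e)
    (i : G' ⟶ Red.Ga S) [IsMonHom i]
    (hi : Red.gaFn (TwC.pt S (Multiplicative (ZMod p)) (Multiplicative.ofAdd 1) ≫ e.inv ≫ i) = 1)
    (hp : (p : Γ(S, ⊤)) = 0) (F : Red.Ga S ⟶ Red.Ga S)
    (hF : ∀ (T : Over S) (x : T ⟶ Red.Ga S), Red.gaFn (x ≫ F) = Red.gaFn x ^ p) :
    i ≫ (𝟙 (Red.Ga S) * F⁻¹) = 1 := by
  have h : e.inv ≫ i ≫ (𝟙 (Red.Ga S) * F⁻¹) = e.inv ≫ 1 := by
    refine const_hom_ext (M := Multiplicative (ZMod p)) _ _ ?_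
    intro m
    apply ga_ext
    have h0 : (p : Γ((𝟙_ (Over S)).left, ⊤)) = 0 := p_eq_zero p hp (𝟙_ (Over S))
    obtain ⟨m, rfl⟩ : ∃ m' : ZMod p, Multiplicative.ofAdd m' = m := ⟨Multiplicative.toAdd m, rfl⟩
    rw [← Category.assoc, ← Category.assoc, gaFn_P p F hF, Category.assoc, AS_KV p e he i hi,
      MonObj.comp_one, MonObj.comp_one, gaFn_one, natCast_pow_p p h0, sub_self]
  exact (cancel_epi e.inv).mp h

end Groth.Agent.H40.ASBase
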