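import Groth.Prelude.Def_TwC
import Groth.Prelude.Def_NonAbH2

/-!
# Maps to constant schemes, small index type in any universe (helper40)

Same as the first lemmas of `H40/ConstGrp.lean` but for `M : Type v` with `[Small.{u} M]`
(e.g. `M = Multiplicative (ZMod p) : Type`).
-/

set_option autoImplicit false
universe v u
open CategoryTheory CategoryTheory.Limits AlgebraicGeometry MonoidalCategory CartesianMonoidalCategory
open MonObj

namespace Groth.Agent.H40.ConstSmall

variable {S : Scheme.{u}} (M : Type v) [Small.{u} M]

/-- the `m`-th component of the constant scheme. -/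
noncomputable def comp (m : M) : (TwC.const S M).left.Opens :=
  (Sigma.ι (fun _ : M => S) m).opensRange

theorem exists_mem_comp (x : (TwC.const S M).left) : ∃ m, x ∈ comp (S := S) M m := by
  obtain ⟨m, y, rfl⟩ := (sigmaOpenCover (fun _ : M => S)).exists_eq x
  exact ⟨m, y, rfl⟩

theorem comp_disjoint {m n : M} (x : (TwC.const S M).left) (hm : x ∈ comp (S := S) M m)
    (hn : x ∈ comp (S := S) M n) : m = n := by
  by_contra h
  exact (disjoint_opensRange_sigmaι (fun _ : M => S) m n h).le_bot ⟨hm, hn⟩

/-- a map to the constant scheme landing in one component is the constant map. -/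
theorem eq_pt_of_range {T : Over S} (f : T ⟶ TwC.const S M) (m : M)
    (h : ∀ t : T.left, f.left.base t ∈ comp (S := S) M m) : f = toUnit T ≫ TwC.pt S M m := by
  apply Over.OverMorphism.ext
  have hr : Set.range f.left.base ⊆ Set.range (Sigma.ι (fun _ : M => S) m).base := by
    rintro _ ⟨t, rfl⟩
    exact h t
  have hfac := IsOpenImmersion.lift_fac (Sigma.ι (fun _ : M => S) m) f.left hr
  have e : Sigma.ι (fun _ : M => S) m ≫ (TwC.const S M).hom = 𝟙 S := by
    simp [TwC.const]
  have hl : IsOpenImmersion.lift (Sigma.ι (fun _ : M => S) m) f.left hr = T.hom := by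
    have := Over.w f
    rw [← hfac, Category.assoc, e, Category.comp_id] at this
    exact this
  rw [← hfac, hl]
  rfl

/-- the point `pt m` lands in the `m`-th component. -/
theorem pt_mem_comp (m : M) (s : (𝟙_ (Over S)).left) :
    (TwC.pt S M m).left.base s ∈ comp (S := S) M m := ⟨s, rfl⟩

/-- maps out of a constant scheme are determined on the points. -/
theorem const_hom_ext {Y : Over S} (a b : TwC.const S M ⟶ Y)
    (h : ∀ m, TwC.pt S M m ≫ a = TwC.pt S M m ≫ b) : a = b := by
  apply Over.OverMorphism.ext
  apply Sigma.hom_ext
  intro m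
  have h1 := congrArg (fun f => f.left) (h m)
  simpa [TwC.pt] using h1

end Groth.Agent.H40.ConstSmall
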