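import Groth.Agent.H40.ASBase
import Groth.Agent.H40.ConstSmall
import Groth.Agent.H91.GaDict

/-!
# Artin–Schreier: `(ℤ/p)_S ⟶ 𝔾_a` is a monomorphism (helper40)
-/

set_option autoImplicit false
universe u
open CategoryTheory CategoryTheory.Limits MonoidalCategory CartesianMonoidalCategory MonObj GrpObj AlgebraicGeometry

namespace Groth.Agent.H40.ASMono

open Groth.Agent.H40.ASBase Groth.Agent.H40.ConstSmall

theorem AS_KM (p : ℕ) [Fact p.Prime] {S : Scheme.{u}} (hp : (p : Γ(S, ⊤)) = 0)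
    (j : TwC.const S (Multiplicative (ZMod p)) ⟶ Red.Ga S)
    (hj : ∀ m : ZMod p, Red.gaFn (TwC.pt S (Multiplicative (ZMod p)) (Multiplicative.ofAdd m) ≫ j) =
      ((m.val : ℕ) : Γ((𝟙_ (Over S)).left, ⊤))) :
    Mono j := by
  constructor
  intro T a b hab
  apply Over.OverMorphism.ext
  apply Scheme.hom_ext_of_forall
  intro t
  obtain ⟨m, hm⟩ := exists_mem_comp (S := S) (Multiplicative (ZMod p)) (a.left.base t)
  obtain ⟨n, hn⟩ := exists_mem_comp (S := S) (Multiplicative (ZMod p)) (b.left.base t)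
  let W : T.left.Opens := a.left ⁻¹ᵁ comp (S := S) (Multiplicative (ZMod p)) m ⊓
    b.left ⁻¹ᵁ comp (S := S) (Multiplicative (ZMod p)) n
  have htW : t ∈ W := ⟨hm, hn⟩
  let TW : Over S := Over.mk (W.ι ≫ T.hom)
  let wι : TW ⟶ T := Over.homMk W.ι rfl
  have ha : wι ≫ a = toUnit TW ≫ TwC.pt S _ m := eq_pt_of_range _ (wι ≫ a) m (fun w => w.2.1)
  have hb : wι ≫ b = toUnit TW ≫ TwC.pt S _ n := eq_pt_of_range _ (wι ≫ b) n (fun w => w.2.2)
  have hmn : m = n := by
    have h1 : (wι ≫ a) ≫ j = (wι ≫ b) ≫ j := by rw [Category.assoc, hab, Category.assoc]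
    rw [ha, hb, Category.assoc, Category.assoc] at h1
    obtain ⟨m', rfl⟩ : ∃ m' : ZMod p, Multiplicative.ofAdd m' = m := ⟨Multiplicative.toAdd m, rfl⟩
    obtain ⟨n', rfl⟩ : ∃ n' : ZMod p, Multiplicative.ofAdd n' = n := ⟨Multiplicative.toAdd n, rfl⟩
    have h2 := congrArg Red.gaFn h1
    rw [Groth.Agent.H91.GaDict.gaFn_comp (toUnit TW)
        (TwC.pt S (Multiplicative (ZMod p)) (Multiplicative.ofAdd m') ≫ j),
      Groth.Agent.H91.GaDict.gaFn_comp (toUnit TW)
        (TwC.pt S (Multiplicative (ZMod p)) (Multiplicative.ofAdd n') ≫ j),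
      hj, hj, map_natCast, map_natCast] at h2
    rcases natCast_val_inj p (p_eq_zero p hp TW) m' n' h2 with h3 | h3
    · exfalso
      have h4 : (⊤ : TW.left.Opens) = ⊥ := by
        rw [← Scheme.basicOpen_of_isUnit _ (isUnit_one : IsUnit (1 : Γ(TW.left, ⊤))),
          Subsingleton.elim (1 : Γ(TW.left, ⊤)) 0, Scheme.basicOpen_zero]
      have hx : (⟨t, htW⟩ : W) ∈ (⊤ : TW.left.Opens) := trivial
      rw [h4] at hx
      exact hx
    · rw [h3]
  refine ⟨W, htW, ?_⟩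
  have h5 := congrArg (fun f => f.left) (ha.trans (hmn ▸ hb.symm))
  exact h5

end Groth.Agent.H40.ASMono
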