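import Mathlib.AlgebraicGeometry.Sites.Fpqc
import Groth.Prelude.Def_ActBC
import Groth.Agent.S12496

/-!
# fpqc covering families: gluing morphisms, and torsors (helper40)

* `isSheafFor_yoneda`, `hom_ext`, `exists_factor_mono`: representables are sheaves for fpqc covering
  presieves; jointly epi; local factorisation through a mono glues.
* `over_hom_ext`, `over_exists_factor_mono`: the same in `Over S`.
* `PtTriv a σ`: the point `σ : T ⟶ X` trivialises the action on points.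
* `isIso_triv_of_pseudoTorsor`, `ptTriv_of_isIso`, `pseudoTorsor_of_locally_ptTriv`, ...
* `transfer`: properties of `G ⟶ S` pass to an fpqc torsor `X ⟶ S`.
-/

set_option autoImplicit false
universe u
open CategoryTheory CategoryTheory.Limits AlgebraicGeometry MonoidalCategory CartesianMonoidalCategory
open MonObj

namespace Groth.Agent.H40.FpqcFam

section Sheaf

variable {T : Scheme.{u}} {R : Presieve T}

theorem isSheafFor_yoneda (hR : R ∈ Scheme.fpqcPrecoverage T) (Z : Scheme.{u}) :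
    Presieve.IsSheafFor (yoneda.obj Z) R := by
  exact (GrothendieckTopology.Subcanonical.isSheaf_of_isRepresentable
    (J := Scheme.fpqcTopology) (yoneda.obj Z)).isSheafFor _
    (Precoverage.generate_mem_toGrothendieck hR)

theorem hom_ext (hR : R ∈ Scheme.fpqcPrecoverage T) {Z : Scheme.{u}} (p q : T ⟶ Z)
    (h : ∀ ⦃T' : Scheme.{u}⦄ (π : T' ⟶ T), R π → π ≫ p = π ≫ q) : p = q :=
  (isSheafFor_yoneda hR Z).isSeparatedFor.ext (fun _ π hπ => h π hπ)

theorem exists_factor_mono (hR : R ∈ Scheme.fpqcPrecoverage T) {X Y : Scheme.{u}} (f : X ⟶ Y)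
    [Mono f] (x' : T ⟶ Y)
    (h : ∀ ⦃T' : Scheme.{u}⦄ (π : T' ⟶ T), R π → ∃ y : T' ⟶ X, y ≫ f = π ≫ x') :
    ∃ s : T ⟶ X, s ≫ f = x' := by
  choose y hy using h
  let fam : Presieve.FamilyOfElements (yoneda.obj X) R := fun T' π hπ => y π hπ
  have hc : fam.Compatible := by
    intro Y₁ Y₂ W g₁ g₂ f₁ f₂ h₁ h₂ e
    change g₁ ≫ y f₁ h₁ = g₂ ≫ y f₂ h₂
    rw [← cancel_mono f, Category.assoc, Category.assoc, hy, hy, ← Category.assoc, e,
      Category.assoc]
  obtain ⟨s, hs, -⟩ := isSheafFor_yoneda hR X fam hc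
  refine ⟨s, hom_ext hR _ _ fun T' π hπ => ?_⟩
  have h1 : π ≫ s = y π hπ := hs π hπ
  rw [← Category.assoc, h1, hy]

end Sheaf

section Over

variable {S : Scheme.{u}}

/-- `T'` over `S` through `π : T' ⟶ T.left`. -/
abbrev ov (T : Over S) {T' : Scheme.{u}} (π : T' ⟶ T.left) : Over S := Over.mk (π ≫ T.hom)

/-- the structure map `ov T π ⟶ T`. -/
abbrev ovHom (T : Over S) {T' : Scheme.{u}} (π : T' ⟶ T.left) : ov T π ⟶ T := Over.homMk π rfl

theorem over_hom_ext {T Z : Over S} {R' : Presieve T.left}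
    (hR' : R' ∈ Scheme.fpqcPrecoverage T.left) (p q : T ⟶ Z)
    (h : ∀ ⦃T' : Scheme.{u}⦄ (π : T' ⟶ T.left), R' π → ovHom T π ≫ p = ovHom T π ≫ q) : p = q := by
  apply Over.OverMorphism.ext
  refine hom_ext hR' _ _ fun T' π hπ => ?_
  exact congrArg (fun m => m.left) (h π hπ)

theorem over_exists_factor_mono {X Y T : Over S} {R' : Presieve T.left}
    (hR' : R' ∈ Scheme.fpqcPrecoverage T.left) (f : X ⟶ Y) [Mono f] (x' : T ⟶ Y)
    (h : ∀ ⦃T' : Scheme.{u}⦄ (π : T' ⟶ T.left), R' π →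
      ∃ y : ov T π ⟶ X, y ≫ f = ovHom T π ≫ x') : ∃ s : T ⟶ X, s ≫ f = x' := by
  have : Mono f.left := Over.mono_left_of_mono f
  obtain ⟨s₀, hs₀⟩ := exists_factor_mono hR' f.left x'.left (fun T' π hπ => by
    obtain ⟨y, hy⟩ := h π hπ
    exact ⟨y.left, congrArg (fun m => m.left) hy⟩)
  refine ⟨Over.homMk s₀ ?_, ?_⟩
  · rw [← Over.w f, ← Category.assoc, hs₀, Over.w x']
  · apply Over.OverMorphism.ext
    exact hs₀

/-- local sections over any `T`. -/
theorem exists_cover_sections {X : Over S}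
    (h : NonAbH1.IsLocallyTrivialFor Scheme.fpqcPrecoverage X) (T : Over S) :
    ∃ R' ∈ Scheme.fpqcPrecoverage T.left, ∀ ⦃T' : Scheme.{u}⦄ (π : T' ⟶ T.left), R' π →
      Nonempty (ov T π ⟶ X) := by
  obtain ⟨R, hR, hsec⟩ := h
  refine ⟨R.pullbackArrows T.hom, Precoverage.pullbackArrows_mem T.hom hR, ?_⟩
  rintro T' π ⟨Z, p, hp⟩
  obtain ⟨s, hs⟩ := hsec p hp
  exact ⟨Over.homMk (pullback.fst p T.hom ≫ s) (by
    simp only [Category.assoc, hs, Over.mk_hom]
    exact pullback.condition)⟩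

end Over

section Torsor

variable {S : Scheme.{u}} {G X : Over S} [GrpObj G] (a : AlgGrp.Action G X)

/-- the point `σ` trivialises the action on points over `T`. -/
def PtTriv {T : Over S} (σ : T ⟶ X) : Prop :=
  ∀ (W : Over S) (w : W ⟶ T) (x : W ⟶ X), ∃! h : W ⟶ G, lift h (w ≫ σ) ≫ a.act = x

theorem PtTriv.comp {T T' : Over S} {σ : T ⟶ X} (h : PtTriv a σ) (w' : T' ⟶ T) :
    PtTriv a (w' ≫ σ) := fun W w x => by
  simpa only [Category.assoc] using h W (w ≫ w') x

/-- the trivialisation map `(g, t) ↦ (g · σ(t), t)`. -/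
noncomputable def triv {T : Over S} (σ : T ⟶ X) : G ⊗ T ⟶ X ⊗ T :=
  lift ((G ◁ σ) ≫ a.act) (snd G T)

theorem lift_triv {T W : Over S} (σ : T ⟶ X) (h : W ⟶ G) (w : W ⟶ T) :
    lift h w ≫ triv a σ = lift (lift h (w ≫ σ) ≫ a.act) w := by
  unfold triv
  rw [comp_lift, lift_snd, ← Category.assoc, lift_whiskerLeft]

@[reassoc (attr := simp)]
theorem triv_snd {T : Over S} (σ : T ⟶ X) : triv a σ ≫ snd X T = snd G T := by
  unfold triv
  rw [lift_snd]

theorem ptTriv_of_isIso {T : Over S} (σ : T ⟶ X) [IsIso (triv a σ)] : PtTriv a σ := by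
  intro W w x
  obtain ⟨l, hl⟩ : ∃ l, l = lift x w ≫ inv (triv a σ) := ⟨_, rfl⟩
  have e1 : l ≫ triv a σ = lift x w := by
    rw [hl, Category.assoc, IsIso.inv_hom_id, Category.comp_id]
  have e2 : l ≫ snd G T = w := by
    have := congrArg (fun m => m ≫ snd X T) e1
    simpa using this
  have e3 : l = lift (l ≫ fst G T) w := by
    apply CartesianMonoidalCategory.hom_ext
    · rw [lift_fst]
    · rw [lift_snd, e2]
  refine ⟨l ≫ fst G T, ?_, ?_⟩
  · have e4 := e1
    rw [e3, lift_triv] at e4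
    have := congrArg (fun m => m ≫ fst X T) e4
    simpa using this
  · intro h' hh'
    have e5 : lift h' w ≫ triv a σ = l ≫ triv a σ := by
      rw [lift_triv, hh', e1]
    have e6 := (cancel_mono _).mp e5
    rw [← e6, lift_fst]

variable {a}

section

variable [IsIso (lift a.act (snd G X))]

theorem lift_inv_shear {T : Over S} (h : T ⟶ G) (y : T ⟶ X) :
    lift (lift h y ≫ a.act) y ≫ inv (lift a.act (snd G X)) = lift h y := by
  rw [IsIso.comp_inv_eq, comp_lift, lift_snd]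

theorem act_inv_shear {T : Over S} (x y : T ⟶ X) :
    lift (lift x y ≫ inv (lift a.act (snd G X)) ≫ fst G X) y ≫ a.act = x := by
  obtain ⟨l, hl⟩ : ∃ l, l = lift x y ≫ inv (lift a.act (snd G X)) := ⟨_, rfl⟩
  have e1 : l ≫ lift a.act (snd G X) = lift x y := by
    rw [hl, Category.assoc, IsIso.inv_hom_id, Category.comp_id]
  rw [comp_lift] at e1
  have e2 : l ≫ a.act = x := by
    have := congrArg (fun m => m ≫ fst X X) e1
    simpa using this
  have e3 : l ≫ snd G X = y := by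
    have := congrArg (fun m => m ≫ snd X X) e1
    simpa using this
  have e4 : lift (l ≫ fst G X) y = l := by
    apply CartesianMonoidalCategory.hom_ext
    · rw [lift_fst]
    · rw [lift_snd, e3]
  rw [← Category.assoc, ← hl, e4, e2]

/-- inverse of the trivialisation map. -/
noncomputable def trivInv {T : Over S} (σ : T ⟶ X) : X ⊗ T ⟶ G ⊗ T :=
  lift ((X ◁ σ) ≫ inv (lift a.act (snd G X)) ≫ fst G X) (snd X T)

theorem lift_trivInv {T W : Over S} (σ : T ⟶ X) (x : W ⟶ X) (w : W ⟶ T) :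
    lift x w ≫ trivInv (a := a) σ =
      lift (lift x (w ≫ σ) ≫ inv (lift a.act (snd G X)) ≫ fst G X) w := by
  unfold trivInv
  rw [comp_lift, lift_snd, ← Category.assoc, lift_whiskerLeft]

end

/-- a pseudo-torsor is trivialised by any point. -/
theorem isIso_triv_of_pseudoTorsor (hps : NonAbH1.IsPseudoTorsorSch a) {T : Over S} (σ : T ⟶ X) :
    IsIso (triv a σ) := by
  have : IsIso (lift a.act (snd G X)) := hps
  refine ⟨trivInv (a := a) σ, ?_, ?_⟩
  · apply AlgGrp.Action.hom_ext_lift₂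
    intro W h w
    rw [← Category.assoc, lift_triv, lift_trivInv, ← Category.assoc, lift_inv_shear, lift_fst,
      Category.comp_id]
  · apply AlgGrp.Action.hom_ext_lift₂
    intro W x w
    rw [← Category.assoc, lift_trivInv, lift_triv, act_inv_shear, Category.comp_id]

theorem ptTriv_of_pseudoTorsor (hps : NonAbH1.IsPseudoTorsorSch a) {T : Over S} (σ : T ⟶ X) :
    PtTriv a σ :=
  have := isIso_triv_of_pseudoTorsor hps σ
  ptTriv_of_isIso a σ

/-- the hypothesis "trivialised fpqc-locally on every `T`". -/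
def LocPtTriv (a : AlgGrp.Action G X) : Prop :=
  ∀ T : Over S, ∃ R' ∈ Scheme.fpqcPrecoverage T.left, ∀ ⦃T' : Scheme.{u}⦄ (π : T' ⟶ T.left),
    R' π → ∃ σ : ov T π ⟶ X, PtTriv a σ

theorem locPtTriv_of_cover {R : Presieve S} (hR : R ∈ Scheme.fpqcPrecoverage S)
    (h : ∀ ⦃S' : Scheme.{u}⦄ (p : S' ⟶ S), R p → ∃ s : Over.mk p ⟶ X, PtTriv a s) :
    LocPtTriv a := by
  intro T
  refine ⟨R.pullbackArrows T.hom, Precoverage.pullbackArrows_mem T.hom hR, ?_⟩
  rintro T' π ⟨Z, p, hp⟩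
  obtain ⟨s, hs⟩ := h p hp
  let w : ov T (pullback.snd p T.hom) ⟶ Over.mk p :=
    Over.homMk (pullback.fst p T.hom) pullback.condition
  exact ⟨w ≫ s, hs.comp a w⟩

theorem locPtTriv_of_torsor (ha : NonAbH1.IsTorsorFor Scheme.fpqcPrecoverage a) : LocPtTriv a := by
  obtain ⟨hps, R, hR, hsec⟩ := ha
  refine locPtTriv_of_cover hR fun S' p hp => ?_
  obtain ⟨s, hs⟩ := hsec p hp
  exact ⟨Over.homMk s hs, ptTriv_of_pseudoTorsor hps _⟩

theorem free_of_locPtTriv (H : LocPtTriv a) {T : Over S} (g g' : T ⟶ G) (x : T ⟶ X)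
    (e : lift g x ≫ a.act = lift g' x ≫ a.act) : g = g' := by
  obtain ⟨R', hR', hσ⟩ := H T
  refine over_hom_ext hR' g g' fun T' π hπ => ?_
  obtain ⟨σ, hσ⟩ := hσ π hπ
  obtain ⟨h, hh, -⟩ := hσ _ (𝟙 _) (ovHom T π ≫ x)
  rw [Category.id_comp] at hh
  have key : ∀ k : T ⟶ G, lift ((ovHom T π ≫ k) * h) (𝟙 _ ≫ σ) ≫ a.act =
      ovHom T π ≫ lift k x ≫ a.act := by
    intro k
    rw [Category.id_comp, AlgGrp.Action.lift_mul_act, hh, ← Category.assoc, comp_lift]
  have := (hσ _ (𝟙 _) (ovHom T π ≫ lift g x ≫ a.act)).unique (key g) (by rw [e]; exact key g')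
  exact mul_right_cancel this

theorem mono_shear_of_locPtTriv (H : LocPtTriv a) : Mono (lift a.act (snd G X)) := by
  constructor
  intro T p q e
  rw [comp_lift, comp_lift] at e
  have e1 : p ≫ a.act = q ≫ a.act := by
    have := congrArg (fun m => m ≫ fst X X) e
    simpa using this
  have e2 : p ≫ snd G X = q ≫ snd G X := by
    have := congrArg (fun m => m ≫ snd X X) e
    simpa using this
  have hp : p = lift (p ≫ fst G X) (p ≫ snd G X) := by
    apply CartesianMonoidalCategory.hom_ext <;> simp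
  have hq : q = lift (q ≫ fst G X) (p ≫ snd G X) := by
    apply CartesianMonoidalCategory.hom_ext <;> simp [e2]
  have e3 : p ≫ fst G X = q ≫ fst G X := by
    apply free_of_locPtTriv H _ _ (p ≫ snd G X)
    rw [← hp, ← hq, e1]
  rw [hp, hq, e3]

/-- fpqc-locally trivialised on points implies pseudo-torsor. -/
theorem pseudoTorsor_of_locPtTriv (H : LocPtTriv a) : NonAbH1.IsPseudoTorsorSch a := by
  have := mono_shear_of_locPtTriv H
  obtain ⟨R', hR', hσ⟩ := H (X ⊗ X)
  obtain ⟨s, hs⟩ := over_exists_factor_mono hR' (lift a.act (snd G X)) (𝟙 (X ⊗ X))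
    (fun T' π hπ => by
      obtain ⟨σ, hσ⟩ := hσ π hπ
      obtain ⟨h₁, hh₁, -⟩ := hσ _ (𝟙 _) (ovHom (X ⊗ X) π ≫ fst X X)
      obtain ⟨h₂, hh₂, -⟩ := hσ _ (𝟙 _) (ovHom (X ⊗ X) π ≫ snd X X)
      rw [Category.id_comp] at hh₁ hh₂
      refine ⟨lift (h₁ * h₂⁻¹) (ovHom (X ⊗ X) π ≫ snd X X), ?_⟩
      rw [comp_lift, lift_snd, Category.comp_id]
      apply CartesianMonoidalCategory.hom_ext
      · rw [lift_fst]
        conv_lhs => rw [← hh₂]
        rw [← AlgGrp.Action.lift_mul_act, inv_mul_cancel_right, hh₁]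
      · rw [lift_snd])
  have : IsSplitEpi (lift a.act (snd G X)) := ⟨⟨s, hs⟩⟩
  exact isIso_of_mono_of_isSplitEpi _

/-- properties of `G ⟶ S` that are fpqc local on the base pass to fpqc torsors. -/
theorem transfer (P : MorphismProperty Scheme.{u}) [IsZariskiLocalAtTarget P]
    [P.IsStableUnderBaseChange]
    (hP : P.DescendsAlong (@Surjective ⊓ @Flat ⊓ @QuasiCompact : MorphismProperty Scheme.{u}))
    (ha : NonAbH1.IsTorsorFor Scheme.fpqcPrecoverage a) (hG : P G.hom) : P X.hom := by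
  obtain ⟨hps, R, hR, hsec⟩ := ha
  obtain ⟨𝒰, h𝒰⟩ := Precoverage.mem_iff_exists_zeroHypercover.mp hR
  refine Groth.Agent.S12496.result P hP X.hom 𝒰 fun i => ?_
  have hi : R (𝒰.f i) := by rw [h𝒰]; exact Presieve.ofArrows.mk i
  obtain ⟨s, hs⟩ := hsec _ hi
  have h0 := isIso_triv_of_pseudoTorsor hps (Over.homMk s hs : Over.mk (𝒰.f i) ⟶ X)
  have h1 : (triv a (Over.homMk s hs : Over.mk (𝒰.f i) ⟶ X)).left ≫
      pullback.snd X.hom (𝒰.f i) = pullback.snd G.hom (𝒰.f i) := by
    have := congrArg (fun m => Over.Hom.left m)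
      (triv_snd a (Over.homMk s hs : Over.mk (𝒰.f i) ⟶ X))
    simp only [Over.comp_left, Over.snd_left] at this
    exact this
  have h2 : IsIso (triv a (Over.homMk s hs : Over.mk (𝒰.f i) ⟶ X)).left :=
    Functor.map_isIso (Over.forget S) (triv a (Over.homMk s hs : Over.mk (𝒰.f i) ⟶ X))
  rw [← P.cancel_left_of_respectsIso (triv a (Over.homMk s hs : Over.mk (𝒰.f i) ⟶ X)).left, h1]
  exact P.pullback_snd _ _ hG

/-- an equivariant map from a locally trivial pseudo-torsor to a pseudo-torsor is an iso. -/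
theorem isIso_of_equivariant {X' : Over S} {a' : AlgGrp.Action G X'}
    (hps : NonAbH1.IsPseudoTorsorSch a) (hps' : NonAbH1.IsPseudoTorsorSch a')
    (hloc : NonAbH1.IsLocallyTrivialFor Scheme.fpqcPrecoverage X) (f : X ⟶ X')
    (hf : AlgGrp.Action.IsEquivariant a a' f) : IsIso f := by
  have hequiv : ∀ {T : Over S} (g : T ⟶ G) (x : T ⟶ X),
      lift g (x ≫ f) ≫ a'.act = (lift g x ≫ a.act) ≫ f := by
    intro T g x
    unfold AlgGrp.Action.IsEquivariant at hf
    rw [Category.assoc, hf, ← Category.assoc, lift_whiskerLeft]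
  have : Mono f := by
    constructor
    intro T x y e
    obtain ⟨g, hg, -⟩ := ptTriv_of_pseudoTorsor hps x T (𝟙 _) y
    rw [Category.id_comp] at hg
    have e1 : lift g (𝟙 T ≫ x ≫ f) ≫ a'.act = x ≫ f := by
      rw [Category.id_comp, hequiv, hg, e]
    have e2 : lift 1 (𝟙 T ≫ x ≫ f) ≫ a'.act = x ≫ f := by
      rw [Category.id_comp, AlgGrp.Action.lift_one_act]
    have e3 := (ptTriv_of_pseudoTorsor hps' (x ≫ f) T (𝟙 _) (x ≫ f)).unique e1 e2
    rw [← hg, e3, AlgGrp.Action.lift_one_act]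
  obtain ⟨R', hR', hσ⟩ := exists_cover_sections hloc X'
  obtain ⟨s, hs⟩ := over_exists_factor_mono hR' f (𝟙 X') (fun T' π hπ => by
    obtain ⟨σ⟩ := hσ π hπ
    obtain ⟨g, hg, -⟩ := ptTriv_of_pseudoTorsor hps' (σ ≫ f) _ (𝟙 _) (ovHom X' π)
    rw [Category.id_comp] at hg
    exact ⟨lift g σ ≫ a.act, by rw [← hequiv, hg, Category.comp_id]⟩)
  have : IsSplitEpi f := ⟨⟨s, hs⟩⟩
  exact isIso_of_mono_of_isSplitEpi f

end Torsor

section Reflect

variable {X X' : Scheme.{u}} (f : X' ⟶ X) [Flat f] [Surjective f] [QuasiCompact f]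

/-- base change along an fpqc morphism reflects isomorphisms. -/
theorem isIso_of_isIso_pullback_map {A B : Over X} (φ : A ⟶ B)
    [IsIso ((Over.pullback f).map φ)] : IsIso φ := by
  have h1 : IsIso ((Over.pullback f).map φ).left :=
    Functor.map_isIso (Over.forget X') ((Over.pullback f).map φ)
  have hsq : IsPullback ((Over.pullback f).map φ).left (pullback.fst A.hom f)
      (pullback.fst B.hom f) φ.left := by
    refine IsPullback.of_right (h₁₂ := pullback.snd B.hom f) (v₁₃ := f) (h₂₂ := B.hom) ?_ ?_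
      (IsPullback.of_hasPullback B.hom f).flip
    · have e1 : ((Over.pullback f).map φ).left ≫ pullback.snd B.hom f = pullback.snd A.hom f :=
        pullback.lift_snd _ _ _
      rw [e1, Over.w φ]
      exact (IsPullback.of_hasPullback A.hom f).flip
    · exact pullback.lift_fst _ _ _
  have h2 : (MorphismProperty.isomorphisms Scheme.{u}) φ.left :=
    MorphismProperty.of_isPullback_of_descendsAlong
      (P := MorphismProperty.isomorphisms Scheme.{u})
      (Q := (@Surjective ⊓ @Flat ⊓ @QuasiCompact : MorphismProperty Scheme.{u})) hsq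
      ⟨⟨inferInstance, inferInstance⟩, inferInstance⟩ h1
  have h3 : IsIso ((Over.forget X).map φ) := h2
  exact isIso_of_reflects_iso φ (Over.forget X)

end Reflect

end Groth.Agent.H40.FpqcFam
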