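import Groth.Agent.H40.LimQuot
import Groth.Agent.H40.FpqcFam
import Groth.Agent.H40.FlatDesc2
import Groth.Agent.S0084

/-!
# Descent of actions and torsors through cofiltered limits (helper40)
-/

set_option autoImplicit false
universe u
open CategoryTheory CategoryTheory.Limits MonoidalCategory CartesianMonoidalCategory MonObj GrpObj AlgebraicGeometry

namespace Groth.Agent.H40.ActDesc

open Groth.Agent.H63.BCPoints Groth.Agent.S18878 Groth.Agent.S6088 Groth.Agent.S6086

theorem lfp_of_lft {X Y : Scheme.{u}} (f : X ⟶ Y) [IsLocallyNoetherian Y] [LocallyOfFiniteType f] :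
    LocallyOfFinitePresentation f := by
  refine ⟨fun {U} hU {V} hV e => ?_⟩
  haveI : IsNoetherianRing Γ(Y, U) := IsLocallyNoetherian.component_noetherian ⟨U, hU⟩
  exact RingHom.FinitePresentation.of_finiteType.mp (f.finiteType_appLE hU hV e)

section transport
variable {S : Scheme.{u}} {G X Y : Over S} [GrpObj G]

/-- transport of an action along an isomorphism of the space -/
noncomputable def transport (a : AlgGrp.Action G X) (e : X ≅ Y) : AlgGrp.Action G Y where
  act := (G ◁ e.inv) ≫ a.act ≫ e.hom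
  one_act := by
    apply AlgGrp.Action.hom_ext_lift₂
    intro T u y
    have hu : u ≫ η[G] = 1 := by rw [Hom.one_def, toUnit_unique (toUnit T) u]
    rw [lift_whiskerRight_assoc, hu, lift_whiskerLeft_assoc, AlgGrp.Action.lift_one_act_assoc,
      Category.assoc, e.inv_hom_id, Category.comp_id, leftUnitor_hom, lift_snd]
  mul_act := by
    apply AlgGrp.Action.hom_ext_lift₃
    intro T g g' y
    rw [lift_whiskerRight_assoc, ← Hom.mul_def, lift_whiskerLeft_assoc,
      AlgGrp.Action.lift_mul_act_assoc, lift_lift_associator_hom_assoc, lift_whiskerLeft_assoc,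
      lift_whiskerLeft_assoc, lift_whiskerLeft_assoc]
    simp only [Category.assoc, Iso.hom_inv_id, Category.comp_id]

@[simp] theorem transport_act (a : AlgGrp.Action G X) (e : X ≅ Y) :
    (transport a e).act = (G ◁ e.inv) ≫ a.act ≫ e.hom := rfl

end transport

section formal
variable {Q P : Scheme.{u}} (p : P ⟶ Q) {Gq W : Over Q} [GrpObj Gq] (act : Gq ⊗ W ⟶ W)

/-- a morphism `Gq ⊗ W ⟶ W` whose action axioms hold after base change gives an action of the
base change -/
noncomputable def preBc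
    (h1 : (Over.pullback p).map (η[Gq] ▷ W ≫ act) = (Over.pullback p).map (λ_ W).hom)
    (h2 : (Over.pullback p).map (μ[Gq] ▷ W ≫ act) =
      (Over.pullback p).map ((α_ Gq Gq W).hom ≫ (Gq ◁ act) ≫ act)) :
    AlgGrp.Action (Red.bc p Gq) (Red.bc p W) where
  act := Functor.LaxMonoidal.μ (Over.pullback p) Gq W ≫ (Over.pullback p).map act
  one_act := by
    rw [Functor.obj.η_def, comp_whiskerRight, Category.assoc,
      Functor.LaxMonoidal.μ_natural_left_assoc, ← Functor.map_comp, h1]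
    exact (Functor.LaxMonoidal.left_unitality (Over.pullback p) W).symm
  mul_act := by
    rw [Functor.obj.μ_def, comp_whiskerRight, Category.assoc,
      Functor.LaxMonoidal.μ_natural_left_assoc, ← Functor.map_comp, h2, Functor.map_comp,
      Functor.map_comp, Functor.LaxMonoidal.associativity_assoc,
      ← Functor.LaxMonoidal.μ_natural_right_assoc, MonoidalCategory.whiskerLeft_comp,
      Category.assoc]

@[simp] theorem preBc_act (h1) (h2) : (preBc p act h1 h2).act =
    Functor.LaxMonoidal.μ (Over.pullback p) Gq W ≫ (Over.pullback p).map act := rfl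

variable (b : AlgGrp.Action (Red.bc p Gq) (Red.bc p W))
  (hb : b.act = Functor.LaxMonoidal.μ (Over.pullback p) Gq W ≫ (Over.pullback p).map act)

include hb in
theorem one_of_bc :
    (Over.pullback p).map (η[Gq] ▷ W ≫ act) = (Over.pullback p).map (λ_ W).hom := by
  have h := b.one_act
  rw [hb, Functor.obj.η_def, comp_whiskerRight, Category.assoc,
    Functor.LaxMonoidal.μ_natural_left_assoc, ← Functor.map_comp,
    Functor.LaxMonoidal.left_unitality (Over.pullback p) W] at h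
  exact (cancel_epi _).1 ((cancel_epi _).1 h)

include hb in
theorem mul_of_bc :
    (Over.pullback p).map (μ[Gq] ▷ W ≫ act) =
      (Over.pullback p).map ((α_ Gq Gq W).hom ≫ (Gq ◁ act) ≫ act) := by
  have h := b.mul_act
  rw [hb, Functor.obj.μ_def, comp_whiskerRight, Category.assoc,
    Functor.LaxMonoidal.μ_natural_left_assoc, ← Functor.map_comp,
    MonoidalCategory.whiskerLeft_comp, Category.assoc,
    Functor.LaxMonoidal.μ_natural_right_assoc, ← Functor.map_comp,
    ← Functor.LaxMonoidal.associativity_assoc, ← Functor.map_comp] at h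
  exact (cancel_epi _).1 ((cancel_epi _).1 h)

end formal

section precomp
variable {S₀ S' S'' : Scheme.{u}} {k : S' ⟶ S₀} {Z₀ H₀ : Over S₀} {a b : Z₀ ⟶ H₀}

theorem eqOn_precomp (h : EqOn k a b) (k' : S'' ⟶ S') : EqOn (k' ≫ k) a b := by
  intro T t
  have h1 := h ((Over.map k').obj T) (Over.homMk t.left (by simpa using Over.w t))
  apply Over.OverMorphism.ext
  have h2 := congrArg (fun m => m.left) h1
  simpa using h2

end precomp

section tounit
variable {S₀ S' : Scheme.{u}} (k : S' ⟶ S₀)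

theorem prop_toUnit_iff (P : MorphismProperty Scheme.{u}) [P.RespectsIso] (X : Over S₀) :
    P ((Over.pullback k).map (toUnit X)).left ↔ P (Red.bc k X).hom := by
  have hw : ((Over.pullback k).map (toUnit X)).left ≫ (Red.bc k (𝟙_ (Over S₀))).hom =
      (Red.bc k X).hom := Over.w _
  haveI : IsIso (Red.bc k (𝟙_ (Over S₀))).hom := by
    show IsIso (pullback.snd (𝟙_ (Over S₀)).hom k)
    rw [Over.tensorUnit_hom]
    exact (IsPullback.of_hasPullback (𝟙 S₀) k).isIso_snd_of_isIso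
  rw [← hw, P.cancel_right_of_respectsIso]

end tounit

section cocycle
variable {P Q' Q K : Scheme.{u}} (p' : P ⟶ Q') (g : Q' ⟶ Q) {p : P ⟶ Q} (hw : p' ≫ g = p)
  (q : Q ⟶ K) {q' : Q' ⟶ K} (hg : g ≫ q = q') {qT : P ⟶ K} (hp : p ≫ q = qT)
  (hp' : p' ≫ q' = qT) (G : Over K)

theorem cocycle :
    (Over.pullback p').map (ActBC.bcCompIso g q G hg).inv ≫
      (ActBC.bcCompIso p' g (Red.bc q G) hw).hom ≫ (ActBC.bcCompIso p q G hp).hom =
    (ActBC.bcCompIso p' q' G hp').hom := by
  apply Over.OverMorphism.ext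
  apply pullback.hom_ext
  · simp only [Over.comp_left, Category.assoc, ActBC.bcCompIso_hom_left_fst,
      ActBC.bcCompIso_hom_left_fst_assoc, ActBC.pullback_map_left_fst_assoc]
    rw [bcCompIso_inv_left_fst_fst]
  · exact (Over.w _).trans (Over.w _).symm

end cocycle

section star
variable {P Q' Q K : Scheme.{u}} (p' : P ⟶ Q') (g : Q' ⟶ Q) {p : P ⟶ Q} (hw : p' ≫ g = p)
  (q : Q ⟶ K) {q' : Q' ⟶ K} (hg : g ≫ q = q') {qT : P ⟶ K} (hp : p ≫ q = qT)
  (hp' : p' ≫ q' = qT) {G : Over K} [GrpObj G]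
  {W : Over Q} {V : Over P} (a : AlgGrp.Action (Red.bc qT G) V) (θ : V ≅ Red.bc p W)

/-- the relation between a morphism `act` over the stage `Q` and the action `a` over the limit -/
def Star (act : Red.bc q G ⊗ W ⟶ W) : Prop :=
  Functor.LaxMonoidal.μ (Over.pullback p) (Red.bc q G) W ≫ (Over.pullback p).map act =
    ((ActBC.bcCompIso p q G hp).hom ⊗ₘ θ.inv) ≫ a.act ≫ θ.hom

theorem star_of_conj (ui : Red.bc g (Red.bc q G ⊗ W) ⟶ Red.bc g W)
    (Y : Red.bc p (Red.bc q G ⊗ W) ⟶ Red.bc p W)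
    (hconj : (Over.pullback p').map ui =
      (ActBC.bcCompIso p' g (Red.bc q G ⊗ W) hw).hom ≫ Y ≫ (ActBC.bcCompIso p' g W hw).inv)
    (hY : Functor.LaxMonoidal.μ (Over.pullback p) (Red.bc q G) W ≫ Y =
      ((ActBC.bcCompIso p q G hp).hom ⊗ₘ θ.inv) ≫ a.act ≫ θ.hom) :
    Star (p := p') q' hp' a (θ ≪≫ (ActBC.bcCompIso p' g W hw).symm)
      (((ActBC.bcCompIso g q G hg).inv ▷ Red.bc g W) ≫
        Functor.LaxMonoidal.μ (Over.pullback g) (Red.bc q G) W ≫ ui) := by
  unfold Star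
  rw [Functor.map_comp, Functor.map_comp, hconj, ← Functor.LaxMonoidal.μ_natural_left_assoc,
    reassoc_of% (Groth.Agent.H40.RelGrp.bcCompIso_tensor p' g hw (Red.bc q G) W),
    reassoc_of% hY, ← cocycle p' g hw q hg hp hp' G]
  simp only [Iso.trans_hom, Iso.trans_inv, Iso.symm_hom, Iso.symm_inv, Category.assoc,
    ← tensorHom_id, tensorHom_comp_tensorHom_assoc, Category.id_comp]

end star

section fp
variable {S : Scheme.{u}}

/-- finite presentation of the structure morphism -/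
structure FP (A : Over S) : Prop where
  lfp : LocallyOfFinitePresentation A.hom
  qc : QuasiCompact A.hom
  qs : QuasiSeparated A.hom

theorem FP.mk' (A : Over S) [LocallyOfFinitePresentation A.hom] [QuasiCompact A.hom]
    [QuasiSeparated A.hom] : FP A := ⟨inferInstance, inferInstance, inferInstance⟩

theorem FP.tensor {A B : Over S} (hA : FP A) (hB : FP B) : FP (A ⊗ B) := by
  haveI := hA.lfp
  haveI := hA.qc
  haveI := hA.qs
  haveI := hB.lfp
  haveI := hB.qc
  haveI := hB.qs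
  refine ⟨?_, ?_, ?_⟩ <;> · rw [Over.tensorObj_hom]; infer_instance

theorem FP.unit : FP (𝟙_ (Over S)) := by
  refine ⟨?_, ?_, ?_⟩
  · rw [Over.tensorUnit_hom]; exact locallyOfFinitePresentation_of_isOpenImmersion (𝟙 S)
  · rw [Over.tensorUnit_hom]; exact MorphismProperty.id_mem (@QuasiCompact) _
  · rw [Over.tensorUnit_hom]; exact MorphismProperty.id_mem (@QuasiSeparated) _

theorem FP.bc {S' : Scheme.{u}} (k : S' ⟶ S) {A : Over S} (hA : FP A) : FP (Red.bc k A) := by
  haveI := hA.lfp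
  haveI := hA.qc
  haveI := hA.qs
  exact ⟨inferInstanceAs (LocallyOfFinitePresentation (pullback.snd A.hom k)),
    inferInstanceAs (QuasiCompact (pullback.snd A.hom k)),
    inferInstanceAs (QuasiSeparated (pullback.snd A.hom k))⟩

end fp

section main
variable {I : Type u} [SmallCategory I] [IsCofiltered I]
  (D : I ⥤ Scheme.{u}) (c : Limits.Cone D) (hc : Limits.IsLimit c)
  [∀ (i j : I) (a : i ⟶ j), IsAffineHom (D.map a)] [∀ i, CompactSpace (D.obj i)]
  [∀ i, QuasiSeparatedSpace (D.obj i)]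
  {K : Scheme.{u}} (q : ∀ i, D.obj i ⟶ K) (hq : ∀ {i j : I} (f : i ⟶ j), D.map f ≫ q j = q i)
  (qT : c.pt ⟶ K) (hqT : ∀ i, c.π.app i ≫ q i = qT)
  (G : Over K) [GrpObj G] (hG : FP G)
  (V : Over c.pt) (a : AlgGrp.Action (Red.bc qT G) V)

open Groth.Agent.S6092 in
include hc hq hG in
theorem stage2 (hps : NonAbH1.IsPseudoTorsorSch a) (hfl : Flat V.hom) (hsu : Surjective V.hom)
    (i : I) (Vi : Over (D.obj i)) (hVi : FP Vi)
    (θ : V ≅ Red.bc (c.π.app i) Vi) (act : Red.bc (q i) G ⊗ Vi ⟶ Vi)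
    (hS : Star (p := c.π.app i) (q i) (hqT i) a θ act) :
    ∃ (i' : I) (Vi' : Over (D.obj i')) (ai : AlgGrp.Action (Red.bc (q i') G) Vi'),
      FP Vi' ∧ Flat Vi'.hom ∧ Surjective Vi'.hom ∧ NonAbH1.IsPseudoTorsorSch ai ∧
      Nonempty (NonAbH1.EquivIso (ai.bc (c.π.app i'))
        (a.restrict (ActBC.bcCompIso (c.π.app i') (q i') G (hqT i')).hom)) := by
  have hGi : FP (Red.bc (q i) G) := hG.bc (q i)
  haveI := hVi.lfp
  haveI := hVi.qc
  haveI := hVi.qs
  haveI := (FP.unit (S := D.obj i)).lfp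
  haveI := (FP.unit (S := D.obj i)).qc
  haveI := (FP.unit (S := D.obj i)).qs
  haveI := ((FP.unit (S := D.obj i)).tensor hVi).lfp
  haveI := ((FP.unit (S := D.obj i)).tensor hVi).qc
  haveI := ((FP.unit (S := D.obj i)).tensor hVi).qs
  haveI := ((hGi.tensor hGi).tensor hVi).lfp
  haveI := ((hGi.tensor hGi).tensor hVi).qc
  haveI := ((hGi.tensor hGi).tensor hVi).qs
  haveI := (hGi.tensor hVi).lfp
  haveI := (hGi.tensor hVi).qc
  haveI := (hGi.tensor hVi).qs
  haveI := (hVi.tensor hVi).lfp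
  haveI := (hVi.tensor hVi).qc
  haveI := (hVi.tensor hVi).qs
  -- the action over the limit
  obtain ⟨b, hbdef⟩ : ∃ b : AlgGrp.Action (Red.bc (c.π.app i) (Red.bc (q i) G))
      (Red.bc (c.π.app i) Vi),
      b = transport (a.restrict (ActBC.bcCompIso (c.π.app i) (q i) G (hqT i)).hom) θ := ⟨_, rfl⟩
  have hb : b.act = Functor.LaxMonoidal.μ (Over.pullback (c.π.app i)) (Red.bc (q i) G) Vi ≫
      (Over.pullback (c.π.app i)).map act := by
    rw [hS, hbdef, transport_act, AlgGrp.Action.restrict_act, tensorHom_def']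
    simp only [Category.assoc]
  have E1 := (eqOn_iff_map_eq (c.π.app i) _ _).2 (one_of_bc (c.π.app i) act b hb)
  have E2 := (eqOn_iff_map_eq (c.π.app i) _ _).2 (mul_of_bc (c.π.app i) act b hb)
  have hisoT : IsIso (lift (Functor.LaxMonoidal.μ (Over.pullback (c.π.app i)) (Red.bc (q i) G) Vi ≫
      (Over.pullback (c.π.app i)).map act)
      (snd (Red.bc (c.π.app i) (Red.bc (q i) G)) (Red.bc (c.π.app i) Vi))) := by
    rw [hS]
    have e : lift (((ActBC.bcCompIso (c.π.app i) (q i) G (hqT i)).hom ⊗ₘ θ.inv) ≫ a.act ≫ θ.hom)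
        (snd (Red.bc (c.π.app i) (Red.bc (q i) G)) (Red.bc (c.π.app i) Vi)) =
        ((ActBC.bcCompIso (c.π.app i) (q i) G (hqT i)).hom ⊗ₘ θ.inv) ≫
          lift a.act (snd (Red.bc qT G) V) ≫ (θ.hom ⊗ₘ θ.hom) := by
      apply CartesianMonoidalCategory.hom_ext
      · simp only [lift_fst, Category.assoc, tensorHom_fst, lift_fst_assoc]
      · simp only [lift_snd, Category.assoc, tensorHom_snd, lift_snd_assoc, tensorHom_snd_assoc,
          Iso.inv_hom_id, Category.comp_id]
    rw [e]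
    haveI : IsIso (lift a.act (snd (Red.bc qT G) V)) := hps
    infer_instance
  obtain ⟨hinj, hfact⟩ := (isIso_iff (c.π.app i) (Phi act)).1
    ((isIso_phi_iff (c.π.app i) act).1 hisoT)
  haveI : LocallyOfFinitePresentation ((Phi act).left ≫ (Vi ⊗ Vi).hom) := by
    rw [Over.w (Phi act)]; infer_instance
  haveI : QuasiCompact ((Phi act).left ≫ (Vi ⊗ Vi).hom) := by
    rw [Over.w (Phi act)]; infer_instance
  haveI : QuasiSeparated ((Phi act).left ≫ (Vi ⊗ Vi).hom) := by
    rw [Over.w (Phi act)]; infer_instance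
  haveI : LocallyOfFinitePresentation (Phi act).left :=
    Groth.Agent.H49.SmoothFibreMap.lfp_of_comp_of_lft (Phi act).left (Vi ⊗ Vi).hom
      inferInstance inferInstance
  haveI : QuasiCompact (Phi act).left := QuasiCompact.of_comp (Phi act).left (Vi ⊗ Vi).hom
  haveI : QuasiSeparated (Phi act).left := QuasiSeparated.of_comp (Phi act).left (Vi ⊗ Vi).hom
  haveI : IsIso θ.inv.left := inferInstanceAs (IsIso ((Over.forget _).map θ.inv))
  have hflT : Flat (Red.bc (c.π.app i) Vi).hom := by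
    rw [← Over.w θ.inv]; infer_instance
  have hsuT : Surjective (Red.bc (c.π.app i) Vi).hom := by
    rw [← Over.w θ.inv]; infer_instance
  have s1 := exists_stage_eq D c hc i _ _ E1
  have s2 := exists_stage_eq D c hc i _ _ E2
  have s3 := exists_stage_injOn D c hc i (Phi act) hinj
  have s4 := exists_stage' D c hc i (Phi act) hinj (𝟙 (Vi ⊗ Vi)) hfact
  have s5 := Groth.Agent.H40.LimQuot.exists_stage_flat D c hc i (toUnit Vi)
    ((prop_toUnit_iff (c.π.app i) @Flat Vi).2 hflT)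
  have s6 := Groth.Agent.H40.LimQuot.exists_stage_surjective D c hc i (toUnit Vi)
    ((prop_toUnit_iff (c.π.app i) @Surjective Vi).2 hsuT)
  have s12 := exists_common i
    (fun i' g => EqOn (D.map g) (η[Red.bc (q i) G] ▷ Vi ≫ act) (λ_ Vi).hom)
    (fun i' g => EqOn (D.map g) (μ[Red.bc (q i) G] ▷ Vi ≫ act)
      ((α_ (Red.bc (q i) G) (Red.bc (q i) G) Vi).hom ≫ (Red.bc (q i) G ◁ act) ≫ act))
    (fun φ b h => by rw [D.map_comp]; exact eqOn_precomp h (D.map b))
    (fun φ b h => by rw [D.map_comp]; exact eqOn_precomp h (D.map b)) s1 s2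
  have s34 := exists_common i (fun i' g => InjOn (D.map g) (Phi act))
    (fun i' g => Fact (D.map g) (Phi act) (𝟙 (Vi ⊗ Vi)))
    (fun φ b h => InjOn.restage D i (Phi act) h b)
    (fun φ b h => Fact.restage D i (Phi act) h b) s3 s4
  have s56 := exists_common i
    (fun i' g => Flat ((Over.pullback (D.map g)).map (toUnit Vi)).left)
    (fun i' g => Surjective ((Over.pullback (D.map g)).map (toUnit Vi)).left)
    (fun φ b h => by
      rw [D.map_comp]
      exact Groth.Agent.H40.LimQuot.prop_restage (D.map φ) (D.map b) @Flat (toUnit Vi) h)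
    (fun φ b h => by
      rw [D.map_comp]
      exact Groth.Agent.H40.LimQuot.prop_restage (D.map φ) (D.map b) @Surjective (toUnit Vi) h)
    s5 s6
  have s1234 := exists_common i
    (fun i' g => EqOn (D.map g) (η[Red.bc (q i) G] ▷ Vi ≫ act) (λ_ Vi).hom ∧
      EqOn (D.map g) (μ[Red.bc (q i) G] ▷ Vi ≫ act)
        ((α_ (Red.bc (q i) G) (Red.bc (q i) G) Vi).hom ≫ (Red.bc (q i) G ◁ act) ≫ act))
    (fun i' g => InjOn (D.map g) (Phi act) ∧ Fact (D.map g) (Phi act) (𝟙 (Vi ⊗ Vi)))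
    (fun φ b h => by
      rw [D.map_comp]; exact ⟨eqOn_precomp h.1 (D.map b), eqOn_precomp h.2 (D.map b)⟩)
    (fun φ b h => ⟨InjOn.restage D i (Phi act) h.1 b, Fact.restage D i (Phi act) h.2 b⟩)
    s12 s34
  obtain ⟨i', g, ⟨⟨r1, r2⟩, ⟨r3, r4⟩⟩, ⟨r5, r6⟩⟩ := exists_common i
    (fun i' g => (EqOn (D.map g) (η[Red.bc (q i) G] ▷ Vi ≫ act) (λ_ Vi).hom ∧
      EqOn (D.map g) (μ[Red.bc (q i) G] ▷ Vi ≫ act)
        ((α_ (Red.bc (q i) G) (Red.bc (q i) G) Vi).hom ≫ (Red.bc (q i) G ◁ act) ≫ act)) ∧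
      (InjOn (D.map g) (Phi act) ∧ Fact (D.map g) (Phi act) (𝟙 (Vi ⊗ Vi))))
    (fun i' g => Flat ((Over.pullback (D.map g)).map (toUnit Vi)).left ∧
      Surjective ((Over.pullback (D.map g)).map (toUnit Vi)).left)
    (fun φ b h => by
      refine ⟨?_, InjOn.restage D i (Phi act) h.2.1 b, Fact.restage D i (Phi act) h.2.2 b⟩
      rw [D.map_comp]; exact ⟨eqOn_precomp h.1.1 (D.map b), eqOn_precomp h.1.2 (D.map b)⟩)
    (fun φ b h => by
      rw [D.map_comp]
      exact ⟨Groth.Agent.H40.LimQuot.prop_restage (D.map φ) (D.map b) @Flat (toUnit Vi) h.1,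
        Groth.Agent.H40.LimQuot.prop_restage (D.map φ) (D.map b) @Surjective (toUnit Vi) h.2⟩)
    s1234 s56
  refine ⟨i', Red.bc (D.map g) Vi,
    (preBc (D.map g) act ((eqOn_iff_map_eq _ _ _).1 r1) ((eqOn_iff_map_eq _ _ _).1 r2)).restrict
      (ActBC.bcCompIso (D.map g) (q i) G (hq g)).inv,
    hVi.bc (D.map g), (prop_toUnit_iff (D.map g) @Flat Vi).1 r5,
    (prop_toUnit_iff (D.map g) @Surjective Vi).1 r6, ?_, ?_⟩
  · show IsIso (lift _ (snd _ _))
    rw [AlgGrp.Action.restrict_act, preBc_act]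
    have e : lift (((ActBC.bcCompIso (D.map g) (q i) G (hq g)).inv ▷ Red.bc (D.map g) Vi) ≫
        Functor.LaxMonoidal.μ (Over.pullback (D.map g)) (Red.bc (q i) G) Vi ≫
          (Over.pullback (D.map g)).map act)
        (snd (Red.bc (q i') G) (Red.bc (D.map g) Vi)) =
        ((ActBC.bcCompIso (D.map g) (q i) G (hq g)).inv ▷ Red.bc (D.map g) Vi) ≫
          lift (Functor.LaxMonoidal.μ (Over.pullback (D.map g)) (Red.bc (q i) G) Vi ≫
            (Over.pullback (D.map g)).map act)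
          (snd (Red.bc (D.map g) (Red.bc (q i) G)) (Red.bc (D.map g) Vi)) := by
      rw [comp_lift, whiskerRight_snd]
    rw [e]
    haveI := (isIso_phi_iff (D.map g) act).2 ((isIso_iff _ _).2 ⟨r3, r4⟩)
    infer_instance
  · have hconj : (Over.pullback (c.π.app i')).map ((Over.pullback (D.map g)).map act) =
        (ActBC.bcCompIso (c.π.app i') (D.map g) (Red.bc (q i) G ⊗ Vi) (c.w g)).hom ≫
          (Over.pullback (c.π.app i)).map act ≫
            (ActBC.bcCompIso (c.π.app i') (D.map g) Vi (c.w g)).inv := by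
      rw [← Category.assoc, ← ActBC.bcCompIso_hom_naturality (c.π.app i') (D.map g) (c.w g) act,
        Category.assoc, Iso.hom_inv_id, Category.comp_id]
    have hS' := star_of_conj (c.π.app i') (D.map g) (c.w g) (q i) (hq g) (hqT i) (hqT i') a θ
      ((Over.pullback (D.map g)).map act) ((Over.pullback (c.π.app i)).map act) hconj hS
    unfold Star at hS'
    refine ⟨⟨(θ ≪≫ (ActBC.bcCompIso (c.π.app i') (D.map g) Vi (c.w g)).symm).symm, ?_⟩⟩
    rw [AlgGrp.Action.bc_act, AlgGrp.Action.restrict_act, AlgGrp.Action.restrict_act, preBc_act,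
      hS', tensorHom_def']
    simp only [Iso.symm_hom, Iso.trans_inv, Iso.symm_inv, Iso.trans_hom, Category.assoc,
      Iso.hom_inv_id, Iso.inv_hom_id_assoc, Category.comp_id]

include hc hq hG in
/-- an action of the base change of `G` on a finitely presented flat surjective pseudo-torsor over
the limit descends to a stage. -/
theorem exists_stage_torsor (hV : FP V) (hps : NonAbH1.IsPseudoTorsorSch a) (hfl : Flat V.hom)
    (hsu : Surjective V.hom) :
    ∃ (i' : I) (Vi' : Over (D.obj i')) (ai : AlgGrp.Action (Red.bc (q i') G) Vi'),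
      FP Vi' ∧ Flat Vi'.hom ∧ Surjective Vi'.hom ∧ NonAbH1.IsPseudoTorsorSch ai ∧
      Nonempty (NonAbH1.EquivIso (ai.bc (c.π.app i'))
        (a.restrict (ActBC.bcCompIso (c.π.app i') (q i') G (hqT i')).hom)) := by
  haveI hAff : ∀ {i j : I} (f : i ⟶ j), IsAffineHom (D.map f) := fun f => inferInstance
  haveI := hV.lfp
  haveI := hV.qc
  haveI := hV.qs
  obtain ⟨i₁, Z₁, h₁, g₁, p1, p2, p3, sq⟩ := Groth.Agent.H24.desc_of_finitePresentation hc V.hom
  obtain ⟨V₁, hV₁⟩ : ∃ V₁ : Over (D.obj i₁), V₁ = Over.mk h₁ := ⟨_, rfl⟩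
  have hV₁fp : FP V₁ := by rw [hV₁]; exact ⟨p1, p2, p3⟩
  obtain ⟨θ₀⟩ : Nonempty (V ≅ Red.bc (c.π.app i₁) V₁) := by
    rw [hV₁]
    exact ⟨Over.isoMk sq.isoPullback (by
      show sq.isoPullback.hom ≫ pullback.snd h₁ (c.π.app i₁) = V.hom
      exact sq.isoPullback_hom_snd)⟩
  have hG₁ : FP (Red.bc (q i₁) G) := hG.bc (q i₁)
  haveI := hV₁fp.lfp
  haveI := (hG₁.tensor hV₁fp).qc
  haveI := (hG₁.tensor hV₁fp).qs
  obtain ⟨u, hu⟩ : ∃ u : Red.bc (c.π.app i₁) (Red.bc (q i₁) G ⊗ V₁) ⟶ Red.bc (c.π.app i₁) V₁,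
      u = inv (Functor.LaxMonoidal.μ (Over.pullback (c.π.app i₁)) (Red.bc (q i₁) G) V₁) ≫
        ((ActBC.bcCompIso (c.π.app i₁) (q i₁) G (hqT i₁)).hom ⊗ₘ θ₀.inv) ≫ a.act ≫ θ₀.hom :=
    ⟨_, rfl⟩
  obtain ⟨i, f, ui, hui⟩ := Groth.Agent.S6085.exists_hom_stage D c i₁ (Red.bc (q i₁) G ⊗ V₁) V₁ hc u
  have hS := star_of_conj (c.π.app i) (D.map f) (c.w f) (q i₁) (hq f) (hqT i₁) (hqT i) a θ₀ ui u
    hui.eq (by rw [hu, IsIso.hom_inv_id_assoc])
  exact stage2 D c hc q hq qT hqT G hG V a hps hfl hsu i (Red.bc (D.map f) V₁)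
    (hV₁fp.bc (D.map f)) _ _ hS

end main

end Groth.Agent.H40.ActDesc
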