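import Groth.Agent.H40.IsogFactor
import Groth.Prelude.Def_AlgGrp
import Groth.Prelude.Def_ChGrp

/-!
# Descending an action to the quotient by its kernel (helper40, for S14643)
-/

set_option autoImplicit false
set_option linter.unusedSectionVars false
universe u
open CategoryTheory CategoryTheory.Limits AlgebraicGeometry MorphismProperty MonoidalCategory
  CartesianMonoidalCategory MonObj GrpObj

namespace Groth.Agent.H40.ActQuot

section general

variable {S : Scheme.{u}}

theorem fs_whiskerRight {A B : Over S} (W : Over S) (f : A ⟶ B) (h1 : Flat f.left) (h2 : Surjective f.left) :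
    Flat (f ▷ W).left ∧ Surjective (f ▷ W).left := by
  have h : IsPullback (fst A W).left (f ▷ W).left f.left (fst B W).left :=
    (Groth.Agent.H40.IsogFactor.sq_fst' f).map (Over.forget S)
  exact ⟨MorphismProperty.of_isPullback (P := @Flat) h h1,
    MorphismProperty.of_isPullback (P := @Surjective) h h2⟩

theorem fs_whiskerLeft {A B : Over S} (W : Over S) (f : A ⟶ B) (h1 : Flat f.left) (h2 : Surjective f.left) :
    Flat (W ◁ f).left ∧ Surjective (W ◁ f).left := by
  have h : IsPullback (snd W A).left (W ◁ f).left f.left (snd W B).left :=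
    (Groth.Agent.H40.MaxOpen.sq_snd' (G := W) f).map (Over.forget S)
  exact ⟨MorphismProperty.of_isPullback (P := @Flat) h h1,
    MorphismProperty.of_isPullback (P := @Surjective) h h2⟩

theorem epi_of_fs {A B : Over S} (f : A ⟶ B) (h1 : Flat f.left) (h2 : Surjective f.left) : Epi f := by
  have : Epi f.left := AlgebraicGeometry.Flat.epi_of_flat_of_surjective _
  exact Groth.Agent.H40.FpqcDesc.epi_of_epi_left f

end general

section field

variable {k : Type u} [Field k] {G N Q X : Over (Spec (CommRingCat.of k))} [GrpObj G] [GrpObj N] [GrpObj Q]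
  (a : AlgGrp.Action G X) (n : N ⟶ G) (π : G ⟶ Q) [IsMonHom π]

/-- a point killed by `π` comes from the kernel -/
theorem exists_of_ker (hker : AlgGrp.IsKernel n π) {T : Over (Spec (CommRingCat.of k))} (g : T ⟶ G)
    (hg : g ≫ π = 1) : ∃ m : T ⟶ N, m ≫ n = g := by
  have hk : IsPullback n (toUnit N) π η[Q] := hker
  refine ⟨hk.lift g (toUnit T) (by rw [hg, Hom.one_def]), hk.lift_fst _ _ _⟩

/-- the kernel is killed by `π` -/
theorem ker_comp (hker : AlgGrp.IsKernel n π) {T : Over (Spec (CommRingCat.of k))} (m : T ⟶ N) :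
    (m ≫ n) ≫ π = 1 := by
  have hk : IsPullback n (toUnit N) π η[Q] := hker
  rw [Category.assoc, hk.w, Hom.one_def, ← Category.assoc, toUnit_unique (m ≫ toUnit N) (toUnit T)]

variable (hker : AlgGrp.IsKernel n π)
  (hN : ∀ (T : Over (Spec (CommRingCat.of k))) (g : T ⟶ G),
      (∃ m : T ⟶ N, m ≫ n = g) ↔
        ∀ (T' : Over (Spec (CommRingCat.of k))) (s : T' ⟶ T) (x : T' ⟶ X), lift (s ≫ g) x ≫ a.act = x)

include hker hN in
/-- the action morphism is constant on the fibres of `π ▷ X` -/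
theorem act_invariant (W : Over (Spec (CommRingCat.of k))) (t₁ t₂ : W ⟶ G ⊗ X)
    (h : t₁ ≫ (π ▷ X) = t₂ ≫ (π ▷ X)) : t₁ ≫ a.act = t₂ ≫ a.act := by
  have e1 : t₁ = lift (t₁ ≫ fst G X) (t₁ ≫ snd G X) := by rw [← comp_lift, lift_fst_snd, Category.comp_id]
  have e2 : t₂ = lift (t₂ ≫ fst G X) (t₂ ≫ snd G X) := by rw [← comp_lift, lift_fst_snd, Category.comp_id]
  have hf : (t₁ ≫ fst G X) ≫ π = (t₂ ≫ fst G X) ≫ π := by
    have := congrArg (· ≫ fst Q X) h
    simpa only [Category.assoc, whiskerRight_fst] using this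
  have hs : t₁ ≫ snd G X = t₂ ≫ snd G X := by
    have := congrArg (· ≫ snd Q X) h
    simpa only [Category.assoc, whiskerRight_snd] using this
  set g₁ := t₁ ≫ fst G X
  set g₂ := t₂ ≫ fst G X
  set x := t₁ ≫ snd G X
  have hn : (g₁⁻¹ * g₂) ≫ π = 1 := by
    rw [MonObj.mul_comp, GrpObj.inv_comp, hf, inv_mul_cancel]
  obtain ⟨m, hm⟩ := exists_of_ker n π hker _ hn
  have htriv := (hN W (g₁⁻¹ * g₂)).1 ⟨m, hm⟩ W (𝟙 W) x
  rw [Category.id_comp] at htriv
  rw [e1, e2, ← hs]
  have : g₂ = g₁ * (g₁⁻¹ * g₂) := by rw [mul_inv_cancel_left]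
  rw [this, AlgGrp.Action.lift_mul_act, htriv]

variable [LocallyOfFiniteType G.hom] [LocallyOfFiniteType Q.hom] [LocallyOfFiniteType X.hom]
  [Flat π.left] [Surjective π.left]

include hker hN in
/-- existence of the descended action -/
theorem exists_action : ∃ b : AlgGrp.Action Q X, (π ▷ X) ≫ b.act = a.act := by
  haveI : LocallyOfFiniteType (G ⊗ X).hom := by rw [Over.tensorObj_hom]; infer_instance
  haveI : LocallyOfFiniteType (Q ⊗ X).hom := by rw [Over.tensorObj_hom]; infer_instance
  obtain ⟨f1, f2⟩ := fs_whiskerRight X π inferInstance inferInstance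
  haveI : EffectiveEpi (π ▷ X).left := Groth.Agent.H40.FpqcDesc.effectiveEpi_left (π ▷ X)
  obtain ⟨β, hβ⟩ := Groth.Agent.H40.FpqcDesc.exists_desc (π ▷ X) a.act (act_invariant a n π hker hN)
  have hβ' : ∀ {T : Over (Spec (CommRingCat.of k))} (g : T ⟶ G) (x : T ⟶ X),
      lift (g ≫ π) x ≫ β = lift g x ≫ a.act := by
    intro T g x
    rw [← hβ, lift_whiskerRight_assoc]
  refine ⟨⟨β, ?_, ?_⟩, hβ⟩
  · rw [← IsMonHom.one_hom (f := π), comp_whiskerRight, Category.assoc, hβ, a.one_act]
  · have hE : Epi ((π ⊗ₘ π) ▷ X) := by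
      obtain ⟨p1, p2⟩ := fs_whiskerRight G π inferInstance inferInstance
      obtain ⟨q1, q2⟩ := fs_whiskerLeft Q π inferInstance inferInstance
      obtain ⟨p1', p2'⟩ := fs_whiskerRight X (π ▷ G) p1 p2
      obtain ⟨q1', q2'⟩ := fs_whiskerRight X (Q ◁ π) q1 q2
      have := epi_of_fs _ p1' p2'
      have := epi_of_fs _ q1' q2'
      rw [MonoidalCategory.tensorHom_def, comp_whiskerRight]
      infer_instance
    rw [← cancel_epi ((π ⊗ₘ π) ▷ X)]
    apply AlgGrp.Action.hom_ext_lift₃
    intro T g g' x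
    have l1 : lift (lift g g') x ≫ ((π ⊗ₘ π) ▷ X) = lift (lift (g ≫ π) (g' ≫ π)) x := by
      rw [lift_whiskerRight, lift_map]
    rw [reassoc_of% l1, reassoc_of% l1, lift_whiskerRight_assoc, ← Hom.mul_def,
      lift_lift_associator_hom_assoc, lift_whiskerLeft_assoc, hβ', ← MonObj.mul_comp, hβ', hβ',
      AlgGrp.Action.lift_mul_act]

include hker hN in
theorem existsUnique_action : ∃! b : AlgGrp.Action Q X, (π ▷ X) ≫ b.act = a.act := by
  obtain ⟨b, hb⟩ := exists_action a n π hker hN
  refine ⟨b, hb, fun b' hb' => ?_⟩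
  obtain ⟨f1, f2⟩ := fs_whiskerRight X π inferInstance inferInstance
  have := epi_of_fs _ f1 f2
  exact AlgGrp.Action.ext' (by rw [← cancel_epi (π ▷ X), hb, hb'])

include hker hN in
/-- the descended action is faithful -/
theorem faithful (b : AlgGrp.Action Q X) (hb : (π ▷ X) ≫ b.act = a.act)
    (T : Over (Spec (CommRingCat.of k))) (q : T ⟶ Q)
    (hq : ∀ (T' : Over (Spec (CommRingCat.of k))) (s : T' ⟶ T) (x : T' ⟶ X), lift (s ≫ q) x ≫ b.act = x) :
    q = 1 := by
  have hb' : ∀ {T : Over (Spec (CommRingCat.of k))} (g : T ⟶ G) (x : T ⟶ X),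
      lift (g ≫ π) x ≫ b.act = lift g x ≫ a.act := by
    intro T g x
    rw [← hb, lift_whiskerRight_assoc]
  have sq : IsPullback (pullback.fst q π) (pullback.snd q π) q π := IsPullback.of_hasPullback q π
  have sq' : IsPullback (pullback.fst q π).left (pullback.snd q π).left q.left π.left := sq.map (Over.forget _)
  have f1 : Flat (pullback.fst q π).left := MorphismProperty.of_isPullback (P := @Flat) sq'.flip inferInstance
  have f2 : Surjective (pullback.fst q π).left :=
    MorphismProperty.of_isPullback (P := @Surjective) sq'.flip inferInstance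
  have := epi_of_fs _ f1 f2
  have htriv : ∀ (T' : Over (Spec (CommRingCat.of k))) (s : T' ⟶ pullback q π) (x : T' ⟶ X),
      lift (s ≫ pullback.snd q π) x ≫ a.act = x := by
    intro T' s x
    rw [← hb', Category.assoc, ← sq.w, ← Category.assoc]
    exact hq T' (s ≫ pullback.fst q π) x
  obtain ⟨m, hm⟩ := (hN _ (pullback.snd q π)).2 htriv
  have h1 : pullback.snd q π ≫ π = 1 := by rw [← hm]; exact ker_comp n π hker m
  rw [← cancel_epi (pullback.fst q π), sq.w, h1, MonObj.comp_one]

omit [LocallyOfFiniteType G.hom] [LocallyOfFiniteType Q.hom] [LocallyOfFiniteType X.hom] in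
theorem graph_eq (b : AlgGrp.Action Q X) (hb : (π ▷ X) ≫ b.act = a.act) :
    lift (snd G X) a.act = (π ▷ X) ≫ lift (snd Q X) b.act := by
  rw [comp_lift, whiskerRight_snd, hb]

end field

end Groth.Agent.H40.ActQuot
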