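import Groth.Agent.H40.FpqcFam
import Groth.Prelude.Def_ChGrp
import Groth.Prelude.Def_NonAbH2

/-!
# Fixed locus of a central element in a balanced product (helper40, for S19099)
-/

set_option autoImplicit false
set_option linter.unusedSectionVars false
universe u
open CategoryTheory CategoryTheory.Limits AlgebraicGeometry MonoidalCategory CartesianMonoidalCategory MonObj

namespace Groth.Agent.H40.BalFix

open Groth.Agent.H40.FpqcFam

section Basic

variable {S : Scheme.{u}} {Q G X Y : Over S} [GrpObj Q] [GrpObj G]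
  (i : G ⟶ Q) [IsMonHom i] (a : AlgGrp.Action G X) (aY : AlgGrp.Action Q Y) (j : Q ⊗ X ⟶ Y)
  (hY : ChGrp.IsBalProd Scheme.fppfPrecoverage i a aY j)

include hY in
/-- `j` is `Q`-equivariant on points -/
theorem j_equiv {T : Over S} (q' q : T ⟶ Q) (x : T ⟶ X) :
    lift (q' * q) x ≫ j = lift q' (lift q x ≫ j) ≫ aY.act := by
  have h := hY.1
  unfold AlgGrp.Action.IsEquivariant at h
  have h' := congrArg (fun t => lift q' (lift q x) ≫ t) h
  simp only [← Category.assoc, AlgGrp.Action.lift_prod_act, lift_whiskerLeft] at h'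
  rw [← h']
  congr 1
  apply CartesianMonoidalCategory.hom_ext
  · rw [lift_fst, lift_fst]
    show lift q' q ≫ μ[Q] = q' * q
    rw [Hom.mul_def]
  · rw [lift_snd, lift_snd, AlgGrp.Action.lift_trivial_act]

include hY in
/-- `j` is balanced on points -/
theorem j_bal {T : Over S} (g : T ⟶ G) (q : T ⟶ Q) (x : T ⟶ X) :
    lift (q * (g ≫ i)⁻¹) (lift g x ≫ a.act) ≫ j = lift q x ≫ j := by
  have h := hY.2.1.w
  have h' := congrArg (fun t => lift g (lift q x) ≫ t) h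
  simp only [← Category.assoc, ChGrp.lift_twist_act, lift_snd] at h'
  exact h'

include hY in
theorem j_bal' {T : Over S} (g : T ⟶ G) (q : T ⟶ Q) (x : T ⟶ X) :
    lift (q * (g ≫ i)) x ≫ j = lift q (lift g x ≫ a.act) ≫ j := by
  have := j_bal i a aY j hY g (q * (g ≫ i)) x
  rw [mul_inv_cancel_right] at this
  exact this.symm

include hY in
/-- two points of `Q × X` with the same image in `Y` differ by a unique point of `G` -/
theorem j_fibre {T : Over S} (q₁ q₂ : T ⟶ Q) (x₁ x₂ : T ⟶ X) (h : lift q₁ x₁ ≫ j = lift q₂ x₂ ≫ j) :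
    ∃ g : T ⟶ G, q₁ = q₂ * (g ≫ i)⁻¹ ∧ x₁ = lift g x₂ ≫ a.act := by
  obtain ⟨l, hl1, hl2⟩ : ∃ l : T ⟶ G ⊗ (Q ⊗ X), l ≫ (ChGrp.twist i a).act = lift q₁ x₁ ∧
      l ≫ snd G (Q ⊗ X) = lift q₂ x₂ := ⟨hY.2.1.lift _ _ h, hY.2.1.lift_fst _ _ _, hY.2.1.lift_snd _ _ _⟩
  have hl : l = lift (l ≫ fst _ _) (lift q₂ x₂) := by
    apply CartesianMonoidalCategory.hom_ext
    · rw [lift_fst]
    · rw [lift_snd, hl2]
  rw [hl, ChGrp.lift_twist_act] at hl1
  refine ⟨l ≫ fst _ _, ?_, ?_⟩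
  · have := congrArg (fun t => t ≫ fst Q X) hl1
    simpa only [lift_fst] using this.symm
  · have := congrArg (fun t => t ≫ snd Q X) hl1
    simpa only [lift_snd] using this.symm

include hY in
/-- local lifting of points of `Y` through `j` -/
theorem exists_cover_lift (T : Over S) (y : T ⟶ Y) :
    ∃ R' ∈ Scheme.fpqcPrecoverage T.left, ∀ ⦃T' : Scheme.{u}⦄ (π : T' ⟶ T.left), R' π →
      ∃ w : ov T π ⟶ Q ⊗ X, w ≫ j = ovHom T π ≫ y := by
  have hloc : NonAbH1.IsLocallyTrivialFor Scheme.fpqcPrecoverage (Over.mk j.left : Over Y.left) := by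
    obtain ⟨R, hR, hsec⟩ := hY.2.2
    exact ⟨R, Scheme.fppfPrecoverage_le_fpqcPrecoverage _ hR, hsec⟩
  obtain ⟨R', hR', hsec⟩ := exists_cover_sections hloc (Over.mk y.left : Over Y.left)
  refine ⟨R', hR', fun T' π hπ => ?_⟩
  obtain ⟨s⟩ := hsec π hπ
  have hs : s.left ≫ j.left = π ≫ y.left := Over.w s
  refine ⟨Over.homMk s.left ?_, ?_⟩
  · show s.left ≫ (Q ⊗ X).hom = π ≫ T.hom
    rw [← Over.w j, ← Category.assoc, hs, Category.assoc, Over.w y]
  · ext1
    exact hs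


end Basic

section Main

variable {S : Scheme.{u}} {Q G X Xh Y Y' : Over S} [GrpObj Q] [GrpObj G]
    (i : G ⟶ Q) [IsMonHom i] [Mono i]
    (h : 𝟙_ (Over S) ⟶ G)
    (hcent : ∀ (T : Over S) (q : T ⟶ Q), q * (toUnit T ≫ h ≫ i) = (toUnit T ≫ h ≫ i) * q)
    (a : AlgGrp.Action G X)
    (incl : Xh ⟶ X) [Mono incl]
    (hXh : ∀ (T : Over S) (x : T ⟶ X), (∃ y : T ⟶ Xh, y ≫ incl = x) ↔ lift (toUnit T ≫ h) x ≫ a.act = x)
    (aXh : AlgGrp.Action G Xh) (hincl : AlgGrp.Action.IsEquivariant aXh a incl)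
    (aY : AlgGrp.Action Q Y) (j : Q ⊗ X ⟶ Y) (hY : ChGrp.IsBalProd Scheme.fppfPrecoverage i a aY j)
    (aY' : AlgGrp.Action Q Y') (j' : Q ⊗ Xh ⟶ Y') (hY' : ChGrp.IsBalProd Scheme.fppfPrecoverage i aXh aY' j')
    (m : Y' ⟶ Y) (hm : j' ≫ m = (Q ◁ incl) ≫ j)

include hcent hY in
/-- the central element acts on `j(q, x)` through `x` -/
theorem h_act {T : Over S} (q : T ⟶ Q) (x : T ⟶ X) :
    lift (toUnit T ≫ h ≫ i) (lift q x ≫ j) ≫ aY.act = lift q (lift (toUnit T ≫ h) x ≫ a.act) ≫ j := by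
  rw [← j_equiv i a aY j hY, ← hcent T q, ← Category.assoc (toUnit T) h i, j_bal' i a aY j hY]

include hcent hY in
/-- `j(q, x)` is fixed by the central element iff `x` is fixed -/
theorem fixed_iff {T : Over S} (q : T ⟶ Q) (x : T ⟶ X) :
    lift (toUnit T ≫ h ≫ i) (lift q x ≫ j) ≫ aY.act = lift q x ≫ j ↔
      lift (toUnit T ≫ h) x ≫ a.act = x := by
  rw [h_act i h hcent a aY j hY]
  constructor
  · intro hq
    obtain ⟨g, hg1, hg2⟩ := j_fibre i a aY j hY _ _ _ _ hq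
    have hg : g = 1 := by
      have h1 : (g ≫ i)⁻¹ = 1 := by
        have := congrArg (fun t => q⁻¹ * t) hg1
        simpa only [inv_mul_cancel, inv_mul_cancel_left] using this.symm
      rw [inv_eq_one] at h1
      rw [← cancel_mono i, h1, MonObj.one_comp]
    rw [hg2, hg, AlgGrp.Action.lift_one_act]
  · intro hx
    rw [hx]

include hincl in
theorem incl_act {T : Over S} (g : T ⟶ G) (z : T ⟶ Xh) :
    lift g (z ≫ incl) ≫ a.act = (lift g z ≫ aXh.act) ≫ incl := by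
  unfold AlgGrp.Action.IsEquivariant at hincl
  rw [Category.assoc, hincl, lift_whiskerLeft_assoc]

include hm in
theorem j'_m {T : Over S} (q : T ⟶ Q) (z : T ⟶ Xh) : (lift q z ≫ j') ≫ m = lift q (z ≫ incl) ≫ j := by
  rw [Category.assoc, hm, lift_whiskerLeft_assoc]

include hincl hY hY' hm in
/-- `m` is injective on points which lift through `j'` -/
theorem mono_aux {T : Over S} (w₁ w₂ : T ⟶ Q ⊗ Xh) (hw : (w₁ ≫ j') ≫ m = (w₂ ≫ j') ≫ m) :
    w₁ ≫ j' = w₂ ≫ j' := by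
  have e1 : w₁ = lift (w₁ ≫ fst _ _) (w₁ ≫ snd _ _) := by rw [← comp_lift, lift_fst_snd, Category.comp_id]
  have e2 : w₂ = lift (w₂ ≫ fst _ _) (w₂ ≫ snd _ _) := by rw [← comp_lift, lift_fst_snd, Category.comp_id]
  rw [e1, e2] at hw ⊢
  rw [j'_m incl j j' m hm, j'_m incl j j' m hm] at hw
  obtain ⟨g, hg1, hg2⟩ := j_fibre i a aY j hY _ _ _ _ hw
  rw [incl_act a incl aXh hincl, cancel_mono] at hg2
  rw [hg1, hg2]
  exact j_bal i aXh aY' j' hY' g _ _

include hincl hY hY' hm in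
theorem mono_m : Mono m := by
  refine ⟨fun {T} y₁ y₂ hy => ?_⟩
  obtain ⟨R₁, hR₁, hl₁⟩ := exists_cover_lift i aXh aY' j' hY' T y₁
  refine over_hom_ext hR₁ _ _ (fun T₁ π₁ hπ₁ => ?_)
  obtain ⟨w₁, hw₁⟩ := hl₁ π₁ hπ₁
  obtain ⟨R₂, hR₂, hl₂⟩ := exists_cover_lift i aXh aY' j' hY' (ov T π₁) (ovHom T π₁ ≫ y₂)
  refine over_hom_ext hR₂ _ _ (fun T₂ π₂ hπ₂ => ?_)
  obtain ⟨w₂, hw₂⟩ := hl₂ π₂ hπ₂
  have key := mono_aux i a incl aXh hincl aY j hY aY' j' hY' m hm (ovHom (ov T π₁) π₂ ≫ w₁) w₂ (by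
    have e1 : ((ovHom (ov T π₁) π₂ ≫ w₁) ≫ j') ≫ m = ovHom (ov T π₁) π₂ ≫ (w₁ ≫ j') ≫ m := by
      simp only [Category.assoc]
    rw [e1, hw₁, hw₂]
    simp only [Category.assoc, hy])
  rw [← hw₁, ← Category.assoc, key, hw₂]

include hcent hXh hincl hY hY' hm in
/-- points of `Y` in the image of `m` are the points fixed by the central element -/
theorem factors_iff (T : Over S) (y : T ⟶ Y) :
    (∃ y' : T ⟶ Y', y' ≫ m = y) ↔ lift (toUnit T ≫ h ≫ i) y ≫ aY.act = y := by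
  have hmono : Mono m := mono_m i a incl aXh hincl aY j hY aY' j' hY' m hm
  constructor
  · rintro ⟨y', rfl⟩
    obtain ⟨R', hR', hl⟩ := exists_cover_lift i aXh aY' j' hY' T y'
    refine over_hom_ext hR' _ _ (fun T' π hπ => ?_)
    obtain ⟨w, hw⟩ := hl π hπ
    have e1 : w = lift (w ≫ fst _ _) (w ≫ snd _ _) := by rw [← comp_lift, lift_fst_snd, Category.comp_id]
    have e2 : ovHom T π ≫ y' ≫ m = lift (w ≫ fst _ _) ((w ≫ snd _ _) ≫ incl) ≫ j := by
      rw [← Category.assoc, ← hw, ← j'_m incl j j' m hm, ← e1]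
    rw [comp_lift_assoc, ← Category.assoc (ovHom T π) (toUnit T), toUnit_unique (ovHom T π ≫ toUnit T) (toUnit _), e2,
      fixed_iff i h hcent a aY j hY]
    exact (hXh _ _).1 ⟨_, rfl⟩
  · intro hy
    obtain ⟨R', hR', hl⟩ := exists_cover_lift i a aY j hY T y
    refine over_exists_factor_mono hR' m y (fun T' π hπ => ?_)
    obtain ⟨w, hw⟩ := hl π hπ
    have e1 : w = lift (w ≫ fst _ _) (w ≫ snd _ _) := by rw [← comp_lift, lift_fst_snd, Category.comp_id]
    have hfix : lift (toUnit (ov T π) ≫ h ≫ i) (lift (w ≫ fst _ _) (w ≫ snd _ _) ≫ j) ≫ aY.act =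
        lift (w ≫ fst _ _) (w ≫ snd _ _) ≫ j := by
      rw [← e1, hw]
      have := congrArg (fun t => ovHom T π ≫ t) hy
      simp only [comp_lift_assoc] at this
      rw [← Category.assoc (ovHom T π) (toUnit T), toUnit_unique (ovHom T π ≫ toUnit T) (toUnit _)] at this
      exact this
    rw [fixed_iff i h hcent a aY j hY] at hfix
    obtain ⟨z, hz⟩ := (hXh _ _).2 hfix
    refine ⟨lift (w ≫ fst _ _) z ≫ j', ?_⟩
    rw [j'_m incl j j' m hm, hz, ← e1, hw]

include hcent hXh hincl hY hY' hm in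
/-- the comparison of points needed for the closed immersion statement -/
theorem pts_iff (T : Over S) (w : T ⟶ Q ⊗ X) :
    (∃ y' : T ⟶ Y', y' ≫ m = w ≫ j) ↔ (∃ z : T ⟶ Xh, z ≫ incl = w ≫ snd Q X) := by
  rw [factors_iff i h hcent a incl hXh aXh hincl aY j hY aY' j' hY' m hm, hXh]
  have e1 : w = lift (w ≫ fst _ _) (w ≫ snd _ _) := by rw [← comp_lift, lift_fst_snd, Category.comp_id]
  conv_lhs => rw [e1]
  exact fixed_iff i h hcent a aY j hY _ _

end Main

end Groth.Agent.H40.BalFix
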