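import Groth.Agent.H40.TorsorSq
import Groth.Prelude.Def_ChGrp
import Groth.Prelude.Def_NonAbH2

/-!
# The stabilizer part over a conjugacy class as a balanced product: the kernel pair (helper40, for S19098)
-/

set_option autoImplicit false
set_option linter.unusedSectionVars false
universe u
open CategoryTheory CategoryTheory.Limits AlgebraicGeometry MonoidalCategory CartesianMonoidalCategory MonObj
  GrpObj

namespace Groth.Agent.H40.BalStab

variable {S : Scheme.{u}} {G X Z Ψ Xh SΨ : Over S} [GrpObj G] [GrpObj Z]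
    (a : AlgGrp.Action G X) (h : 𝟙_ (Over S) ⟶ G)
    (i : Z ⟶ G) [IsMonHom i]
    (ψ : Ψ ⟶ G) [Mono ψ] (aΨ : AlgGrp.Action G Ψ)
    (hψ : aΨ.act ≫ ψ = fst G Ψ * (snd G Ψ ≫ ψ) * (fst G Ψ)⁻¹)
    (o : 𝟙_ (Over S) ⟶ Ψ) (ho : o ≫ ψ = h)
    (hhom : ChGrp.IsHomog Scheme.fppfPrecoverage i aΨ o)
    (incl : Xh ⟶ X) [Mono incl]
    (aXh : AlgGrp.Action Z Xh) (hincl : AlgGrp.Action.IsEquivariant aXh (a.restrict i) incl)
    (σ : SΨ ⟶ G ⊗ X) [Mono σ]
    (Φ : G ⊗ Xh ⟶ SΨ)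
    (hΦ : Φ ≫ σ = lift (fst G Xh * (toUnit (G ⊗ Xh) ≫ h) * (fst G Xh)⁻¹)
      (lift (fst G Xh) (snd G Xh ≫ incl) ≫ a.act))

include hψ ho in
/-- `ψ` of the orbit map is conjugation of `h` -/
theorem orb_ψ {T : Over S} (g : T ⟶ G) :
    (g ≫ aΨ.orbitMap o) ≫ ψ = g * (toUnit T ≫ h) * g⁻¹ := by
  rw [AlgGrp.Action.comp_orbitMap, Category.assoc, hψ, comp_mul, comp_mul, comp_inv, lift_fst,
    lift_snd_assoc, Category.assoc, ho]

include hΦ in
/-- `Φ` on points -/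
theorem Φ_pts {T : Over S} (g : T ⟶ G) (x : T ⟶ Xh) :
    (lift g x ≫ Φ) ≫ σ = lift (g * (toUnit T ≫ h) * g⁻¹) (lift g (x ≫ incl) ≫ a.act) := by
  rw [Category.assoc, hΦ, comp_lift, comp_mul, comp_mul, comp_inv, lift_fst, ← Category.assoc,
    toUnit_unique (lift g x ≫ toUnit _) (toUnit T), comp_lift_assoc, lift_fst, lift_snd_assoc]

include hincl in
theorem incl_act {T : Over S} (z : T ⟶ Z) (x : T ⟶ Xh) :
    (lift z x ≫ aXh.act) ≫ incl = lift (z ≫ i) (x ≫ incl) ≫ a.act := by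
  unfold AlgGrp.Action.IsEquivariant at hincl
  rw [Category.assoc, hincl, lift_whiskerLeft_assoc, AlgGrp.Action.lift_restrict_act]

include hψ ho hhom in
/-- points of `Z` commute with `h` -/
theorem z_comm {T : Over S} (z : T ⟶ Z) : (z ≫ i) * (toUnit T ≫ h) = (toUnit T ≫ h) * (z ≫ i) := by
  have hw := hhom.2.1.w
  have e : lift (1 : T ⟶ G) z ≫ (G ◁ i ≫ μ[G]) = z ≫ i := by
    rw [lift_whiskerLeft_assoc, ← Hom.mul_def, _root_.one_mul]
  have h1 : ((1 : T ⟶ G) ≫ aΨ.orbitMap o) ≫ ψ = ((z ≫ i) ≫ aΨ.orbitMap o) ≫ ψ := by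
    rw [← e, Category.assoc (lift 1 z), ← hw, lift_fst_assoc]
  rw [orb_ψ h ψ aΨ hψ o ho, orb_ψ h ψ aΨ hψ o ho, _root_.one_mul, inv_one, _root_.mul_one] at h1
  calc (z ≫ i) * (toUnit T ≫ h) = (z ≫ i) * (toUnit T ≫ h) * (z ≫ i)⁻¹ * (z ≫ i) := by group
    _ = (toUnit T ≫ h) * (z ≫ i) := by rw [← h1]


include hψ ho hhom hincl hΦ in
/-- `Φ` is invariant under the twisted action, on points -/
theorem Φ_inv {T : Over S} (z : T ⟶ Z) (g : T ⟶ G) (x : T ⟶ Xh) :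
    lift (g * (z ≫ i)⁻¹) (lift z x ≫ aXh.act) ≫ Φ = lift g x ≫ Φ := by
  rw [← cancel_mono σ, Φ_pts a h incl σ Φ hΦ, Φ_pts a h incl σ Φ hΦ, incl_act a i incl aXh hincl]
  have hz := z_comm h i ψ aΨ hψ o ho hhom z
  congr 1
  · calc g * (z ≫ i)⁻¹ * (toUnit T ≫ h) * (g * (z ≫ i)⁻¹)⁻¹
        = g * ((z ≫ i)⁻¹ * ((toUnit T ≫ h) * (z ≫ i))) * g⁻¹ := by group
      _ = g * (toUnit T ≫ h) * g⁻¹ := by rw [← hz]; group
  · rw [AlgGrp.Action.lift_mul_act, ← AlgGrp.Action.lift_mul_act a (z ≫ i)⁻¹ (z ≫ i), inv_mul_cancel,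
      AlgGrp.Action.lift_one_act]

include hψ ho hhom hincl hΦ in
/-- (PB) the kernel pair of `Φ` is the twisted `Z`-action -/
theorem PB : IsPullback (ChGrp.twist i aXh).act (snd Z (G ⊗ Xh)) Φ Φ := by
  refine Groth.Agent.H40.FpqcFam.isPullback_of_pts ?_ ?_
  · apply AlgGrp.Action.hom_ext_lift₂
    intro T z w
    have e1 : w = lift (w ≫ fst _ _) (w ≫ snd _ _) := by rw [← comp_lift, lift_fst_snd, Category.comp_id]
    rw [e1, ← Category.assoc, ChGrp.lift_twist_act, ← Category.assoc, lift_snd]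
    exact Φ_inv a h i ψ aΨ hψ o ho hhom incl aXh hincl σ Φ hΦ _ _ _
  · intro T u v huv
    have eu : u = lift (u ≫ fst _ _) (u ≫ snd _ _) := by rw [← comp_lift, lift_fst_snd, Category.comp_id]
    have ev : v = lift (v ≫ fst _ _) (v ≫ snd _ _) := by rw [← comp_lift, lift_fst_snd, Category.comp_id]
    set g₁ := u ≫ fst G Xh
    set x₁ := u ≫ snd G Xh
    set g₂ := v ≫ fst G Xh
    set x₂ := v ≫ snd G Xh
    have hσ' : (lift g₁ x₁ ≫ Φ) ≫ σ = (lift g₂ x₂ ≫ Φ) ≫ σ := by rw [← eu, ← ev, huv]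
    rw [Φ_pts a h incl σ Φ hΦ, Φ_pts a h incl σ Φ hΦ] at hσ'
    have hc1 : g₁ * (toUnit T ≫ h) * g₁⁻¹ = g₂ * (toUnit T ≫ h) * g₂⁻¹ := by
      have := congrArg (fun t => t ≫ fst G X) hσ'
      simpa only [lift_fst] using this
    have hc2 : lift g₁ (x₁ ≫ incl) ≫ a.act = lift g₂ (x₂ ≫ incl) ≫ a.act := by
      have := congrArg (fun t => t ≫ snd G X) hσ'
      simpa only [lift_snd] using this
    have horb : g₂ ≫ aΨ.orbitMap o = g₁ ≫ aΨ.orbitMap o := by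
      rw [← cancel_mono ψ, orb_ψ h ψ aΨ hψ o ho, orb_ψ h ψ aΨ hψ o ho, hc1]
    have hpb := hhom.2.1
    set p := hpb.lift g₂ g₁ horb with hp
    have hp1 : p ≫ fst G Z = g₂ := hpb.lift_fst _ _ _
    have hp2 : p ≫ (G ◁ i ≫ μ[G]) = g₁ := hpb.lift_snd _ _ _
    set z' := p ≫ snd G Z
    have epz : p = lift g₂ z' := by
      apply CartesianMonoidalCategory.hom_ext
      · rw [lift_fst, hp1]
      · rw [lift_snd]
    have hg1 : g₁ = g₂ * (z' ≫ i) := by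
      rw [← hp2, epz, lift_whiskerLeft_assoc, ← Hom.mul_def]
    have hzi : (z'⁻¹ ≫ i)⁻¹ = z' ≫ i := by rw [GrpObj.inv_comp, _root_.inv_inv]
    have hx1 : x₁ = lift z'⁻¹ x₂ ≫ aXh.act := by
      rw [← cancel_mono incl, incl_act a i incl aXh hincl]
      calc x₁ ≫ incl = lift (g₁⁻¹ * g₁) (x₁ ≫ incl) ≫ a.act := by
            rw [inv_mul_cancel, AlgGrp.Action.lift_one_act]
        _ = lift (g₁⁻¹ * g₂) (x₂ ≫ incl) ≫ a.act := by
            rw [AlgGrp.Action.lift_mul_act, hc2, ← AlgGrp.Action.lift_mul_act]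
        _ = lift (z'⁻¹ ≫ i) (x₂ ≫ incl) ≫ a.act := by
            congr 2
            rw [hg1, GrpObj.inv_comp]
            group
    refine ⟨lift z'⁻¹ (lift g₂ x₂), ⟨?_, ?_⟩, ?_⟩
    · rw [ChGrp.lift_twist_act, hzi, ← hg1, ← hx1, ← eu]
    · rw [lift_snd, ← ev]
    · rintro l ⟨hl1, hl2⟩
      set z'' := l ≫ fst Z (G ⊗ Xh)
      have el : l = lift z'' (lift g₂ x₂) := by
        apply CartesianMonoidalCategory.hom_ext
        · rw [lift_fst]
        · rw [lift_snd, hl2, ← ev]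
      rw [el, ChGrp.lift_twist_act, eu] at hl1
      have hg1' : g₂ * (z'' ≫ i)⁻¹ = g₁ := by
        have := congrArg (fun t => t ≫ fst G Xh) hl1
        simpa only [lift_fst] using this
      have : lift g₂ z''⁻¹ = p := by
        apply hpb.hom_ext
        · rw [lift_fst, hp1]
        · rw [hp2, lift_whiskerLeft_assoc, ← Hom.mul_def, GrpObj.inv_comp, hg1']
      have hz'' : z''⁻¹ = z' := by
        have := congrArg (fun t => t ≫ snd G Z) this
        simpa only [lift_snd] using this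
      rw [el, ← hz'', _root_.inv_inv]

end Groth.Agent.H40.BalStab
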