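import Groth.Agent.H40.LocSurj

/-!
# More on morphisms with fpqc-local sections (helper40)

* `singleton_mem_fpqc`: a flat surjective morphism such that every affine open of the target is the image of a quasi-compact
  open is an fpqc covering.
* `locTriv_whiskerRight`, `locTriv_whiskerLeft`: local sections are inherited by `v ▷ Y` and `Y ◁ v`.
* `ext_pts₂`, `ext_pts₃`: morphisms out of `P ⊗ P`, `(P ⊗ P) ⊗ P` are determined by points coming from `E`.
-/

set_option autoImplicit false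
universe u
open CategoryTheory CategoryTheory.Limits AlgebraicGeometry MonoidalCategory CartesianMonoidalCategory
open MonObj

namespace Groth.Agent.H40.FpqcFam

theorem singleton_mem_fpqc {Z₀ Y₀ : Scheme.{u}} (q : Z₀ ⟶ Y₀) [Surjective q] [Flat q]
    (h : ∀ V : Y₀.Opens, IsAffineOpen V → ∃ W : Z₀.Opens, IsCompact (W : Set Z₀) ∧
      q.base '' (W : Set Z₀) = (V : Set Y₀)) :
    Presieve.singleton q ∈ Scheme.fpqcPrecoverage Y₀ := by
  change _ ∈ Scheme.propQCPrecoverage @Flat Y₀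
  refine ⟨?_, ?_⟩
  · rw [Scheme.qcPrecoverage, PreZeroHypercoverFamily.mem_precoverage_iff]
    refine ⟨(q.cover (P := ⊤) trivial).toPreZeroHypercover, ?_, by simp⟩
    simp only [Scheme.qcCoverFamily_property, Scheme.quasiCompactCover_iff]
    refine ⟨fun {U} hU => ?_⟩
    obtain ⟨W, hW, hWU⟩ := h U hU
    exact IsCompactOpenCovered.iff_of_unique.mpr ⟨W, hW, hWU⟩
  · rw [Scheme.singleton_mem_precoverage_iff]
    exact ⟨q.surjective, inferInstance⟩

variable {S : Scheme.{u}} {E P : Over S} {v : E ⟶ P}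

theorem locTriv_whiskerRight
    (hloc : NonAbH1.IsLocallyTrivialFor Scheme.fpqcPrecoverage (Over.mk v.left : Over P.left))
    (Y₀ : Over S) :
    NonAbH1.IsLocallyTrivialFor Scheme.fpqcPrecoverage
      (Over.mk (v ▷ Y₀).left : Over (P ⊗ Y₀).left) := by
  obtain ⟨R', hR', hσ⟩ := exact_cover_sections hloc (fst P Y₀)
  refine ⟨R', hR', fun T' π hπ => ?_⟩
  obtain ⟨σ, hσv⟩ := hσ π hπ
  refine ⟨(lift σ (ovHom (P ⊗ Y₀) π ≫ snd P Y₀)).left, ?_⟩
  have e : lift σ (ovHom (P ⊗ Y₀) π ≫ snd P Y₀) ≫ (v ▷ Y₀) = ovHom (P ⊗ Y₀) π := by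
    rw [lift_whiskerRight, hσv]
    apply CartesianMonoidalCategory.hom_ext
    · rw [lift_fst]
    · rw [lift_snd]
  exact congrArg (fun m => m.left) e

theorem locTriv_whiskerLeft
    (hloc : NonAbH1.IsLocallyTrivialFor Scheme.fpqcPrecoverage (Over.mk v.left : Over P.left))
    (Y₀ : Over S) :
    NonAbH1.IsLocallyTrivialFor Scheme.fpqcPrecoverage
      (Over.mk (Y₀ ◁ v).left : Over (Y₀ ⊗ P).left) := by
  obtain ⟨R', hR', hσ⟩ := exact_cover_sections hloc (snd Y₀ P)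
  refine ⟨R', hR', fun T' π hπ => ?_⟩
  obtain ⟨σ, hσv⟩ := hσ π hπ
  refine ⟨(lift (ovHom (Y₀ ⊗ P) π ≫ fst Y₀ P) σ).left, ?_⟩
  have e : lift (ovHom (Y₀ ⊗ P) π ≫ fst Y₀ P) σ ≫ (Y₀ ◁ v) = ovHom (Y₀ ⊗ P) π := by
    rw [lift_whiskerLeft, hσv]
    apply CartesianMonoidalCategory.hom_ext
    · rw [lift_fst]
    · rw [lift_snd]
  exact congrArg (fun m => m.left) e

/-- morphisms out of `P ⊗ P` are determined by the points coming from `E`. -/
theorem ext_pts₂
    (hloc : NonAbH1.IsLocallyTrivialFor Scheme.fpqcPrecoverage (Over.mk v.left : Over P.left))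
    {Z₀ : Over S} (φ φ' : P ⊗ P ⟶ Z₀)
    (h : ∀ (T : Over S) (x y : T ⟶ E), lift (x ≫ v) (y ≫ v) ≫ φ = lift (x ≫ v) (y ≫ v) ≫ φ') :
    φ = φ' := by
  apply cancel_whiskerLeft hloc
  apply exact_cancel hloc
  apply AlgGrp.Action.hom_ext_lift₂
  intro T x y
  rw [lift_whiskerRight_assoc, lift_whiskerLeft_assoc, lift_whiskerRight_assoc,
    lift_whiskerLeft_assoc]
  exact h T x y

/-- morphisms out of `(P ⊗ P) ⊗ P` are determined by the points coming from `E`. -/
theorem ext_pts₃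
    (hloc : NonAbH1.IsLocallyTrivialFor Scheme.fpqcPrecoverage (Over.mk v.left : Over P.left))
    {Z₀ : Over S} (φ φ' : (P ⊗ P) ⊗ P ⟶ Z₀)
    (h : ∀ (T : Over S) (x y z : T ⟶ E), lift (lift (x ≫ v) (y ≫ v)) (z ≫ v) ≫ φ =
      lift (lift (x ≫ v) (y ≫ v)) (z ≫ v) ≫ φ') :
    φ = φ' := by
  apply cancel_whiskerLeft hloc
  apply exact_cancel (locTriv_whiskerLeft hloc P)
  apply exact_cancel (locTriv_whiskerRight hloc E)
  apply AlgGrp.Action.hom_ext_lift₃
  intro T x y z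
  simp only [lift_whiskerRight_assoc, lift_whiskerLeft_assoc, lift_whiskerRight, lift_whiskerLeft]
  exact h T x y z

end Groth.Agent.H40.FpqcFam
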