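import Groth.Agent.H40.HochLib
import Groth.Agent.H62.Reynolds
import Groth.Agent.H93.Integral

/-!
# Linearly reductive Hopf algebras: the total integral and vanishing of cohomology — helper40

* `integral hG : A →ₗ[k] k`, `integral_one`, `isInt_integral`: a linearly reductive Hopf algebra
  has a total integral (`ε ∘ Reynolds` on the regular comodule).
* `cocycles_le_coboundaries_of_isInt`: a total integral kills `Hⁿ(G, V)`, `n ≥ 1`, for every `V`.
* `cocycles_le_coboundaries_of_linRed`.
-/

set_option autoImplicit false
universe u v

open TensorProduct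

namespace Groth.Agent.H40

section

variable {k : Type u} [Field k] {A : Type v} [CommRing A] [HopfAlgebra k A]

theorem one_mem_fixedPts_regular : (1 : A) ∈ HopfRep.fixedPts k A A := by
  change CoalgebraStruct.comul (R := k) (1 : A) = (1 : A) ⊗ₜ[k] (1 : A)
  rw [Bialgebra.comul_one]
  rfl

/-- the total integral of a linearly reductive Hopf algebra -/
noncomputable def integral (hG : HopfRep.IsLinearlyReductive k A) : A →ₗ[k] k :=
  CoalgebraStruct.counit (R := k) (A := A) ∘ₗ H62.reynolds A hG

theorem integral_one (hG : HopfRep.IsLinearlyReductive k A) : integral hG (1 : A) = 1 := by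
  rw [integral, LinearMap.comp_apply, H62.reynolds_of_mem_fixedPts hG one_mem_fixedPts_regular,
    Bialgebra.counit_one]

theorem isInt_integral (hG : HopfRep.IsLinearlyReductive k A) : H93.IsInt (integral hG) := by
  intro c
  have hR := H62.isComodHom_reynolds (V := A) hG
  have h1 := H93.comodHom_apply hR c
  have h2 : HopfRep.Comod.coact (k := k) (A := A) (H62.reynolds A hG c) =
      (H62.reynolds A hG c) ⊗ₜ[k] (1 : A) := H62.reynolds_mem hG c
  rw [h2] at h1
  have h3 : (integral hG).rTensor A (CoalgebraStruct.comul (R := k) c) =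
      (CoalgebraStruct.counit (R := k) (A := A)).rTensor A
        ((H62.reynolds A hG).rTensor A (CoalgebraStruct.comul (R := k) c)) := by
    rw [integral, LinearMap.rTensor_comp, LinearMap.comp_apply]
  have h4 : (H62.reynolds A hG).rTensor A (CoalgebraStruct.comul (R := k) c) =
      (H62.reynolds A hG c) ⊗ₜ[k] (1 : A) := h1.symm
  rw [h3, h4, LinearMap.rTensor_tmul, TensorProduct.lid_tmul]
  rfl

end

section

variable {k : Type u} [CommRing k] {A : Type v} [CommRing A] [HopfAlgebra k A]

/-- a total integral kills the higher cohomology of every comodule -/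
theorem cocycles_le_coboundaries_of_isInt (α : A →ₗ[k] k) (hα : H93.IsInt α) (h1 : α 1 = 1)
    (V : Type v) [AddCommGroup V] [Module k V] [HopfRep.Comod k A V] (n : ℕ) (hn : 1 ≤ n) :
    Hoch.cocycles k A V n ≤ Hoch.coboundaries k A V n :=
  cocycles_le_coboundaries_of_section k A V (H93.retr α) (fun x => H93.retr_coact α h1 x)
    (fun x b => H93.coact_retr_tmul α hα x b) n hn

end

theorem cocycles_le_coboundaries_of_linRed {k : Type u} [Field k] {A : Type v} [CommRing A]
    [HopfAlgebra k A] (hG : HopfRep.IsLinearlyReductive k A)
    (V : Type v) [AddCommGroup V] [Module k V] [HopfRep.Comod k A V] (n : ℕ) (hn : 1 ≤ n) :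
    Hoch.cocycles k A V n ≤ Hoch.coboundaries k A V n :=
  cocycles_le_coboundaries_of_isInt (integral hG) (isInt_integral hG) (integral_one hG) V n hn

end Groth.Agent.H40
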