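import Groth.Agent.H40.HochLib2
import Groth.Agent.H40.LinRed
import Mathlib.RingTheory.HopfAlgebra.TensorProduct
import Mathlib.RingTheory.HopfAlgebra.MonoidAlgebra
import Mathlib.RingTheory.Bialgebra.Equiv

/-!
# Total integrals: criterion for linear reductivity, base change, transport — helper40

* `isLinearlyReductive_iff_exists_isInt`: over a field, `A` is linearly reductive iff it has a
  total integral (`H93.IsInt α ∧ α 1 = 1`).
* `bcFun`, `isInt_bcFun`: base change of an integral along `k → K`.
* `descFun`, `isInt_descFun`: descent of an integral along `k → K` given a `k`-linear `r : K → k`.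
* `isInt_comp_bialgHom`: pull back of an integral along an injective bialgebra map.
* `evOne`, `isInt_evOne`: the integral of a group algebra.
-/

set_option autoImplicit false
universe u u' v w

open TensorProduct

namespace Groth.Agent.H40

section Crit

variable {k : Type u} [Field k] {A : Type v} [CommRing A] [HopfAlgebra k A]

theorem isLinearlyReductive_of_isInt (α : A →ₗ[k] k) (hα : H93.IsInt α) (h1 : α 1 = 1) :
    HopfRep.IsLinearlyReductive k A :=
  isLinearlyReductive_iff_H1.mpr fun V _ _ _ _ =>
    cocycles_le_coboundaries_of_isInt α hα h1 V 1 le_rfl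

theorem isLinearlyReductive_iff_exists_isInt :
    HopfRep.IsLinearlyReductive k A ↔ ∃ α : A →ₗ[k] k, H93.IsInt α ∧ α 1 = 1 :=
  ⟨fun hG => ⟨integral hG, isInt_integral hG, integral_one hG⟩,
   fun ⟨α, hα, h1⟩ => isLinearlyReductive_of_isInt α hα h1⟩

/-- a linear retraction of `k → K` -/
theorem exists_linear_retraction (K : Type u') [Field K] [Algebra k K] :
    ∃ r : K →ₗ[k] k, r 1 = 1 := by
  have hinj : LinearMap.ker (LinearMap.toSpanSingleton k K 1) = ⊥ := by
    rw [LinearMap.ker_eq_bot]
    intro a b hab
    simp only [LinearMap.toSpanSingleton_apply] at hab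
    have h2 : algebraMap k K a = algebraMap k K b := by
      rw [Algebra.algebraMap_eq_smul_one, Algebra.algebraMap_eq_smul_one, hab]
    exact (algebraMap k K).injective h2
  obtain ⟨f, hf⟩ := LinearMap.exists_leftInverse_of_injective (LinearMap.toSpanSingleton k K 1) hinj
  refine ⟨f, ?_⟩
  have := LinearMap.congr_fun hf 1
  simpa using this

end Crit

section BC

variable {k : Type u} [CommRing k] {K : Type u'} [CommRing K] [Algebra k K]
variable {A : Type v} [CommRing A] [HopfAlgebra k A]

/-- base change of a functional -/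
noncomputable def bcFun (α : A →ₗ[k] k) : K ⊗[k] A →ₗ[K] K :=
  (TensorProduct.AlgebraTensorModule.rid k K K).toLinearMap ∘ₗ α.baseChange K

theorem bcFun_tmul (α : A →ₗ[k] k) (x : K) (a : A) :
    bcFun (K := K) α (x ⊗ₜ[k] a) = α a • x := by
  simp [bcFun]

theorem comul_tmul_bc (x : K) (a : A) :
    CoalgebraStruct.comul (R := K) (x ⊗ₜ[k] a : K ⊗[k] A) =
      TensorProduct.AlgebraTensorModule.tensorTensorTensorComm k K k K K K A A
        (((1 : K) ⊗ₜ[K] x) ⊗ₜ[k] CoalgebraStruct.comul (R := k) a) := rfl

theorem isInt_bcFun (α : A →ₗ[k] k) (hα : H93.IsInt α) : H93.IsInt (bcFun (K := K) α) := by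
  intro c
  induction c using TensorProduct.induction_on with
  | zero => simp
  | add c1 c2 h1 h2 => rw [map_add, add_smul, h1, h2, map_add, map_add, map_add]
  | tmul x a =>
    have hkey : ∀ t : A ⊗[k] A,
        TensorProduct.lid K (K ⊗[k] A) ((bcFun (K := K) α).rTensor (K ⊗[k] A)
          (TensorProduct.AlgebraTensorModule.tensorTensorTensorComm k K k K K K A A
            (((1 : K) ⊗ₜ[K] x) ⊗ₜ[k] t))) =
        x ⊗ₜ[k] (TensorProduct.lid k A (α.rTensor A t)) := by
      intro t
      induction t using TensorProduct.induction_on with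
      | zero => simp
      | add t1 t2 h1 h2 => simp only [TensorProduct.tmul_add, map_add, h1, h2]
      | tmul a' b' =>
        rw [TensorProduct.AlgebraTensorModule.tensorTensorTensorComm_tmul, LinearMap.rTensor_tmul,
          TensorProduct.lid_tmul, bcFun_tmul, LinearMap.rTensor_tmul, TensorProduct.lid_tmul,
          TensorProduct.smul_tmul', smul_eq_mul, smul_mul_assoc, one_mul, TensorProduct.smul_tmul]
    rw [comul_tmul_bc, hkey, ← hα a, bcFun_tmul, Algebra.TensorProduct.one_def,
      TensorProduct.smul_tmul', smul_eq_mul, mul_one, TensorProduct.smul_tmul]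

/-- descent of a functional along `k → K`, using a `k`-linear map `r : K → k` -/
noncomputable def descFun (r : K →ₗ[k] k) (α' : K ⊗[k] A →ₗ[K] K) : A →ₗ[k] k :=
  r ∘ₗ (α'.restrictScalars k) ∘ₗ (TensorProduct.mk k K A 1)

theorem descFun_apply (r : K →ₗ[k] k) (α' : K ⊗[k] A →ₗ[K] K) (a : A) :
    descFun r α' a = r (α' ((1 : K) ⊗ₜ[k] a)) := rfl

theorem isInt_descFun (r : K →ₗ[k] k) (α' : K ⊗[k] A →ₗ[K] K) (hα' : H93.IsInt α') :
    H93.IsInt (descFun r α') := by
  intro c
  have hkey : ∀ t : A ⊗[k] A,
      TensorProduct.lid k A (r.rTensor A (TensorProduct.lid K (K ⊗[k] A)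
        (α'.rTensor (K ⊗[k] A)
          (TensorProduct.AlgebraTensorModule.tensorTensorTensorComm k K k K K K A A
            (((1 : K) ⊗ₜ[K] (1 : K)) ⊗ₜ[k] t))))) =
      TensorProduct.lid k A ((descFun r α').rTensor A t) := by
    intro t
    induction t using TensorProduct.induction_on with
    | zero => simp
    | add t1 t2 h1 h2 => simp only [TensorProduct.tmul_add, map_add, h1, h2]
    | tmul a' b' =>
      rw [TensorProduct.AlgebraTensorModule.tensorTensorTensorComm_tmul, LinearMap.rTensor_tmul,
        TensorProduct.lid_tmul, TensorProduct.smul_tmul', smul_eq_mul, mul_one,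
        LinearMap.rTensor_tmul, TensorProduct.lid_tmul, LinearMap.rTensor_tmul,
        TensorProduct.lid_tmul, descFun_apply]
  have h := hα' ((1 : K) ⊗ₜ[k] c)
  rw [comul_tmul_bc] at h
  have h2 := congrArg (fun z => TensorProduct.lid k A (r.rTensor A z)) h
  beta_reduce at h2
  rw [hkey] at h2
  rw [← h2, Algebra.TensorProduct.one_def, TensorProduct.smul_tmul', smul_eq_mul, mul_one,
    LinearMap.rTensor_tmul, TensorProduct.lid_tmul, descFun_apply]

end BC

section Transport

variable {k : Type u} [CommRing k] {A : Type v} [CommRing A] [HopfAlgebra k A]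
variable {B : Type w} [CommRing B] [HopfAlgebra k B]

/-- pull back of an integral along an injective bialgebra map -/
theorem isInt_comp_bialgHom (f : A →ₐc[k] B) (hf : Function.Injective f) (α : B →ₗ[k] k)
    (hα : H93.IsInt α) : H93.IsInt (α ∘ₗ (f : A →ₗ[k] B)) := by
  intro c
  apply hf
  have hnat : ∀ t : A ⊗[k] A,
      f (TensorProduct.lid k A ((α ∘ₗ (f : A →ₗ[k] B)).rTensor A t)) =
        TensorProduct.lid k B (α.rTensor B
          (TensorProduct.map (f : A →ₗ[k] B) (f : A →ₗ[k] B) t)) := by
    intro t
    induction t using TensorProduct.induction_on with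
    | zero => simp
    | add t1 t2 h1 h2 => simp only [map_add, h1, h2]
    | tmul a' b' => simp
  rw [hnat, CoalgHomClass.map_comp_comul_apply, ← hα (f c)]
  simp

end Transport

section MonAlg

variable {K : Type u} [CommRing K] {G : Type v} [CommGroup G]

/-- the coefficient at the identity -/
noncomputable def evOne : MonoidAlgebra K G →ₗ[K] K :=
  Finsupp.lapply 1 ∘ₗ (MonoidAlgebra.coeffLinearEquiv K).toLinearMap

theorem evOne_apply (x : MonoidAlgebra K G) : evOne x = x.coeff 1 := rfl

theorem evOne_single [DecidableEq G] (g : G) (x : K) :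
    evOne (MonoidAlgebra.single g x : MonoidAlgebra K G) = if g = 1 then x else 0 := by
  rw [evOne_apply, MonoidAlgebra.coeff_single, Finsupp.single_apply]

theorem evOne_one : evOne (1 : MonoidAlgebra K G) = 1 := by
  classical
  rw [MonoidAlgebra.one_def, evOne_single, if_pos rfl]

theorem isInt_evOne : H93.IsInt (evOne (K := K) (G := G)) := by
  classical
  intro c
  induction c using MonoidAlgebra.induction_linear with
  | zero => simp
  | add x y hx hy => rw [map_add, add_smul, hx, hy, map_add, map_add, map_add]
  | single g x =>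
    rw [MonoidAlgebra.comul_single, CommSemiring.comul_apply, TensorProduct.map_tmul,
      LinearMap.rTensor_tmul, TensorProduct.lid_tmul, MonoidAlgebra.lsingle_apply,
      MonoidAlgebra.lsingle_apply, evOne_single, evOne_single]
    by_cases hg : g = 1
    · subst hg
      simp [MonoidAlgebra.one_def]
    · simp [hg]

end MonAlg

end Groth.Agent.H40
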