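import Mathlib.LinearAlgebra.Contraction
import Mathlib.Algebra.Module.FinitePresentation
import Mathlib.RingTheory.Flat.Basic
import Mathlib.LinearAlgebra.LeftExact
import Mathlib.LinearAlgebra.Dual.Lemmas

/-!
# `M^* ⊗ N → Hom(M, N)` is bijective for `M` finitely presented and `N` flat — helper40
-/

set_option autoImplicit false
universe u v w

open TensorProduct

namespace Groth.Agent.H40

theorem dualTensorHom_bijective_of_fp_flat (k : Type u) [CommRing k] (M : Type v) (N : Type w)
    [AddCommGroup M] [Module k M] [AddCommGroup N] [Module k N]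
    [Module.FinitePresentation k M] [Module.Flat k N] :
    Function.Bijective (dualTensorHom k M N) := by
  obtain ⟨n, m, f, g, hf, hfg⟩ := Module.FinitePresentation.exists_fin' k M
  have hF := dualTensorHom_bijective (R := k) (M := Fin n → k) (N := N)
  have hG := dualTensorHom_bijective (R := k) (M := Fin m → k) (N := N)
  have nat_f : dualTensorHom k (Fin n → k) N ∘ₗ f.dualMap.rTensor N =
      f.lcomp k N ∘ₗ dualTensorHom k M N := dualTensorHom_comp_rTensor_dualMap f
  have nat_g : dualTensorHom k (Fin m → k) N ∘ₗ g.dualMap.rTensor N =
      g.lcomp k N ∘ₗ dualTensorHom k (Fin n → k) N := dualTensorHom_comp_rTensor_dualMap g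
  have hfinj : Function.Injective f.dualMap := LinearMap.dualMap_injective_of_surjective hf
  have hex : Function.Exact f.dualMap g.dualMap :=
    LinearMap.exact_lcomp_of_exact_of_surjective k hfg hf
  have hfinjN : Function.Injective (f.dualMap.rTensor N) :=
    Module.Flat.rTensor_preserves_injective_linearMap _ hfinj
  have hexN : Function.Exact (f.dualMap.rTensor N) (g.dualMap.rTensor N) :=
    Module.Flat.rTensor_exact N hex
  constructor
  · intro x y hxy
    apply hfinjN
    apply hF.1
    have e1 := LinearMap.congr_fun nat_f x
    have e2 := LinearMap.congr_fun nat_f y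
    simp only [LinearMap.comp_apply] at e1 e2
    rw [e1, e2, hxy]
  · intro h
    obtain ⟨y, hy⟩ := hF.2 (h ∘ₗ f)
    have hy0 : g.dualMap.rTensor N y = 0 := by
      apply hG.1
      have e := LinearMap.congr_fun nat_g y
      simp only [LinearMap.comp_apply] at e
      rw [e, hy, map_zero]
      apply LinearMap.ext
      intro z
      simp only [LinearMap.lcomp_apply, LinearMap.comp_apply, LinearMap.zero_apply]
      rw [hfg.apply_apply_eq_zero, map_zero]
    obtain ⟨x, hx⟩ := (hexN y).mp hy0
    refine ⟨x, ?_⟩
    apply LinearMap.lcomp_injective_of_surjective (S := k) (N := N) f hf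
    have e := LinearMap.congr_fun nat_f x
    simp only [LinearMap.comp_apply] at e
    rw [← e, hx, hy]
    rfl

end Groth.Agent.H40
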