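import Groth.Prelude.Def_NonAbH2
import Groth.Prelude.Def_ActBC
import Groth.Prelude.Def_ChGrp
import Groth.Prelude.Def_Red
import Mathlib.AlgebraicGeometry.Morphisms.Proper
import Mathlib.AlgebraicGeometry.ValuativeCriterion
import Mathlib.RingTheory.DiscreteValuationRing.Basic
import Mathlib.AlgebraicGeometry.Sites.Fpqc

/-!
# Extending a torsor over a proper scheme along a DVR of a point (helper40, for S18515)

* `exists_lift_dvr` : the existence part of the valuative criterion for a proper `X ⟶ Spec k`, a DVR `R ⊇ k` with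
  fraction field `K` and a `K`-point of `X`.
* `isTorsorFor_restrict` : restricting the group of a torsor along an ISOMORPHISM of groups keeps it a torsor.
* `EquivIso.restrictOfComp`, `restrict_restrict` : small API for `NonAbH1.EquivIso` and `AlgGrp.Action.restrict`.
* `bcCompIso_coh` : the cocycle/coherence identity of `ActBC.bcCompIso` for a triple composite of base changes.
-/

set_option autoImplicit false
open CategoryTheory CategoryTheory.Limits MonoidalCategory CartesianMonoidalCategory MonObj GrpObj AlgebraicGeometry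
universe u
open NonAbH1

namespace Groth.Agent.H40.DvrTorsor

/-- Valuative criterion (existence) for a proper `k`-scheme and a discrete valuation ring of a point. -/
theorem exists_lift_dvr (k K R : Type u) [Field k] [Field K] [Algebra k K]
    [CommRing R] [IsDomain R] [IsDiscreteValuationRing R] [Algebra k R] [Algebra R K] [IsFractionRing R K]
    (hc : Spec.map (CommRingCat.ofHom (algebraMap R K)) ≫ Spec.map (CommRingCat.ofHom (algebraMap k R)) =
      Spec.map (CommRingCat.ofHom (algebraMap k K)))
    (X : Scheme.{u}) (x : X ⟶ Spec (CommRingCat.of k)) [IsProper x]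
    (e : Spec (CommRingCat.of K) ⟶ X) (he : e ≫ x = Spec.map (CommRingCat.ofHom (algebraMap k K))) :
    ∃ e' : Spec (CommRingCat.of R) ⟶ X, Spec.map (CommRingCat.ofHom (algebraMap R K)) ≫ e' = e ∧
      e' ≫ x = Spec.map (CommRingCat.ofHom (algebraMap k R)) := by
  have hx : ValuativeCriterion.Existence x := by
    have h : UniversallyClosed x := inferInstance
    rw [UniversallyClosed.eq_valuativeCriterion] at h
    exact h.1
  let Sq : ValuativeCommSq x :=
    { R := R, K := K, i₁ := e, i₂ := Spec.map (CommRingCat.ofHom (algebraMap k R)),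
      commSq := ⟨he.trans hc.symm⟩ }
  obtain ⟨⟨l⟩⟩ := hx Sq
  exact ⟨l.l, l.fac_left, l.fac_right⟩

section Restrict

variable {S : Scheme.{u}} {G H H' X X' : Over S} [GrpObj G] [GrpObj H] [GrpObj H']

/-- Restriction of a torsor along an isomorphism of groups is a torsor. -/
theorem isTorsorFor_restrict (K : Precoverage Scheme.{u}) (φ : H ⟶ G) [IsMonHom φ] [IsIso φ]
    {a : AlgGrp.Action G X} (h : IsTorsorFor K a) : IsTorsorFor K (a.restrict φ) := by
  refine ⟨?_, h.2⟩
  have h1 : IsIso (lift a.act (snd G X)) := h.1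
  have h2 : lift (a.restrict φ).act (snd H X) = (φ ▷ X) ≫ lift a.act (snd G X) := by
    rw [comp_lift, whiskerRight_snd, AlgGrp.Action.restrict_act]
  show IsIso (lift (a.restrict φ).act (snd H X))
  rw [h2]; infer_instance

/-- Restricting twice is restricting along the composite. -/
theorem restrict_restrict (φ : H ⟶ G) [IsMonHom φ] (ψ : H' ⟶ H) [IsMonHom ψ] (a : AlgGrp.Action G X) :
    (a.restrict φ).restrict ψ = a.restrict (ψ ≫ φ) :=
  AlgGrp.Action.ext' (by
    rw [AlgGrp.Action.restrict_act, AlgGrp.Action.restrict_act, AlgGrp.Action.restrict_act,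
      comp_whiskerRight, Category.assoc])

/-- An equivariant isomorphism `a ≃ a'.restrict φ` restricts along `ψ` to `a.restrict ψ ≃ a'.restrict ψ'`
when `ψ ≫ φ = ψ'`. -/
noncomputable def equivIsoRestrictOfComp {a : AlgGrp.Action H X} {a' : AlgGrp.Action H' X'} (φ : H ⟶ H')
    [IsMonHom φ] (E : EquivIso a (a'.restrict φ)) (ψ : G ⟶ H) [IsMonHom ψ] (ψ' : G ⟶ H') [IsMonHom ψ']
    (h : ψ ≫ φ = ψ') : EquivIso (a.restrict ψ) (a'.restrict ψ') where
  iso := E.iso
  comm := by
    subst h
    have hE := E.comm
    rw [AlgGrp.Action.restrict_act] at hE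
    rw [AlgGrp.Action.restrict_act, AlgGrp.Action.restrict_act, Category.assoc, hE, comp_whiskerRight,
      Category.assoc, ← whisker_exchange_assoc]

end Restrict

section Coh

variable {S S' S'' S''' : Scheme.{u}} (f : S''' ⟶ S'') (g : S'' ⟶ S') (h : S' ⟶ S)
  {d1 : S''' ⟶ S'} {d2 : S'' ⟶ S} {d : S''' ⟶ S} (X : Over S)

/-- Coherence of `bcCompIso` for a triple composite. -/
theorem bcCompIso_coh (h1 : f ≫ g = d1) (h2 : g ≫ h = d2) (h3 : f ≫ d2 = d) (h4 : d1 ≫ h = d) :
    (Over.pullback f).map (ActBC.bcCompIso g h X h2).hom ≫ (ActBC.bcCompIso f d2 X h3).hom =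
      (ActBC.bcCompIso f g (Red.bc h X) h1).hom ≫ (ActBC.bcCompIso d1 h X h4).hom := by
  ext
  apply pullback.hom_ext
  · simp only [Over.comp_left, Category.assoc, ActBC.bcCompIso_hom_left_fst,
      ActBC.pullback_map_left_fst_assoc, ActBC.bcCompIso_hom_left_fst_assoc]
  · exact (Over.w _).trans (Over.w _).symm

end Coh

end Groth.Agent.H40.DvrTorsor
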