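import Groth.Agent.H40.LocusTop
import Groth.Agent.S1386
import Groth.Agent.S0386

/-!
# Fibrewise loci of a homomorphism of group schemes (helper40)

`G` flat and locally of finite presentation over `S`, `H` locally of finite type over `S`,
`u : G ⟶ H` a homomorphism.  The fibre homomorphism `u_s` is flat / smooth / étale iff `u` is so
near every point (equivalently, by homogeneity, near one point) of the fibre `G_s`.
-/

set_option autoImplicit false
universe u
open CategoryTheory CategoryTheory.Limits AlgebraicGeometry MorphismProperty MonoidalCategory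
  CartesianMonoidalCategory MonObj

namespace Groth.Agent.H40.FibreLocus

open Groth.Agent.H40.SubgrpLocus Groth.Agent.H40.UnramLocus Groth.Agent.H40.PtLocus
  Groth.Agent.H40.LocusTop

section Sch

/-- source descent of flatness along a flat, locally finitely presented morphism, onto its
(open) range -/
theorem exists_open_flat {Z X Y : Scheme.{u}} (M : Z ⟶ X) (q : X ⟶ Y) [Flat M]
    [LocallyOfFinitePresentation M] (h : Flat (M ≫ q)) :
    ∃ R : X.Opens, (∀ z, M.base z ∈ R) ∧ Flat (R.ι ≫ q) := by
  let R : X.Opens := ⟨Set.range M.base, M.isOpenMap.isOpen_range⟩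
  have hr : Set.range M.base ⊆ Set.range R.ι.base := by
    rw [Scheme.Opens.range_ι]
    exact subset_rfl
  have hfac : IsOpenImmersion.lift R.ι M hr ≫ R.ι = M := IsOpenImmersion.lift_fac _ _ _
  have hsurj : Surjective (IsOpenImmersion.lift R.ι M hr) := by
    refine ⟨fun a => ?_⟩
    obtain ⟨z₀, hz₀⟩ := a.2
    refine ⟨z₀, ?_⟩
    apply R.ι.injective
    have := congrArg (fun m => m.base z₀) hfac
    simp only [Scheme.Hom.comp_base, TopCat.hom_comp, ContinuousMap.comp_apply] at this
    rw [this]
    exact hz₀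
  have hfl : Flat (IsOpenImmersion.lift R.ι M hr) := by
    have : Flat (IsOpenImmersion.lift R.ι M hr ≫ R.ι) := by rw [hfac]; infer_instance
    exact MorphismProperty.of_postcomp (W := @Flat) (W' := @IsOpenImmersion) _ R.ι
      inferInstance this
  have h4 : Flat (IsOpenImmersion.lift R.ι M hr ≫ R.ι ≫ q) := by
    rw [← Category.assoc, hfac]
    exact h
  exact ⟨R, fun z => ⟨z, rfl⟩,
    Groth.Agent.H52.flat_of_comp_of_flat_of_surjective _ (R.ι ≫ q) h4⟩

variable {X Y X' Y' : Scheme.{u}} {a : X' ⟶ X} {u' : X' ⟶ Y'} {u₀ : X ⟶ Y} {b : Y' ⟶ Y}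

/-- pointwise descent of flatness along an fppf base change -/
theorem pd_flat (H : IsPullback a u' u₀ b) [Flat b] [LocallyOfFinitePresentation b] (x' : X')
    (U' : X'.Opens) (hx : x' ∈ U') (h1 : Flat (U'.ι ≫ u')) :
    ∃ U : X.Opens, a.base x' ∈ U ∧ Flat (U.ι ≫ u₀) := by
  have ha1 : Flat a := MorphismProperty.of_isPullback (P := @Flat) H.flip inferInstance
  have ha2 : LocallyOfFinitePresentation a :=
    MorphismProperty.of_isPullback (P := @LocallyOfFinitePresentation) H.flip inferInstance
  have e : (U'.ι ≫ a) ≫ u₀ = (U'.ι ≫ u') ≫ b := by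
    rw [Category.assoc, H.w, Category.assoc]
  have h3 : Flat ((U'.ι ≫ a) ≫ u₀) := by rw [e]; infer_instance
  obtain ⟨R, hR, hRf⟩ := exists_open_flat (U'.ι ≫ a) u₀ h3
  exact ⟨R, hR ⟨x', hx⟩, hRf⟩

/-- for `f` lfp: flat on a neighbourhood of `x` iff flat at `x` -/
theorem flat_nhd_iff {X Y : Scheme.{u}} (f : X ⟶ Y) [LocallyOfFinitePresentation f] (x : X) :
    (∃ U : X.Opens, x ∈ U ∧ Flat (U.ι ≫ f)) ↔ (f.stalkMap x).hom.Flat := by
  constructor
  · rintro ⟨U, hxU, hU⟩
    have h0 : ((U.ι ≫ f).stalkMap ⟨x, hxU⟩).hom.Flat := Flat.stalkMap _ _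
    exact (Groth.Agent.H49.SmoothFibre.stalkMap_prop_comp_left RingHom.Flat.respectsIso U.ι f
      ⟨x, hxU⟩).mp h0
  · intro h
    refine ⟨⟨{x : X | (f.stalkMap x).hom.Flat}, Groth.Agent.S0386.result f⟩, h, ?_⟩
    rw [Flat.iff_flat_stalkMap]
    intro z
    exact (Groth.Agent.H49.SmoothFibre.stalkMap_prop_comp_left RingHom.Flat.respectsIso _ f
      z).mpr z.2

end Sch

section Grp

variable {S : Scheme.{u}} {G H : Over S}

/-- comparison iso between the fibre of `u.left ≫ H.hom` and that of `G.hom` -/
noncomputable def fibIso (u : G ⟶ H) (s : S) :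
    ((u.left ≫ H.hom).fiber s : Scheme.{u}) ≅ pullback G.hom (S.fromSpecResidueField s) :=
  pullback.congrHom (Over.w u) rfl

theorem fibIso_hom_fst (u : G ⟶ H) (s : S) :
    (fibIso u s).hom ≫ pullback.fst G.hom (S.fromSpecResidueField s) =
      (u.left ≫ H.hom).fiberι s := by
  simp only [fibIso, Scheme.Hom.fiberι, pullback.congrHom_hom]
  exact (pullback.lift_fst _ _ _).trans (Category.comp_id _)

theorem fibIso_hom_snd (u : G ⟶ H) (s : S) :
    (fibIso u s).hom ≫ pullback.snd G.hom (S.fromSpecResidueField s) =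
      (u.left ≫ H.hom).fiberToSpecResidueField s := by
  simp only [fibIso, Scheme.Hom.fiberToSpecResidueField, pullback.congrHom_hom]
  exact (pullback.lift_snd _ _ _).trans (Category.comp_id _)

theorem fiberMap_eq (u : G ⟶ H) (s : S) :
    MoreMor.fiberMap u.left H.hom s =
      (fibIso u s).hom ≫ ((Over.pullback (S.fromSpecResidueField s)).map u).left := by
  apply pullback.hom_ext
  · have e1 : ((Over.pullback (S.fromSpecResidueField s)).map u).left ≫
        pullback.fst H.hom (S.fromSpecResidueField s) =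
        pullback.fst G.hom (S.fromSpecResidueField s) ≫ u.left := pullback.lift_fst _ _ _
    rw [Category.assoc, e1, ← Category.assoc, fibIso_hom_fst]
    exact pullback.lift_fst _ _ _
  · have e2 : ((Over.pullback (S.fromSpecResidueField s)).map u).left ≫
        pullback.snd H.hom (S.fromSpecResidueField s) =
        pullback.snd G.hom (S.fromSpecResidueField s) := pullback.lift_snd _ _ _
    rw [Category.assoc, e2, fibIso_hom_snd]
    exact pullback.lift_snd _ _ _

theorem mem_range_fst_iff (s : S) (x : G.left) :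
    x ∈ Set.range (pullback.fst G.hom (S.fromSpecResidueField s)).base ↔ G.hom.base x = s := by
  rw [Scheme.Pullback.range_fst, Scheme.range_fromSpecResidueField]
  rfl

/-- **fibrewise criterion**: `u_s` is flat iff `u` is flat at every point of `G` over `s` -/
theorem us_flat_iff (u : G ⟶ H) [Flat G.hom] [LocallyOfFinitePresentation G.hom]
    [LocallyOfFiniteType H.hom] (s : S) :
    Flat ((Over.pullback (S.fromSpecResidueField s)).map u).left ↔
      ∀ x : G.left, G.hom.base x = s → (u.left.stalkMap x).hom.Flat := by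
  have hlfp : LocallyOfFinitePresentation (u.left ≫ H.hom) := by rw [Over.w u]; infer_instance
  have hfl : Flat (u.left ≫ H.hom) := by rw [Over.w u]; infer_instance
  have crit : ∀ (z : ((u.left ≫ H.hom).fiber s : Scheme.{u})),
      ((MoreMor.fiberMap u.left H.hom s).stalkMap z).hom.Flat ↔
        (u.left.stalkMap (((u.left ≫ H.hom).fiberι s).base z)).hom.Flat := by
    intro z
    have c := Groth.Agent.H49.FibreCrit.critere_at_fibre_point Groth.Agent.H49.FibreCrit.core
      u.left H.hom s z _ rfl
    constructor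
    · intro h
      exact (c.mp ⟨Flat.stalkMap _ _, h⟩).2
    · intro h
      have h1 : ((u.left ≫ H.hom).stalkMap (((u.left ≫ H.hom).fiberι s).base z)).hom.Flat :=
        Flat.stalkMap _ _
      rw [Groth.Agent.H49.FibreCrit.stalkMap_comp_hom'] at h1
      have hH := Groth.Agent.H48.ringHom_flat_of_comp_flat_local _ _ h h1
      exact (c.mpr ⟨hH, h⟩).2
  have key : ∀ z : ((u.left ≫ H.hom).fiber s : Scheme.{u}),
      ((MoreMor.fiberMap u.left H.hom s).stalkMap z).hom.Flat ↔
      (((Over.pullback (S.fromSpecResidueField s)).map u).left.stalkMap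
        ((fibIso u s).hom.base z)).hom.Flat := fun z =>
    (Groth.Agent.H49.SmoothFibre.stalkMap_prop_congr_hom @RingHom.Flat (fiberMap_eq u s) z).trans
      (Groth.Agent.H49.SmoothFibre.stalkMap_prop_comp_left RingHom.Flat.respectsIso
        (fibIso u s).hom _ z)
  have hpt : ∀ z : ((u.left ≫ H.hom).fiber s : Scheme.{u}),
      ((u.left ≫ H.hom).fiberι s).base z =
        (pullback.fst G.hom (S.fromSpecResidueField s)).base ((fibIso u s).hom.base z) := by
    intro z
    rw [← fibIso_hom_fst]
    rfl
  have hinv : ∀ x' : ↥(pullback G.hom (S.fromSpecResidueField s)),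
      (fibIso u s).hom.base ((fibIso u s).inv.base x') = x' := by
    intro x'
    rw [← Scheme.Hom.comp_apply, (fibIso u s).inv_hom_id]
    rfl
  rw [Flat.iff_flat_stalkMap]
  constructor
  · intro h x hx
    obtain ⟨x', hx'⟩ := (mem_range_fst_iff s x).mpr hx
    have h1 := h x'
    rw [← hinv x'] at h1
    have h2 := (crit _).mp ((key _).mpr h1)
    rw [hpt, hinv x', hx'] at h2
    exact h2
  · intro h x'
    have hx : G.hom.base ((pullback.fst G.hom (S.fromSpecResidueField s)).base x') = s :=
      (mem_range_fst_iff s _).mp ⟨x', rfl⟩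
    have h1 := h _ hx
    have h2 : (u.left.stalkMap (((u.left ≫ H.hom).fiberι s).base
        ((fibIso u s).inv.base x'))).hom.Flat := by
      rw [hpt, hinv x']
      exact h1
    have h3 := (key _).mp ((crit _).mpr h2)
    rw [hinv x'] at h3
    exact h3

end Grp

section Grp2

variable {S : Scheme.{u}} {G H : Over S} [GrpObj G] [GrpObj H] (u : G ⟶ H) [IsMonHom u]

theorem lfp_hom [LocallyOfFinitePresentation G.hom] [LocallyOfFiniteType H.hom] :
    LocallyOfFinitePresentation u.left :=
  Groth.Agent.H49.SmoothFibreMap.lfp_of_comp_of_lft u.left H.hom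
    (by rw [Over.w u]; infer_instance) inferInstance

theorem unit_over (s : S) : G.hom.base (η[G].left.base s) = s := by
  have := congrArg (fun m => m.base s) (Over.w η[G])
  exact this

/-- generic conclusions for a fibrewise locus -/
theorem fibre_locus (P : MorphismProperty Scheme.{u}) (Q : G.left → Prop)
    (hQopen : IsOpen {x | Q x})
    (hus : ∀ s : S, P ((Over.pullback (S.fromSpecResidueField s)).map u).left ↔
      ∀ x : G.left, G.hom.base x = s → Q x)
    (hhom : ∀ x x₁ : G.left, Q x → G.hom.base x₁ = G.hom.base x → Q x₁) :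
    IsOpen {s : S | P ((Over.pullback (S.fromSpecResidueField s)).map u).left} ∧
    {x | Q x} = G.hom.base ⁻¹'
      {s : S | P ((Over.pullback (S.fromSpecResidueField s)).map u).left} := by
  have hset : {s : S | P ((Over.pullback (S.fromSpecResidueField s)).map u).left} =
      η[G].left.base ⁻¹' {x | Q x} := by
    ext s
    constructor
    · intro h
      exact (hus s).mp h _ (unit_over s)
    · intro h
      exact (hus s).mpr fun x hx => hhom _ x h (hx.trans (unit_over s).symm)
  refine ⟨?_, ?_⟩
  · rw [hset]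
    exact hQopen.preimage η[G].left.base.hom.continuous
  · ext x
    constructor
    · intro h
      exact (hus _).mpr fun x₁ hx₁ => hhom x x₁ h hx₁
    · intro h
      exact (hus _).mp h x rfl

theorem isOpen_nhd_locus (P : MorphismProperty Scheme.{u}) {X Y : Scheme.{u}} (f : X ⟶ Y) :
    IsOpen {x : X | ∃ W : X.Opens, x ∈ W ∧ P (W.ι ≫ f)} := by
  rw [isOpen_iff_forall_mem_open]
  rintro x ⟨W, hxW, hW⟩
  exact ⟨W, fun y hy => ⟨W, hy, hW⟩, W.isOpen, hxW⟩

variable [Flat G.hom] [LocallyOfFinitePresentation G.hom] [LocallyOfFiniteType H.hom]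

/-- homogeneity of flatness -/
theorem flat_homog (x x₁ : G.left) (h : (u.left.stalkMap x).hom.Flat)
    (hx : G.hom.base x₁ = G.hom.base x) : (u.left.stalkMap x₁).hom.Flat := by
  have := lfp_hom u
  obtain ⟨W, hxW, hW⟩ := (flat_nhd_iff u.left x).mpr h
  obtain ⟨U, hU1, hU2⟩ := nhd_of_mem_fibre u @Flat
    (fun H _ _ x' U' hx' hU' => pd_flat H x' U' hx' hU') W hW x₁ x hxW hx
  exact (flat_nhd_iff u.left x₁).mp ⟨U, hU1, hU2⟩

/-- `u_s` is smooth iff `u` is smooth near every point of `G` over `s` -/
theorem us_smooth_iff (s : S) :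
    Smooth ((Over.pullback (S.fromSpecResidueField s)).map u).left ↔
      ∀ x : G.left, G.hom.base x = s → ∃ W : G.left.Opens, x ∈ W ∧ Smooth (W.ι ≫ u.left) := by
  have hlfp := lfp_hom u
  have Hsq := isPullback_pullback_map (S.fromSpecResidueField s) u
  constructor
  · intro hsm x hx
    have hflat : ∀ x₁ : G.left, G.hom.base x₁ = s → (u.left.stalkMap x₁).hom.Flat :=
      (us_flat_iff u s).mp inferInstance
    obtain ⟨FL, hFLdef⟩ : ∃ FL : G.left.Opens,
        FL = ⟨{x : G.left | (u.left.stalkMap x).hom.Flat}, Groth.Agent.S0386.result u.left⟩ :=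
      ⟨_, rfl⟩
    have hFLmem : ∀ y : G.left, y ∈ FL ↔ (u.left.stalkMap y).hom.Flat := by
      intro y; rw [hFLdef]; rfl
    have hFLflat : Flat (FL.ι ≫ u.left) := by
      rw [Flat.iff_flat_stalkMap]
      intro z
      exact (Groth.Agent.H49.SmoothFibre.stalkMap_prop_comp_left RingHom.Flat.respectsIso _
        u.left z).mpr ((hFLmem _).mp z.2)
    obtain ⟨x', hx'⟩ := (mem_range_fst_iff s x).mpr hx
    have H'' : IsPullback (pullback.fst G.hom (S.fromSpecResidueField s) ∣_ FL)
        ((pullback.fst G.hom (S.fromSpecResidueField s) ⁻¹ᵁ FL).ι ≫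
          ((Over.pullback (S.fromSpecResidueField s)).map u).left) (FL.ι ≫ u.left)
        (pullback.fst H.hom (S.fromSpecResidueField s)) :=
      (isPullback_morphismRestrict _ FL).paste_vert Hsq
    have hx'mem : x' ∈ pullback.fst G.hom (S.fromSpecResidueField s) ⁻¹ᵁ FL := by
      show (pullback.fst G.hom (S.fromSpecResidueField s)).base x' ∈ FL
      rw [hx', hFLmem]
      exact hflat x hx
    obtain ⟨x'', hx''⟩ : ∃ x'' : (pullback.fst G.hom (S.fromSpecResidueField s) ⁻¹ᵁ FL).toScheme,
        x'' = ⟨x', hx'mem⟩ := ⟨_, rfl⟩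
    have hmem : x'' ∈ ((pullback.fst G.hom (S.fromSpecResidueField s) ⁻¹ᵁ FL).ι ≫
        ((Over.pullback (S.fromSpecResidueField s)).map u).left).smoothLocus := by
      rw [Scheme.Hom.smoothLocus_eq_top]
      trivial
    have key := Groth.Agent.H49.SmoothDescent.mem_smoothLocus_of_isPullback_of_flat_left H'' x''
      hmem
    obtain ⟨U₁, hx₁, hsm₁⟩ :=
      (Groth.Agent.H49.SmoothFibreMap.smooth_nhd_iff_mem_smoothLocus (FL.ι ≫ u.left) _).mpr key
    refine ⟨(U₁.ι ≫ FL.ι).opensRange, ⟨⟨_, hx₁⟩, ?_⟩, ?_⟩
    · have e1 : ((pullback.fst G.hom (S.fromSpecResidueField s) ∣_ FL) ≫ FL.ι).base x'' =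
          ((pullback.fst G.hom (S.fromSpecResidueField s) ⁻¹ᵁ FL).ι ≫
            pullback.fst G.hom (S.fromSpecResidueField s)).base x'' := by
        rw [morphismRestrict_ι]
      have e2 : ((pullback.fst G.hom (S.fromSpecResidueField s) ⁻¹ᵁ FL).ι ≫
            pullback.fst G.hom (S.fromSpecResidueField s)).base x'' = x := by
        rw [hx'', ← hx']
        rfl
      exact e1.trans e2
    · refine opensRange_of_immersion @Smooth (U₁.ι ≫ FL.ι) u.left ?_
      rw [Category.assoc]
      exact hsm₁
  · intro h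
    refine of_forall_nhd @Smooth _ fun x' => ?_
    obtain ⟨W, hxW, hW⟩ := h ((pullback.fst G.hom (S.fromSpecResidueField s)).base x')
      ((mem_range_fst_iff s _).mp ⟨x', rfl⟩)
    have H' : IsPullback (pullback.fst G.hom (S.fromSpecResidueField s) ∣_ W)
        ((pullback.fst G.hom (S.fromSpecResidueField s) ⁻¹ᵁ W).ι ≫
          ((Over.pullback (S.fromSpecResidueField s)).map u).left) (W.ι ≫ u.left)
        (pullback.fst H.hom (S.fromSpecResidueField s)) :=
      (isPullback_morphismRestrict _ W).paste_vert Hsq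
    exact ⟨pullback.fst G.hom (S.fromSpecResidueField s) ⁻¹ᵁ W, hxW,
      MorphismProperty.of_isPullback (P := @Smooth) H' hW⟩

/-- `u_s` is étale iff `u` is étale near every point of `G` over `s` -/
theorem us_etale_iff (s : S) :
    Etale ((Over.pullback (S.fromSpecResidueField s)).map u).left ↔
      ∀ x : G.left, G.hom.base x = s → ∃ W : G.left.Opens, x ∈ W ∧ Etale (W.ι ≫ u.left) := by
  have hlfp := lfp_hom u
  have Hsq := isPullback_pullback_map (S.fromSpecResidueField s) u
  have hlfps : LocallyOfFinitePresentation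
      ((Over.pullback (S.fromSpecResidueField s)).map u).left :=
    MorphismProperty.of_isPullback (P := @LocallyOfFinitePresentation) Hsq hlfp
  rw [Etale.iff_flat_and_formallyUnramified]
  constructor
  · rintro ⟨hf, hun, -⟩ x hx
    refine (Groth.Agent.H48.etale_nhd_iff_flat_unramified u.left x).mpr
      ⟨?_, (us_flat_iff u s).mp hf x hx⟩
    subst hx
    exact (unram_iff_unit u x).mpr ((fibre_unram_iff u _).mp hun)
  · intro h
    refine ⟨?_, ?_, hlfps⟩
    · exact (us_flat_iff u s).mpr fun x hx =>
        ((Groth.Agent.H48.etale_nhd_iff_flat_unramified u.left x).mp (h x hx)).2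
    · exact (fibre_unram_iff u s).mpr
        ((Groth.Agent.H48.etale_nhd_iff_flat_unramified u.left _).mp
          (h _ (unit_over s))).1

end Grp2

end Groth.Agent.H40.FibreLocus
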