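import Groth.Agent.H40.MaxOpen3
import Groth.Agent.H38.PrimaryConn

/-!
# Fixed points and étale equivariant maps (helper40)

`stab_of_connected`: for an étale (more generally: open diagonal) equivariant map `f : X ⟶ Y` and a point
`x : T ⟶ X` whose image in `Y` is universally fixed, over a one-point base `T` with `G ⊗ T` connected, `x` is fixed.
-/

set_option autoImplicit false
universe u
open CategoryTheory CategoryTheory.Limits AlgebraicGeometry MorphismProperty MonoidalCategory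
  CartesianMonoidalCategory MonObj

namespace Groth.Agent.H40.FixedPt

/-- equalizer open for two maps into the source of a morphism with open diagonal. -/
theorem exists_eq_open {W X Y : Scheme.{u}} (f : X ⟶ Y) [IsOpenImmersion (pullback.diagonal f)]
    (α β : W ⟶ X) (h : α ≫ f = β ≫ f) :
    ∃ E : W.Opens, ∀ {V : Scheme.{u}} (φ : V ⟶ W),
      φ ≫ α = φ ≫ β ↔ Set.range φ.base ⊆ (E : Set W) := by
  obtain ⟨gam, hgam⟩ : ∃ gam : W ⟶ pullback f f, gam = pullback.lift α β h := ⟨_, rfl⟩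
  have hgam1 : gam ≫ pullback.fst f f = α := by rw [hgam]; exact pullback.lift_fst _ _ _
  have hgam2 : gam ≫ pullback.snd f f = β := by rw [hgam]; exact pullback.lift_snd _ _ _
  refine ⟨gam ⁻¹ᵁ (pullback.diagonal f).opensRange, fun {V} φ => ⟨fun hφ => ?_, fun hφ => ?_⟩⟩
  · rintro _ ⟨v, rfl⟩
    have e : φ ≫ gam = (φ ≫ α) ≫ pullback.diagonal f := by
      apply pullback.hom_ext
      · rw [Category.assoc, hgam1, Category.assoc, pullback.diagonal_fst, Category.comp_id]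
      · rw [Category.assoc, hgam2, Category.assoc, pullback.diagonal_snd, Category.comp_id, hφ]
    change gam.base (φ.base v) ∈ Set.range (pullback.diagonal f).base
    refine ⟨(φ ≫ α).base v, ?_⟩
    rw [← Scheme.Hom.comp_apply, ← e]
    rfl
  · have hr : Set.range (φ ≫ gam).base ⊆ Set.range (pullback.diagonal f).base := by
      rintro _ ⟨v, rfl⟩
      exact hφ ⟨v, rfl⟩
    have hfac := IsOpenImmersion.lift_fac (pullback.diagonal f) (φ ≫ gam) hr
    have h1 : φ ≫ α = IsOpenImmersion.lift (pullback.diagonal f) (φ ≫ gam) hr := by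
      have := congrArg (· ≫ pullback.fst f f) hfac
      simp only [Category.assoc, pullback.diagonal_fst, Category.comp_id, hgam1] at this
      exact this.symm
    have h2 : φ ≫ β = IsOpenImmersion.lift (pullback.diagonal f) (φ ≫ gam) hr := by
      have := congrArg (· ≫ pullback.snd f f) hfac
      simp only [Category.assoc, pullback.diagonal_snd, Category.comp_id, hgam2] at this
      exact this.symm
    rw [h1, h2]

variable {S : Scheme.{u}} {G X : Over S} [GrpObj G] (a : AlgGrp.Action G X) {T : Over S} (x : T ⟶ X)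

/-- `g` stabilises `t ≫ x`. -/
def Stab {T₁ : Over S} (g : T₁ ⟶ G) (t : T₁ ⟶ T) : Prop := lift g (t ≫ x) ≫ a.act = t ≫ x

theorem stab_one {T₁ : Over S} (t : T₁ ⟶ T) : Stab a x (1 : T₁ ⟶ G) t :=
  AlgGrp.Action.lift_one_act a (t ≫ x)

theorem stab_of_mul {T₁ : Over S} {g g' : T₁ ⟶ G} {t : T₁ ⟶ T} (h : Stab a x (g * g') t)
    (h' : Stab a x g' t) : Stab a x g t := by
  unfold Stab at *
  rw [AlgGrp.Action.lift_mul_act, h'] at h
  exact h

theorem stab_of_inv {T₁ : Over S} {g : T₁ ⟶ G} {t : T₁ ⟶ T} (h : Stab a x g⁻¹ t) : Stab a x g t :=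
  stab_of_mul a x (g := g) (g' := g⁻¹) (by rw [mul_inv_cancel]; exact stab_one a x t) h

theorem stab_comp {T₁ T₂ : Over S} (s : T₂ ⟶ T₁) {g : T₁ ⟶ G} {t : T₁ ⟶ T} (h : Stab a x g t) :
    Stab a x (s ≫ g) (s ≫ t) := by
  unfold Stab at *
  rw [Category.assoc, ← comp_lift_assoc, h]

variable {Y : Over S} (b : AlgGrp.Action G Y) (f : X ⟶ Y) (hf : a.act ≫ f = (G ◁ f) ≫ b.act)

include hf in
theorem exists_stab_open [IsOpenImmersion (pullback.diagonal f.left)]
    (hx : ∀ (T' : Over S) (t : T' ⟶ T) (g : T' ⟶ G), lift g (t ≫ x ≫ f) ≫ b.act = t ≫ x ≫ f) :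
    ∃ E : (G ⊗ T).left.Opens, ∀ {T₁ : Over S} (g : T₁ ⟶ G) (t : T₁ ⟶ T),
      Stab a x g t ↔ Set.range (lift g t).left.base ⊆ (E : Set (G ⊗ T).left) := by
  have hαβ : ((G ◁ x) ≫ a.act) ≫ f = (snd G T ≫ x) ≫ f := by
    apply AlgGrp.Action.hom_ext_lift₂
    intro T₁ g t
    simp only [Category.assoc]
    rw [hf, lift_whiskerLeft_assoc, lift_whiskerLeft_assoc, lift_snd_assoc]
    exact hx T₁ t g
  obtain ⟨E, hE⟩ := exists_eq_open f.left ((G ◁ x) ≫ a.act).left (snd G T ≫ x).left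
    (by rw [← Over.comp_left, ← Over.comp_left, hαβ])
  refine ⟨E, fun {T₁} g t => ?_⟩
  rw [← hE (lift g t).left]
  unfold Stab
  constructor
  · intro h
    rw [← Over.comp_left, ← Over.comp_left]
    congr 1
    rw [lift_whiskerLeft_assoc, lift_snd_assoc]
    exact h
  · intro h
    have : lift g t ≫ (G ◁ x) ≫ a.act = lift g t ≫ snd G T ≫ x :=
      Over.OverMorphism.ext h
    rwa [lift_whiskerLeft_assoc, lift_snd_assoc] at this

omit [GrpObj G] in
theorem lift_fst_snd_eq {A B T₁ : Over S} (φ : T₁ ⟶ A ⊗ B) : φ = lift (φ ≫ fst A B) (φ ≫ snd A B) := by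
  apply CartesianMonoidalCategory.hom_ext
  · rw [lift_fst]
  · rw [lift_snd]

/-- the stabiliser open is closed when every map to `T` is universally open (e.g. `T` a one-point scheme). -/
theorem isClosed_of_stab_open (E : (G ⊗ T).left.Opens)
    (hE : ∀ {T₁ : Over S} (g : T₁ ⟶ G) (t : T₁ ⟶ T),
      Stab a x g t ↔ Set.range (lift g t).left.base ⊆ (E : Set (G ⊗ T).left))
    (hopen : ∀ {TL : Over S} (tL : TL ⟶ T), UniversallyOpen tL.left) :
    IsClosed (E : Set (G ⊗ T).left) := by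
  rw [← isOpen_compl_iff, isOpen_iff_forall_mem_open]
  intro z hz
  obtain ⟨ζ, hζdef⟩ : ∃ ζ, ζ = (G ⊗ T).left.fromSpecResidueField z := ⟨_, rfl⟩
  have hζr : Set.range ζ.base = {z} := by
    rw [hζdef]
    exact Scheme.range_fromSpecResidueField z
  obtain ⟨p⟩ : Nonempty (Spec ((G ⊗ T).left.residueField z)) := inferInstance
  obtain ⟨ζ', hζ'l⟩ : ∃ ζ' : Over.mk (ζ ≫ (G ⊗ T).hom) ⟶ G ⊗ T, ζ'.left = ζ :=
    ⟨Over.homMk ζ rfl, rfl⟩
  obtain ⟨h, hh⟩ : ∃ h : Over.mk (ζ ≫ (G ⊗ T).hom) ⟶ G, h = ζ' ≫ fst G T := ⟨_, rfl⟩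
  obtain ⟨tL, htL⟩ : ∃ tL : Over.mk (ζ ≫ (G ⊗ T).hom) ⟶ T, tL = ζ' ≫ snd G T := ⟨_, rfl⟩
  have hζ' : ζ' = lift h tL := by
    rw [hh, htL]
    exact lift_fst_snd_eq ζ'
  have hrange : ∀ {T₂ : Over S} (l : T₂ ⟶ Over.mk (ζ ≫ (G ⊗ T).hom)) (v : T₂.left),
      (l ≫ ζ').left.base v = z := by
    intro T₂ l v
    have : (l ≫ ζ').left.base v ∈ Set.range ζ.base :=
      ⟨l.left.base v, by show ζ.base _ = ζ'.left.base _; rw [hζ'l]; rfl⟩
    rw [hζr] at this
    exact this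
  obtain ⟨ℓ', hℓ'⟩ : ∃ ℓ' : G ⊗ Over.mk (ζ ≫ (G ⊗ T).hom) ⟶ G ⊗ T,
      ℓ' = lift ((snd G _ ≫ h)⁻¹ * fst G _) (snd G _ ≫ tL) := ⟨_, rfl⟩
  have hop : IsOpenMap (G ◁ tL).left.base := by
    have SQ : IsPullback (snd G _).left (G ◁ tL).left tL.left (snd G T).left :=
      (Groth.Agent.H40.MaxOpen.sq_snd' (G := G) tL).map (Over.forget S)
    have : UniversallyOpen (G ◁ tL).left :=
      MorphismProperty.of_isPullback (P := @UniversallyOpen) SQ (hopen tL)
    exact (G ◁ tL).left.isOpenMap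
  refine ⟨(G ◁ tL).left.base '' (ℓ'.left.base ⁻¹' (E : Set (G ⊗ T).left)), ?_,
    hop _ (E.2.preimage ℓ'.left.continuous), ?_⟩
  · rintro y ⟨w, hw1, rfl⟩ hy2
    apply hz
    obtain ⟨W, hW1, hW2, hwW⟩ : ∃ W : (G ⊗ Over.mk (ζ ≫ (G ⊗ T).hom)).left.Opens,
        W ≤ ℓ'.left ⁻¹ᵁ E ∧ W ≤ (G ◁ tL).left ⁻¹ᵁ E ∧ w ∈ W :=
      ⟨(ℓ'.left ⁻¹ᵁ E) ⊓ ((G ◁ tL).left ⁻¹ᵁ E), inf_le_left, inf_le_right, ⟨hw1, hy2⟩⟩
    obtain ⟨ω, hωl⟩ : ∃ ω : Over.mk (W.ι ≫ (G ⊗ Over.mk (ζ ≫ (G ⊗ T).hom)).hom) ⟶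
        G ⊗ Over.mk (ζ ≫ (G ⊗ T).hom), ω.left = W.ι := ⟨Over.homMk W.ι rfl, rfl⟩
    obtain ⟨g', hg'⟩ : ∃ g', g' = ω ≫ fst G _ := ⟨_, rfl⟩
    obtain ⟨l, hl⟩ : ∃ l, l = ω ≫ snd G _ := ⟨_, rfl⟩
    have hω : ω = lift g' l := by
      rw [hg', hl]
      exact lift_fst_snd_eq ω
    have hmem : ∀ v : (Over.mk (W.ι ≫ (G ⊗ Over.mk (ζ ≫ (G ⊗ T).hom)).hom)).left,
        ω.left.base v ∈ W := by
      intro v
      rw [hωl]
      exact v.2
    have e1 : ω ≫ (G ◁ tL) = lift g' (l ≫ tL) := by rw [hω, lift_whiskerLeft]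
    have e2 : ω ≫ ℓ' = lift ((l ≫ h)⁻¹ * g') (l ≫ tL) := by
      rw [hℓ', comp_lift, MonObj.comp_mul, GrpObj.comp_inv, ← Category.assoc, ← hl, ← hg',
        ← Category.assoc, ← hl]
    have s1 : Stab a x g' (l ≫ tL) := by
      refine (hE _ _).mpr ?_
      rw [← e1]
      rintro _ ⟨v, rfl⟩
      exact hW2 (hmem v)
    have s2 : Stab a x ((l ≫ h)⁻¹ * g') (l ≫ tL) := by
      refine (hE _ _).mpr ?_
      rw [← e2]
      rintro _ ⟨v, rfl⟩
      exact hW1 (hmem v)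
    have s3 : Stab a x (l ≫ h) (l ≫ tL) := stab_of_inv a x (stab_of_mul a x s2 s1)
    have s4 := (hE _ _).mp s3
    have e3 : lift (l ≫ h) (l ≫ tL) = l ≫ ζ' := by rw [hζ', comp_lift]
    rw [e3] at s4
    have hv : ∃ v : (Over.mk (W.ι ≫ (G ⊗ Over.mk (ζ ≫ (G ⊗ T).hom)).hom)).left, True :=
      ⟨⟨w, hwW⟩, trivial⟩
    obtain ⟨v, -⟩ := hv
    rw [← hrange l v]
    exact s4 ⟨v, rfl⟩
  · refine ⟨(lift h (𝟙 _)).left.base p, ?_, ?_⟩
    · have e : lift h (𝟙 _) ≫ ℓ' = lift (1 : Over.mk (ζ ≫ (G ⊗ T).hom) ⟶ G) tL := by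
        rw [hℓ', comp_lift, MonObj.comp_mul, GrpObj.comp_inv, lift_snd_assoc, lift_fst,
          Category.id_comp, inv_mul_cancel, lift_snd_assoc, Category.id_comp]
      have s := (hE _ _).mp (stab_one a x tL)
      rw [← e] at s
      exact s ⟨p, rfl⟩
    · have e : lift h (𝟙 _) ≫ (G ◁ tL) = ζ' := by
        rw [lift_whiskerLeft, Category.id_comp, hζ']
      have := hrange (𝟙 _) p
      rw [Category.id_comp] at this
      rw [← e] at this
      exact this

include hf in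
/-- over a base `T` with `G ⊗ T` connected and all maps to `T` universally open, a point with universally fixed image
under an equivariant map with open diagonal is fixed. -/
theorem stab_of_connected [IsOpenImmersion (pullback.diagonal f.left)]
    (hx : ∀ (T' : Over S) (t : T' ⟶ T) (g : T' ⟶ G), lift g (t ≫ x ≫ f) ≫ b.act = t ≫ x ≫ f)
    [ConnectedSpace (G ⊗ T).left]
    (hopen : ∀ {TL : Over S} (tL : TL ⟶ T), UniversallyOpen tL.left)
    {T₁ : Over S} (g : T₁ ⟶ G) (t : T₁ ⟶ T) : Stab a x g t := by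
  obtain ⟨E, hE⟩ := exists_stab_open a x b f hf hx
  have hcl := isClosed_of_stab_open a x E hE hopen
  have hne : (E : Set (G ⊗ T).left).Nonempty := by
    obtain ⟨p⟩ : Nonempty (G ⊗ T).left := inferInstance
    refine ⟨(lift (1 : T ⟶ G) (𝟙 T)).left.base ((snd G T).left.base p), ?_⟩
    exact (hE _ _).mp (stab_one a x (𝟙 T)) ⟨_, rfl⟩
  have htop : (E : Set (G ⊗ T).left) = Set.univ := IsClopen.eq_univ ⟨hcl, E.2⟩ hne
  exact (hE g t).mpr (by rw [htop]; exact Set.subset_univ _)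

omit a in
/-- a group scheme with connected fibres has geometrically connected fibres. -/
theorem geomConn_of_grp (hconn : ∀ s : S, ConnectedSpace (G.hom.fiber s)) :
    GeometricallyConnected G.hom := by
  rw [GeometricallyConnected.iff_geometricallyConnected_fiber]
  intro s
  have := hconn s
  have hsec : (S.fromSpecResidueField s ≫ η[G].left) ≫ G.hom =
      𝟙 _ ≫ S.fromSpecResidueField s := by
    rw [Category.assoc, Over.w η[G], Category.id_comp]
    exact Category.comp_id _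
  refine Groth.Agent.H38.PrimaryConn.geomConn_of_fieldPoint (k := S.residueField s)
    (G.hom.fiberToSpecResidueField s) (S.residueField s)
    (pullback.lift (S.fromSpecResidueField s ≫ η[G].left) (𝟙 _) hsec) ?_ (fun α _ => ⟨α, rfl⟩)
  refine (pullback.lift_snd _ _ _).trans ?_
  rw [Algebra.algebraMap_self]
  exact (Spec.map_id _).symm

end Groth.Agent.H40.FixedPt
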