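import Groth.Agent.H31.FlatGrid
import Mathlib.Algebra.Homology.Refinements

/-!
# Flatness of a cokernel from Tor-vanishing (helper40 library)

`mono_of_chase`: a diagram chase.  `flat_cokernel_of_exact`: if `E0 ⟶ E1 ⟶ E2 ⟶ C ⟶ 0` with `E2` flat,
`C` the cokernel and `E0 ⊗ G ⟶ E1 ⊗ G ⟶ E2 ⊗ G` exact for all `G`, then `C` is flat.
`flat_of_retract`: retracts of flat objects are flat.
-/

set_option autoImplicit false
universe v u
open CategoryTheory CategoryTheory.Limits CategoryTheory.Category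

namespace Groth.Agent.H40.FlatCoker

open Groth.Agent.H31

section Chase

variable {A : Type u} [Category.{v} A] [Abelian A]

theorem mono_of_chase {A0 A0'' A1' A1 A1'' A2' A2 A2'' C' C : A}
    (p0 : A0 ⟶ A0'') (i1 : A1' ⟶ A1) (p1 : A1 ⟶ A1'') (i2 : A2' ⟶ A2) (p2 : A2 ⟶ A2'')
    (d0 : A0 ⟶ A1) (d0'' : A0'' ⟶ A1'') (d1' : A1' ⟶ A2') (d1 : A1 ⟶ A2) (d1'' : A1'' ⟶ A2'')
    (π' : A2' ⟶ C') (π : A2 ⟶ C) (f : C' ⟶ C)
    [Epi p0] [Mono i2] [Epi π']
    (w1 : i1 ≫ p1 = 0) (ex1 : (ShortComplex.mk i1 p1 w1).Exact)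
    (w2 : i2 ≫ p2 = 0)
    (c0 : d0 ≫ p1 = p0 ≫ d0'') (c1' : i1 ≫ d1 = d1' ≫ i2) (c1 : d1 ≫ p2 = p1 ≫ d1'')
    (wd : d0 ≫ d1 = 0)
    (w'' : d0'' ≫ d1'' = 0) (ex'' : (ShortComplex.mk d0'' d1'' w'').Exact)
    (wπ' : d1' ≫ π' = 0) (wπ : d1 ≫ π = 0) (exπ : (ShortComplex.mk d1 π wπ).Exact)
    (cf : π' ≫ f = i2 ≫ π) : Mono f := by
  rw [Preadditive.mono_iff_cancel_zero]
  intro T x hx
  obtain ⟨T1, π1, _, x2, h1⟩ := surjective_up_to_refinements_of_epi π' x
  have e1 : (x2 ≫ i2) ≫ π = 0 := by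
    rw [assoc, ← cf, ← assoc, ← h1, assoc, hx, comp_zero]
  obtain ⟨T2, π2, _, y, h2⟩ := exπ.exact_up_to_refinements (x2 ≫ i2) e1
  dsimp at y h2
  have e2 : (y ≫ p1) ≫ d1'' = 0 := by
    rw [assoc, ← c1, ← assoc, ← h2, assoc, assoc, w2, comp_zero, comp_zero]
  obtain ⟨T3, π3, _, z'', h3⟩ := ex''.exact_up_to_refinements (y ≫ p1) e2
  dsimp at z'' h3
  obtain ⟨T4, π4, _, z, h4⟩ := surjective_up_to_refinements_of_epi p0 z''
  have e3 : (π4 ≫ π3 ≫ y - z ≫ d0) ≫ p1 = 0 := by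
    rw [Preadditive.sub_comp, assoc, assoc, assoc, c0, ← assoc z, ← h4, assoc, ← h3, sub_self]
  obtain ⟨T5, π5, _, w, h5⟩ := ex1.exact_up_to_refinements _ e3
  dsimp at w h5
  have hw : w ≫ d1' = π5 ≫ π4 ≫ π3 ≫ π2 ≫ x2 := by
    rw [← cancel_mono i2, assoc, ← c1', ← assoc, ← h5, assoc, Preadditive.sub_comp, assoc, assoc,
      assoc, wd, comp_zero, sub_zero, ← h2]
    simp only [assoc]
  have e4 : (π5 ≫ π4 ≫ π3 ≫ π2 ≫ π1) ≫ x = 0 := by
    have e5 : (π5 ≫ π4 ≫ π3 ≫ π2 ≫ π1) ≫ x = (π5 ≫ π4 ≫ π3 ≫ π2 ≫ x2) ≫ π' := by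
      simp only [assoc]; rw [h1]
    rw [e5, ← hw, assoc, wπ', comp_zero]
  have : Epi (π5 ≫ π4 ≫ π3 ≫ π2 ≫ π1) := inferInstance
  rwa [← cancel_epi (π5 ≫ π4 ≫ π3 ≫ π2 ≫ π1), comp_zero]

end Chase

section Bifunctor

variable {A : Type u} [Category.{v} A] [Abelian A] {T : A ⥤ A ⥤ A}

omit [Abelian A] in
/-- Retracts of flat objects are flat. -/
theorem flat_of_retract {F C : A} (s : F ⟶ C) (r : C ⟶ F) (h : s ≫ r = 𝟙 F)
    (hC : (T.flip.obj C).PreservesMonomorphisms) : (T.flip.obj F).PreservesMonomorphisms := by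
  constructor
  intro G' G j hj
  have hs : Mono ((T.obj G').map s) := by
    have : (T.obj G').map s ≫ (T.obj G').map r = 𝟙 _ := by
      rw [← Functor.map_comp, h, CategoryTheory.Functor.map_id]
    exact mono_of_mono_fac this
  have h2 : Mono ((T.flip.obj C).map j) := hC.preserves j
  have nat : (T.flip.obj F).map j ≫ (T.obj G).map s = (T.obj G').map s ≫ (T.flip.obj C).map j :=
    ((T.map j).naturality s).symm
  have : Mono ((T.flip.obj F).map j ≫ (T.obj G).map s) := by rw [nat]; exact mono_comp _ _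
  exact mono_of_mono _ ((T.obj G).map s)

/-- If `E0 ⟶ E1 ⟶ E2` is a complex with `E2` flat which stays exact after `- ⊗ G` for all `G`,
the cokernel of `E1 ⟶ E2` is flat. -/
theorem flat_cokernel_of_exact (hT : TensorLike T) {E0 E1 E2 C : A} (d0 : E0 ⟶ E1) (d1 : E1 ⟶ E2)
    (wd : d0 ≫ d1 = 0) (π : E2 ⟶ C) (wπ : d1 ≫ π = 0)
    (hπ : IsColimit (CokernelCofork.ofπ π wπ))
    (hE2 : (T.flip.obj E2).PreservesMonomorphisms)
    (hex : ∀ (G : A) (w : (T.map d0).app G ≫ (T.map d1).app G = 0),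
      (ShortComplex.mk ((T.map d0).app G) ((T.map d1).app G) w).Exact) :
    (T.flip.obj C).PreservesMonomorphisms := by
  have := hT.left_colim
  have := hT.right_colim
  have := hT.left_zero
  have := hT.right_zero
  obtain ⟨eC⟩ := hT.symm C
  obtain ⟨e2⟩ := hT.symm E2
  have hE2' : (T.obj E2).PreservesMonomorphisms := Functor.PreservesMonomorphisms.of_iso e2.symm
  suffices h : (T.obj C).PreservesMonomorphisms from Functor.PreservesMonomorphisms.of_iso eC
  constructor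
  intro G' G j hj
  have hz : ∀ (G : A) {X Y : A}, (T.map (0 : X ⟶ Y)).app G = 0 := fun G X Y =>
    (T.flip.obj G).map_zero X Y
  have wdG : ∀ G : A, (T.map d0).app G ≫ (T.map d1).app G = 0 := fun G => by
    rw [← NatTrans.comp_app, ← T.map_comp, wd, hz]
  have wπG : ∀ G : A, (T.map d1).app G ≫ (T.map π).app G = 0 := fun G => by
    rw [← NatTrans.comp_app, ← T.map_comp, wπ, hz]
  have hπepi : Epi π := Cofork.IsColimit.epi hπ
  have exπ : (ShortComplex.mk ((T.map d1).app G) ((T.map π).app G) (wπG G)).Exact :=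
    (ShortComplex.exact_of_g_is_cokernel (ShortComplex.mk d1 π wπ) hπ).map_of_epi_of_preservesCokernel
      (T.flip.obj G) hπepi inferInstance
  have ex1 : (ShortComplex.mk ((T.obj E1).map j) ((T.obj E1).map (cokernel.π j))
      (by rw [← Functor.map_comp, cokernel.condition, Functor.map_zero])).Exact :=
    (ShortComplex.exact_cokernel j).map_of_epi_of_preservesCokernel (T.obj E1)
      (inferInstanceAs (Epi (cokernel.π j))) inferInstance
  have : Epi ((T.obj E0).map (cokernel.π j)) := inferInstance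
  have : Mono ((T.obj E2).map j) := hE2'.preserves j
  have : Epi ((T.map π).app G') := (inferInstance : Epi ((T.flip.obj G').map π))
  exact mono_of_chase ((T.obj E0).map (cokernel.π j)) ((T.obj E1).map j)
    ((T.obj E1).map (cokernel.π j)) ((T.obj E2).map j) ((T.obj E2).map (cokernel.π j))
    ((T.map d0).app G) ((T.map d0).app (cokernel j)) ((T.map d1).app G') ((T.map d1).app G)
    ((T.map d1).app (cokernel j)) ((T.map π).app G') ((T.map π).app G) ((T.obj C).map j)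
    _ ex1 (by rw [← Functor.map_comp, cokernel.condition, Functor.map_zero])
    ((T.map d0).naturality (cokernel.π j)).symm ((T.map d1).naturality j)
    ((T.map d1).naturality (cokernel.π j)).symm (wdG G) (wdG _) (hex _ _) (wπG G') (wπG G) exπ
    ((T.map π).naturality j).symm

end Bifunctor

end Groth.Agent.H40.FlatCoker
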