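import Groth.Agent.H40.PrincBundle3

/-!
# A principal bundle is a geometric quotient (helper40)
-/

set_option autoImplicit false
universe u
open CategoryTheory CategoryTheory.Limits AlgebraicGeometry MonoidalCategory CartesianMonoidalCategory
open MonObj

namespace Groth.Agent.H40.PrincBundle

open Groth.Agent.H40.FpqcFam

section ToA1U

theorem iso_hom_inv_apply {A B : CommRingCat.{u}} (e : A ≅ B) (x : A) :
    e.inv.hom (e.hom.hom x) = x := by
  have := congrArg (fun m => m.hom x) e.hom_inv_id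
  exact this

theorem iso_inv_hom_apply {A B : CommRingCat.{u}} (e : A ≅ B) (y : B) :
    e.hom.hom (e.inv.hom y) = y := by
  have := congrArg (fun m => m.hom y) e.inv_hom_id
  exact this

/-- the morphism to the affine line given by a section over an open. -/
noncomputable def toA1U {X : Scheme.{u}} (W : X.Opens) (s : Γ(X, W)) : (W : Scheme.{u}) ⟶ A1.{u} :=
  toA1 (W.topIso.inv.hom s)

theorem toA1U_injective {X : Scheme.{u}} (W : X.Opens) {s s' : Γ(X, W)}
    (h : toA1U W s = toA1U W s') : s = s' := by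
  have h1 : W.topIso.inv.hom s = W.topIso.inv.hom s' := toA1_injective h
  rw [← iso_inv_hom_apply W.topIso s, h1, iso_inv_hom_apply]

theorem resLE_comp_toA1U {X Y : Scheme.{u}} (f : X ⟶ Y) (U : Y.Opens) (V : X.Opens)
    (e : V ≤ f ⁻¹ᵁ U) (s : Γ(Y, U)) :
    f.resLE U V e ≫ toA1U U s = toA1U V ((f.appLE U V e).hom s) := by
  unfold toA1U
  rw [comp_toA1]
  congr 1
  have h1 : (f.resLE U V e).appTop = U.topIso.hom ≫ f.appLE U V e ≫ V.topIso.inv :=
    Scheme.Hom.resLE_app_top f e
  rw [h1]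
  change V.topIso.inv.hom ((f.appLE U V e).hom (U.topIso.hom.hom (U.topIso.inv.hom s))) = _
  rw [iso_inv_hom_apply]

end ToA1U

variable {S : Scheme.{u}} {H : Over S} [GrpObj H]

theorem appLE_congr_hom {X Y : Scheme.{u}} (f g : X ⟶ Y) (h : f = g) (U : Y.Opens) (V : X.Opens)
    (e₁ : V ≤ f ⁻¹ᵁ U) (e₂ : V ≤ g ⁻¹ᵁ U) : f.appLE U V e₁ = g.appLE U V e₂ := by
  subst h
  rfl

/-- sections over an open of the base of a principal bundle are the invariant sections over the preimage. -/
theorem IsPB.sections {P Q : Over S} {b : AlgGrp.Action H P} {q : P ⟶ Q} (hq : IsPB b q)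
    (U : Q.left.Opens) :
    Function.Injective (q.left.app U) ∧
      Set.range (q.left.app U) = {f | GIT.IsInvSection b q U f} := by
  -- the restricted bundle map, as a morphism of `Over S`
  have hWle : q.left ⁻¹ᵁ U ≤ q.left ⁻¹ᵁ U := le_rfl
  obtain ⟨v, hvdef⟩ : ∃ v : Over.mk ((q.left ⁻¹ᵁ U).ι ≫ P.hom) ⟶ Over.mk (U.ι ≫ Q.hom),
      v.left = q.left.resLE U (q.left ⁻¹ᵁ U) hWle :=
    ⟨Over.homMk (q.left.resLE U (q.left ⁻¹ᵁ U) hWle) (by
      change q.left.resLE U (q.left ⁻¹ᵁ U) hWle ≫ U.ι ≫ Q.hom = (q.left ⁻¹ᵁ U).ι ≫ P.hom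
      rw [← Category.assoc, Scheme.Hom.resLE_comp_ι, Category.assoc, Over.w]), rfl⟩
  have hvres : q.left.resLE U (q.left ⁻¹ᵁ U) hWle = q.left ∣_ U :=
    Scheme.Hom.resLE_eq_morphismRestrict q.left
  have hvflat : Flat v.left := by
    rw [hvdef, hvres]
    exact MorphismProperty.of_isPullback (P := @Flat) (isPullback_morphismRestrict q.left U).flip hq.flat
  have hvsurj : Surjective v.left := by
    rw [hvdef, hvres]
    exact MorphismProperty.of_isPullback (P := @Surjective) (isPullback_morphismRestrict q.left U).flip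
      hq.surj
  have hvqc : QuasiCompact v.left := by
    rw [hvdef, hvres]
    exact MorphismProperty.of_isPullback (P := @QuasiCompact) (isPullback_morphismRestrict q.left U).flip
      hq.qc
  have hloc := locTriv_of_fpqc v
  have hvepi : Epi v.left := Flat.epi_of_flat_of_surjective _
  have hkey : ∀ t : Γ(Q.left, U),
      v.left ≫ toA1U U t = toA1U _ ((q.left.appLE U (q.left ⁻¹ᵁ U) hWle).hom t) := by
    intro t
    rw [hvdef]
    exact resLE_comp_toA1U q.left U _ hWle t
  have happ' : ∀ t : Γ(Q.left, U),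
      (q.left.app U).hom t = (q.left.appLE U (q.left ⁻¹ᵁ U) hWle).hom t := by
    intro t
    rw [Scheme.Hom.app_eq_appLE]
  obtain ⟨M, hMdef⟩ : ∃ M : (H ⊗ P).left.Opens,
      M = b.act.left ⁻¹ᵁ (q.left ⁻¹ᵁ U) ⊓ (snd H P).left ⁻¹ᵁ (q.left ⁻¹ᵁ U) := ⟨_, rfl⟩
  have hM1 : M ≤ b.act.left ⁻¹ᵁ (q.left ⁻¹ᵁ U) := hMdef.le.trans inf_le_left
  have hM2 : M ≤ (snd H P).left ⁻¹ᵁ (q.left ⁻¹ᵁ U) := hMdef.le.trans inf_le_right
  have hinvdef : ∀ s : Γ(P.left, q.left ⁻¹ᵁ U), GIT.IsInvSection b q U s ↔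
      (b.act.left.appLE (q.left ⁻¹ᵁ U) M hM1).hom s =
        ((snd H P).left.appLE (q.left ⁻¹ᵁ U) M hM2).hom s := by
    intro s
    subst hMdef
    rfl
  have hwS : b.act.left ≫ q.left = (snd H P).left ≫ q.left := by
    rw [← Over.comp_left, ← Over.comp_left, hq.sq.w]
  constructor
  · intro t t' h
    have h' : (q.left.app U).hom t = (q.left.app U).hom t' := h
    apply toA1U_injective U
    rw [← cancel_epi v.left, hkey, hkey, ← happ', ← happ', h']
  · ext s
    constructor
    · rintro ⟨t, rfl⟩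
      rw [Set.mem_ofPred_eq, hinvdef]
      change (q.left.app U ≫ b.act.left.appLE _ M hM1).hom t =
        (q.left.app U ≫ (snd H P).left.appLE _ M hM2).hom t
      rw [← Scheme.Hom.comp_appLE, ← Scheme.Hom.comp_appLE]
      rw [appLE_congr_hom _ _ hwS]
    · intro hs
      rw [Set.mem_ofPred_eq, hinvdef] at hs
      have hinvM : b.act.left.resLE _ M hM1 ≫ toA1U _ s =
          (snd H P).left.resLE _ M hM2 ≫ toA1U _ s := by
        rw [resLE_comp_toA1U, resLE_comp_toA1U, hs]
      obtain ⟨φ, hφ⟩ := Groth.Agent.H40.PrincBundle.desc_scheme hloc (toA1U _ s) (by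
        intro T x x' hxx'
        obtain ⟨ιP, hιPdef⟩ : ∃ ιP : Over.mk ((q.left ⁻¹ᵁ U).ι ≫ P.hom) ⟶ P,
            ιP.left = (q.left ⁻¹ᵁ U).ι := ⟨Over.homMk (q.left ⁻¹ᵁ U).ι rfl, rfl⟩
        have hιq : (x ≫ ιP) ≫ q = (x' ≫ ιP) ≫ q := by
          apply Over.OverMorphism.ext
          have h1 := congrArg (fun m => m.left ≫ U.ι) hxx'
          simp only [Over.comp_left, hvdef, Category.assoc, Scheme.Hom.resLE_comp_ι] at h1
          simp only [Over.comp_left, hιPdef, Category.assoc]
          exact h1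
        obtain ⟨g, hg⟩ := sq_exists hq.sq (x ≫ ιP) (x' ≫ ιP) hιq
        obtain ⟨m, hmdef⟩ : ∃ m : T ⟶ H ⊗ P, m = lift g (x' ≫ ιP) := ⟨_, rfl⟩
        have hm1 : m ≫ b.act = x ≫ ιP := by rw [hmdef, hg]
        have hm2 : m ≫ snd H P = x' ≫ ιP := by rw [hmdef, lift_snd]
        have hrange : Set.range m.left.base ⊆ Set.range M.ι.base := by
          rw [Scheme.Opens.range_ι, hMdef]
          rintro _ ⟨t, rfl⟩
          constructor
          · change b.act.left.base (m.left.base t) ∈ (q.left ⁻¹ᵁ U : P.left.Opens)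
            rw [← Scheme.Hom.comp_apply, ← Over.comp_left, hm1, Over.comp_left, hιPdef,
              Scheme.Hom.comp_apply]
            exact (x.left.base t).2
          · change (snd H P).left.base (m.left.base t) ∈ (q.left ⁻¹ᵁ U : P.left.Opens)
            rw [← Scheme.Hom.comp_apply, ← Over.comp_left, hm2, Over.comp_left, hιPdef,
              Scheme.Hom.comp_apply]
            exact (x'.left.base t).2
        obtain ⟨m', hm'def⟩ : ∃ m' : T.left ⟶ (M : Scheme.{u}), m' ≫ M.ι = m.left :=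
          ⟨IsOpenImmersion.lift M.ι m.left hrange, IsOpenImmersion.lift_fac _ _ _⟩
        have hx : m' ≫ b.act.left.resLE _ M hM1 = x.left := by
          rw [← cancel_mono (q.left ⁻¹ᵁ U).ι, Category.assoc, Scheme.Hom.resLE_comp_ι,
            ← Category.assoc, hm'def, ← Over.comp_left, hm1, Over.comp_left, hιPdef]
        have hx' : m' ≫ (snd H P).left.resLE _ M hM2 = x'.left := by
          rw [← cancel_mono (q.left ⁻¹ᵁ U).ι, Category.assoc, Scheme.Hom.resLE_comp_ι,
            ← Category.assoc, hm'def, ← Over.comp_left, hm2, Over.comp_left, hιPdef]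
        rw [← hx, ← hx', Category.assoc, Category.assoc, hinvM])
      refine ⟨U.topIso.hom.hom (fn φ), ?_⟩
      change (q.left.app U).hom (U.topIso.hom.hom (fn φ)) = s
      rw [happ']
      have h1 := fn_comp v.left φ
      rw [hφ] at h1
      unfold toA1U at h1
      rw [fn_toA1, hvdef] at h1
      have h2 : (q.left.resLE U _ hWle).appTop =
          U.topIso.hom ≫ q.left.appLE U _ hWle ≫ (q.left ⁻¹ᵁ U).topIso.inv :=
        Scheme.Hom.resLE_app_top q.left hWle
      rw [h2] at h1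
      have h3 : (q.left ⁻¹ᵁ U).topIso.inv.hom s = (q.left ⁻¹ᵁ U).topIso.inv.hom
          ((q.left.appLE U _ hWle).hom (U.topIso.hom.hom (fn φ))) := h1
      rw [← iso_inv_hom_apply (q.left ⁻¹ᵁ U).topIso s, h3, iso_inv_hom_apply]

/-- **a principal bundle is a geometric quotient.** -/
theorem IsPB.isGeomQuot {P Q : Over S} {b : AlgGrp.Action H P} {q : P ⟶ Q} (hq : IsPB b q) :
    GIT.IsGeomQuot b q where
  inv := hq.sq.w
  surj := hq.surj.surj
  orbit := by
    have := hq.isIso_psiY hq.sq.w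
    exact (Scheme.Hom.surjective (GIT.PsiY b q hq.sq.w))
  subm := hq.isUnivSubmersive
  sections := hq.sections

end Groth.Agent.H40.PrincBundle
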