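import Groth.Agent.H51.QuotKerPre
import Groth.Agent.H50.Fppf
import Groth.Agent.H40.PrincBundle4

/-!
# An fppf sheaf quotient by a group action is a geometric quotient (helper40)

`IsLocQuot a q`: `q` is invariant, points of `Y` lift fppf-locally to `X`, and two points of `X` with the same
image in `Y` are fppf-locally in the same orbit.  `isLocQuot_of_isQuotient`: an fppf sheaf quotient has these
properties (through helper50/helper51's sheaf tools).  `IsLocQuot.isGeomQuot`: such a `q` is a geometric quotient.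
-/

set_option autoImplicit false
universe u
open CategoryTheory CategoryTheory.Limits AlgebraicGeometry MonoidalCategory CartesianMonoidalCategory
open MonObj Opposite

namespace Groth.Agent.H40.FppfQuot

variable {S : Scheme.{u}} {G X Y : Over S} [GrpObj G]

/-- pointwise (fppf-local) form of "q is a sheaf quotient of X by G". -/
structure IsLocQuot (a : AlgGrp.Action G X) (q : X ⟶ Y) : Prop where
  inv : a.act ≫ q = snd G X ≫ q
  lift : ∀ (T : Over S) (y : T ⟶ Y), ∃ Sg ∈ AlgSp.J S T, ∀ ⦃T' : Over S⦄ (f : T' ⟶ T), Sg f →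
    ∃ x : T' ⟶ X, x ≫ q = f ≫ y
  rel : ∀ (T : Over S) (x₁ x₂ : T ⟶ X), x₁ ≫ q = x₂ ≫ q → ∃ Sg ∈ AlgSp.J S T,
    ∀ ⦃T' : Over S⦄ (f : T' ⟶ T), Sg f → ∃ ρ : T' ⟶ G ⊗ X, ρ ≫ snd G X = f ≫ x₁ ∧ ρ ≫ a.act = f ≫ x₂

theorem orbit_equivalence (a : AlgGrp.Action G X) (T : Over S) :
    Equivalence (fun x y : T ⟶ X => ∃ r : T ⟶ G ⊗ X, r ≫ snd G X = x ∧ r ≫ a.act = y) := by
  refine ⟨fun x => ⟨lift 1 x, lift_snd _ _, AlgGrp.Action.lift_one_act a x⟩, ?_, ?_⟩
  · rintro x y ⟨r, h1, h2⟩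
    refine ⟨lift (r ≫ fst G X)⁻¹ y, lift_snd _ _, ?_⟩
    have hr : r = lift (r ≫ fst G X) x := by
      rw [← h1, ← comp_lift, lift_fst_snd, Category.comp_id]
    have h2' : lift (r ≫ fst G X) x ≫ a.act = y := by rw [← hr]; exact h2
    rw [← h2', ← AlgGrp.Action.lift_mul_act, inv_mul_cancel, AlgGrp.Action.lift_one_act]
  · rintro x y z ⟨r, h1, h2⟩ ⟨r', h1', h2'⟩
    refine ⟨lift ((r' ≫ fst G X) * (r ≫ fst G X)) x, lift_snd _ _, ?_⟩
    have hr : r = lift (r ≫ fst G X) x := by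
      rw [← h1, ← comp_lift, lift_fst_snd, Category.comp_id]
    have hr' : r' = lift (r' ≫ fst G X) y := by
      rw [← h1', ← comp_lift, lift_fst_snd, Category.comp_id]
    rw [AlgGrp.Action.lift_mul_act, ← hr, h2, ← hr', h2']

theorem isLocQuot_of_isQuotient (a : AlgGrp.Action G X) (q : X ⟶ Y)
    (hq : QuotSh.IsQuotient Scheme.fppfPrecoverage a.act (snd G X) q) : IsLocQuot a q := by
  obtain ⟨w, hiso⟩ := hq
  obtain ⟨δ, hδdef⟩ : ∃ δ : QuotSh.quot Scheme.fppfPrecoverage a.act (snd G X) ⟶ (AlgSp.yon S).obj Y,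
      δ = QuotSh.quotDesc Scheme.fppfPrecoverage q w ≫
        (QuotSh.repIsoUliftYoneda Scheme.fppfPrecoverage Y).hom := ⟨_, rfl⟩
  have hδiso : IsIso δ := by rw [hδdef]; infer_instance
  obtain ⟨qm, hqm⟩ : ∃ qm : (AlgSp.yon S).obj X ⟶ QuotSh.quot Scheme.fppfPrecoverage a.act (snd G X),
      qm = Groth.Agent.H51.QuotKer.qmap a.act (snd G X) := ⟨_, rfl⟩
  have hqmepi : Epi qm := by rw [hqm]; infer_instance
  have hkey : qm ≫ δ = (AlgSp.yon S).map q := by
    rw [hqm]
    have h1 : QuotSh.quotπ Scheme.fppfPrecoverage a.act (snd G X) ≫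
        QuotSh.quotDesc Scheme.fppfPrecoverage q w = QuotSh.repMap Scheme.fppfPrecoverage q :=
      coequalizer.π_desc _ _
    rw [hδdef, Category.assoc, ← Category.assoc (QuotSh.quotπ _ _ _), h1,
      Groth.Agent.H51.QuotKer.repIso_naturality, Iso.inv_hom_id_assoc]
  refine ⟨w, ?_, ?_⟩
  · intro T y
    obtain ⟨Sg, hSg, hl⟩ := Groth.Agent.H50.exists_local_lift qm ((AlgSp.yon S).map y ≫ inv δ)
    refine ⟨Sg, hSg, fun T' f hf => ?_⟩
    obtain ⟨x, hx⟩ := hl f hf
    obtain ⟨x₀, rfl⟩ := (AlgSp.yon S).map_surjective x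
    refine ⟨x₀, (AlgSp.yon S).map_injective ?_⟩
    rw [Functor.map_comp, ← hkey, ← Category.assoc, hx, Category.assoc, Category.assoc,
      IsIso.inv_hom_id, Category.comp_id, ← Functor.map_comp]
  · intro T x₁ x₂ h
    have h' : (AlgSp.yon S).map x₁ ≫ qm = (AlgSp.yon S).map x₂ ≫ qm := by
      rw [← cancel_mono δ, Category.assoc, Category.assoc, hkey, ← Functor.map_comp,
        ← Functor.map_comp, h]
    rw [hqm] at h'
    exact Groth.Agent.H51.QuotKer.exists_local_rel_qmap a.act (snd G X)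
      (orbit_equivalence a) x₁ x₂ h'

/-- a covering sieve of the big fppf site over `S` contains an fppf covering family of the underlying scheme. -/
theorem exists_fppf_presieve {T : Over S} {Sg : Sieve T} (hSg : Sg ∈ AlgSp.J S T) :
    ∃ R' ∈ Scheme.fppfPrecoverage T.left, ∀ ⦃Z : Scheme.{u}⦄ (f : Z ⟶ T.left), R' f →
      Sg (Over.homMk f rfl : Over.mk (f ≫ T.hom) ⟶ T) := by
  have : Scheme.fppfPrecoverage.{u}.HasIsos := by
    unfold Scheme.fppfPrecoverage
    have h1 : (@Flat ⊓ @LocallyOfFinitePresentation : MorphismProperty Scheme.{u}).ContainsIdentities :=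
      ⟨fun X => ⟨inferInstance, inferInstance⟩⟩
    have h2 : (@Flat ⊓ @LocallyOfFinitePresentation : MorphismProperty Scheme.{u}).RespectsIso :=
      inferInstance
    infer_instance
  rw [AlgSp.J_eq, GrothendieckTopology.mem_over_iff,
    Precoverage.mem_toGrothendieck_iff_of_isStableUnderComposition] at hSg
  obtain ⟨R', hR', hle⟩ := hSg
  refine ⟨R', hR', fun Z f hf => ?_⟩
  have := hle _ _ hf
  rwa [Sieve.overEquiv_iff] at this

variable {a : AlgGrp.Action G X} {q : X ⟶ Y}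

theorem IsLocQuot.surj (h : IsLocQuot a q) : Function.Surjective q.left.base := by
  intro τ
  obtain ⟨Sg, hSg, hl⟩ := h.lift Y (𝟙 Y)
  obtain ⟨T', g, hg, -, -, t', ht'⟩ := Groth.Agent.H50.exists_fppf_of_mem_J hSg τ
  obtain ⟨x, hx⟩ := hl g hg
  refine ⟨x.left.base t', ?_⟩
  rw [Category.comp_id] at hx
  rw [← hx] at ht'
  exact ht'

theorem IsLocQuot.orbit (h : IsLocQuot a q) :
    Function.Surjective (GIT.PsiY a q h.inv).base := by
  intro z
  obtain ⟨x₁, hx₁⟩ : ∃ x₁ : Over.mk (pullback.fst q.left q.left ≫ X.hom) ⟶ X,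
      x₁.left = pullback.snd q.left q.left :=
    ⟨Over.homMk (pullback.snd q.left q.left) (by
      change pullback.snd q.left q.left ≫ X.hom = pullback.fst q.left q.left ≫ X.hom
      rw [← Over.w q, ← Category.assoc, ← pullback.condition, Category.assoc]), rfl⟩
  obtain ⟨x₂, hx₂⟩ : ∃ x₂ : Over.mk (pullback.fst q.left q.left ≫ X.hom) ⟶ X,
      x₂.left = pullback.fst q.left q.left := ⟨Over.homMk (pullback.fst q.left q.left) rfl, rfl⟩
  have hx : x₁ ≫ q = x₂ ≫ q := by
    apply Over.OverMorphism.ext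
    rw [Over.comp_left, Over.comp_left, hx₁, hx₂, pullback.condition]
  obtain ⟨Sg, hSg, hl⟩ := h.rel _ x₁ x₂ hx
  obtain ⟨T', g, hg, -, -, t', ht'⟩ := Groth.Agent.H50.exists_fppf_of_mem_J hSg z
  obtain ⟨ρ, hρ1, hρ2⟩ := hl g hg
  refine ⟨ρ.left.base t', ?_⟩
  have hcomp : ρ.left ≫ GIT.PsiY a q h.inv = g.left := by
    apply pullback.hom_ext
    · rw [Category.assoc]
      unfold GIT.PsiY
      rw [pullback.lift_fst, ← Over.comp_left, hρ2, Over.comp_left, hx₂]
    · rw [Category.assoc]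
      unfold GIT.PsiY
      rw [pullback.lift_snd, ← Over.comp_left, hρ1, Over.comp_left, hx₁]
  rw [← Scheme.Hom.comp_apply, hcomp]
  exact ht'

theorem IsLocQuot.subm (h : IsLocQuot a q) : GIT.IsUnivSubmersive q.left := by
  intro X' Y' i₁ i₂ f' hsq
  obtain ⟨Sg, hSg, hl⟩ := h.lift (Over.mk (i₂ ≫ Y.hom)) (Over.homMk i₂ rfl)
  -- for each point, a flat lfp map through it with a lift to X'
  have hpt : ∀ τ : Y', ∃ (W : Scheme.{u}) (g : W ⟶ Y') (σ : W ⟶ X'), Flat g ∧
      LocallyOfFinitePresentation g ∧ σ ≫ f' = g ∧ ∃ t' : W, g.base t' = τ := by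
    intro τ
    obtain ⟨T', g, hg, hgf, hgp, t', ht'⟩ := Groth.Agent.H50.exists_fppf_of_mem_J hSg τ
    obtain ⟨x, hx⟩ := hl g hg
    have hx' : x.left ≫ q.left = g.left ≫ i₂ := by
      have := congrArg (fun m => m.left) hx
      simpa using this
    exact ⟨T'.left, g.left, hsq.lift g.left x.left hx'.symm, hgf, hgp, hsq.lift_fst _ _ _, t', ht'⟩
  change Topology.IsQuotientMap f'.base
  refine ⟨Topology.isCoinducing_iff.mpr fun V =>
    ⟨fun hV => ?_, fun hV => IsOpen.preimage f'.continuous hV⟩, ?_⟩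
  · rw [isOpen_iff_mem_nhds]
    intro τ hτ
    obtain ⟨W, g, σ, hgf, hgp, hσ, t', ht'⟩ := hpt τ
    have hopen : IsOpen (g.base '' (g.base ⁻¹' V)) := by
      apply g.isOpenMap
      have : g.base ⁻¹' V = σ.base ⁻¹' (f'.base ⁻¹' V) := by
        rw [← Set.preimage_comp, ← hσ]
        rfl
      rw [this]
      exact IsOpen.preimage σ.continuous hV
    refine Filter.mem_of_superset (hopen.mem_nhds ⟨t', ?_, ht'⟩) (Set.image_preimage_subset _ _)
    change g.base t' ∈ V
    rw [ht']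
    exact hτ
  · intro τ
    obtain ⟨W, g, σ, -, -, hσ, t', ht'⟩ := hpt τ
    refine ⟨σ.base t', ?_⟩
    rw [← Scheme.Hom.comp_apply, hσ]
    exact ht'

open Groth.Agent.H40.PrincBundle Groth.Agent.H40.FpqcFam in
theorem IsLocQuot.sections (h : IsLocQuot a q) (U : Y.left.Opens) :
    Function.Injective (q.left.app U) ∧
      Set.range (q.left.app U) = {f | GIT.IsInvSection a q U f} := by
  have hWle : q.left ⁻¹ᵁ U ≤ q.left ⁻¹ᵁ U := le_rfl
  obtain ⟨v, hvdef⟩ : ∃ v : Over.mk ((q.left ⁻¹ᵁ U).ι ≫ X.hom) ⟶ Over.mk (U.ι ≫ Y.hom),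
      v.left = q.left.resLE U (q.left ⁻¹ᵁ U) hWle :=
    ⟨Over.homMk (q.left.resLE U (q.left ⁻¹ᵁ U) hWle) (by
      change q.left.resLE U (q.left ⁻¹ᵁ U) hWle ≫ U.ι ≫ Y.hom = (q.left ⁻¹ᵁ U).ι ≫ X.hom
      rw [← Category.assoc, Scheme.Hom.resLE_comp_ι, Category.assoc, Over.w]), rfl⟩
  obtain ⟨ιP, hιPdef⟩ : ∃ ιP : Over.mk ((q.left ⁻¹ᵁ U).ι ≫ X.hom) ⟶ X,
      ιP.left = (q.left ⁻¹ᵁ U).ι := ⟨Over.homMk (q.left ⁻¹ᵁ U).ι rfl, rfl⟩
  obtain ⟨ιQ, hιQdef⟩ : ∃ ιQ : Over.mk (U.ι ≫ Y.hom) ⟶ Y, ιQ.left = U.ι :=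
    ⟨Over.homMk U.ι rfl, rfl⟩
  -- local sections of v
  have hloc : NonAbH1.IsLocallyTrivialFor Scheme.fpqcPrecoverage
      (Over.mk v.left : Over (Over.mk (U.ι ≫ Y.hom)).left) := by
    obtain ⟨Sg, hSg, hl⟩ := h.lift _ ιQ
    obtain ⟨R', hR', hR'Sg⟩ := exists_fppf_presieve hSg
    refine locTriv_fpqc_of_fppf ⟨R', hR', fun Z f hf => ?_⟩
    obtain ⟨x, hx⟩ := hl _ (hR'Sg f hf)
    have hx' : x.left ≫ q.left = f ≫ U.ι := by
      have := congrArg (fun m => m.left) hx
      simpa [hιQdef] using this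
    have hrange : Set.range x.left.base ⊆ Set.range (q.left ⁻¹ᵁ U).ι.base := by
      rw [Scheme.Opens.range_ι]
      rintro _ ⟨z, rfl⟩
      change q.left.base (x.left.base z) ∈ U
      rw [← Scheme.Hom.comp_apply, hx', Scheme.Hom.comp_apply]
      exact (f.base z).2
    refine ⟨IsOpenImmersion.lift (q.left ⁻¹ᵁ U).ι x.left hrange, ?_⟩
    change IsOpenImmersion.lift (q.left ⁻¹ᵁ U).ι x.left hrange ≫ v.left = f
    rw [← cancel_mono U.ι, Category.assoc, hvdef, Scheme.Hom.resLE_comp_ι, ← Category.assoc,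
      IsOpenImmersion.lift_fac, hx']
  obtain ⟨R₀, hR₀, hsec₀⟩ := hloc
  have hloc : NonAbH1.IsLocallyTrivialFor Scheme.fpqcPrecoverage
      (Over.mk v.left : Over (Over.mk (U.ι ≫ Y.hom)).left) := ⟨R₀, hR₀, hsec₀⟩
  have hvepi : Epi v.left := by
    constructor
    intro Z α β hαβ
    refine Groth.Agent.H40.FpqcFam.hom_ext hR₀ α β fun T' π hπ => ?_
    obtain ⟨σ, hσ⟩ := hsec₀ π hπ
    have hσ' : σ ≫ v.left = π := hσ
    rw [← hσ', Category.assoc, hαβ, Category.assoc]
  have hkey : ∀ t : Γ(Y.left, U),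
      v.left ≫ toA1U U t = toA1U _ ((q.left.appLE U (q.left ⁻¹ᵁ U) hWle).hom t) := by
    intro t
    rw [hvdef]
    exact resLE_comp_toA1U q.left U _ hWle t
  have happ' : ∀ t : Γ(Y.left, U),
      (q.left.app U).hom t = (q.left.appLE U (q.left ⁻¹ᵁ U) hWle).hom t := by
    intro t
    rw [Scheme.Hom.app_eq_appLE]
  obtain ⟨M, hMdef⟩ : ∃ M : (G ⊗ X).left.Opens,
      M = a.act.left ⁻¹ᵁ (q.left ⁻¹ᵁ U) ⊓ (snd G X).left ⁻¹ᵁ (q.left ⁻¹ᵁ U) := ⟨_, rfl⟩
  have hM1 : M ≤ a.act.left ⁻¹ᵁ (q.left ⁻¹ᵁ U) := hMdef.le.trans inf_le_left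
  have hM2 : M ≤ (snd G X).left ⁻¹ᵁ (q.left ⁻¹ᵁ U) := hMdef.le.trans inf_le_right
  have hinvdef : ∀ s : Γ(X.left, q.left ⁻¹ᵁ U), GIT.IsInvSection a q U s ↔
      (a.act.left.appLE (q.left ⁻¹ᵁ U) M hM1).hom s =
        ((snd G X).left.appLE (q.left ⁻¹ᵁ U) M hM2).hom s := by
    intro s
    subst hMdef
    rfl
  have hwS : a.act.left ≫ q.left = (snd G X).left ≫ q.left := by
    rw [← Over.comp_left, ← Over.comp_left, h.inv]
  constructor
  · intro t t' ht
    have h' : (q.left.app U).hom t = (q.left.app U).hom t' := ht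
    apply toA1U_injective U
    rw [← cancel_epi v.left, hkey, hkey, ← happ', ← happ', h']
  · ext s
    constructor
    · rintro ⟨t, rfl⟩
      rw [Set.mem_ofPred_eq, hinvdef]
      change (q.left.app U ≫ a.act.left.appLE _ M hM1).hom t =
        (q.left.app U ≫ (snd G X).left.appLE _ M hM2).hom t
      rw [← Scheme.Hom.comp_appLE, ← Scheme.Hom.comp_appLE]
      rw [appLE_congr_hom _ _ hwS]
    · intro hs
      rw [Set.mem_ofPred_eq, hinvdef] at hs
      have hinvM : a.act.left.resLE _ M hM1 ≫ toA1U _ s =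
          (snd G X).left.resLE _ M hM2 ≫ toA1U _ s := by
        rw [resLE_comp_toA1U, resLE_comp_toA1U, hs]
      obtain ⟨φ, hφ⟩ := Groth.Agent.H40.PrincBundle.desc_scheme hloc (toA1U _ s) (by
        intro T x x' hxx'
        have hιq : (x ≫ ιP) ≫ q = (x' ≫ ιP) ≫ q := by
          apply Over.OverMorphism.ext
          have h1 := congrArg (fun m => m.left ≫ U.ι) hxx'
          simp only [Over.comp_left, hvdef, Category.assoc, Scheme.Hom.resLE_comp_ι] at h1
          simp only [Over.comp_left, hιPdef, Category.assoc]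
          exact h1
        obtain ⟨Sg, hSg, hl⟩ := h.rel T (x ≫ ιP) (x' ≫ ιP) hιq
        obtain ⟨R', hR', hR'Sg⟩ := exists_fppf_presieve hSg
        refine Groth.Agent.H40.FpqcFam.hom_ext (Scheme.fppfPrecoverage_le_fpqcPrecoverage _ hR') _ _
          fun T' π hπ => ?_
        obtain ⟨m, hm2, hm1⟩ := hl _ (hR'Sg π hπ)
        have hm1' : m.left ≫ a.act.left = π ≫ x'.left ≫ (q.left ⁻¹ᵁ U).ι := by
          have := congrArg (fun m => m.left) hm1
          simpa [hιPdef] using this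
        have hm2' : m.left ≫ (snd G X).left = π ≫ x.left ≫ (q.left ⁻¹ᵁ U).ι := by
          have := congrArg (fun m => m.left) hm2
          simpa [hιPdef] using this
        have hrange : Set.range m.left.base ⊆ Set.range M.ι.base := by
          rw [Scheme.Opens.range_ι, hMdef]
          rintro _ ⟨z, rfl⟩
          constructor
          · change a.act.left.base (m.left.base z) ∈ (q.left ⁻¹ᵁ U : X.left.Opens)
            rw [← Scheme.Hom.comp_apply, hm1', Scheme.Hom.comp_apply, Scheme.Hom.comp_apply]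
            exact (x'.left.base (π.base z)).2
          · change (snd G X).left.base (m.left.base z) ∈ (q.left ⁻¹ᵁ U : X.left.Opens)
            rw [← Scheme.Hom.comp_apply, hm2', Scheme.Hom.comp_apply, Scheme.Hom.comp_apply]
            exact (x.left.base (π.base z)).2
        obtain ⟨m', hm'def⟩ : ∃ m' : T' ⟶ (M : Scheme.{u}), m' ≫ M.ι = m.left :=
          ⟨IsOpenImmersion.lift M.ι m.left hrange, IsOpenImmersion.lift_fac _ _ _⟩
        have hx' : m' ≫ a.act.left.resLE _ M hM1 = π ≫ x'.left := by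
          rw [← cancel_mono (q.left ⁻¹ᵁ U).ι, Category.assoc, Scheme.Hom.resLE_comp_ι,
            ← Category.assoc, hm'def, hm1', Category.assoc]
        have hx : m' ≫ (snd G X).left.resLE _ M hM2 = π ≫ x.left := by
          rw [← cancel_mono (q.left ⁻¹ᵁ U).ι, Category.assoc, Scheme.Hom.resLE_comp_ι,
            ← Category.assoc, hm'def, hm2', Category.assoc]
        rw [← Category.assoc, ← hx, ← Category.assoc, ← hx', Category.assoc, Category.assoc, hinvM])
      refine ⟨U.topIso.hom.hom (fn φ), ?_⟩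
      change (q.left.app U).hom (U.topIso.hom.hom (fn φ)) = s
      rw [happ']
      have h1 := fn_comp v.left φ
      rw [hφ] at h1
      unfold toA1U at h1
      rw [fn_toA1, hvdef] at h1
      have h2 : (q.left.resLE U _ hWle).appTop =
          U.topIso.hom ≫ q.left.appLE U _ hWle ≫ (q.left ⁻¹ᵁ U).topIso.inv :=
        Scheme.Hom.resLE_app_top q.left hWle
      rw [h2] at h1
      have h3 : (q.left ⁻¹ᵁ U).topIso.inv.hom s = (q.left ⁻¹ᵁ U).topIso.inv.hom
          ((q.left.appLE U _ hWle).hom (U.topIso.hom.hom (fn φ))) := h1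
      rw [← iso_inv_hom_apply (q.left ⁻¹ᵁ U).topIso s, h3, iso_inv_hom_apply]

/-- **an fppf-local quotient by a group action is a geometric quotient.** -/
theorem IsLocQuot.isGeomQuot (h : IsLocQuot a q) : GIT.IsGeomQuot a q where
  inv := h.inv
  surj := h.surj
  orbit := h.orbit
  subm := h.subm
  sections := h.sections

end Groth.Agent.H40.FppfQuot
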