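import Mathlib
import Groth.Agent.H48.FppfSource
import Groth.Agent.H48.StalkLocal2
import Groth.Agent.H52.SrcAlg

/-!
# Source descent of unramified / locally quasi-finite along fppf covers (helper40)
-/

set_option autoImplicit false
universe u

open CategoryTheory AlgebraicGeometry

namespace Groth.Agent.H40.FppfSrcUnram

/-- Formal unramifiedness (for locally finite type morphisms) descends along a flat surjective
cover of the source. -/
theorem formallyUnramified_of_comp_flat_surjective {X Y S : Scheme.{u}} (p : X ⟶ Y) (h : Y ⟶ S)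
    [Surjective p] [Flat p] [LocallyOfFiniteType h] [LocallyOfFiniteType (p ≫ h)]
    [FormallyUnramified (p ≫ h)] : FormallyUnramified h := by
  have key : ∀ y : Y, ∃ U : Y.Opens, y ∈ U ∧ FormallyUnramified (U.ι ≫ h) := by
    intro y
    obtain ⟨x, rfl⟩ := p.surjective y
    rw [Groth.Agent.H48.unramified_nhd_iff h (p x)]
    have h1 : ((p ≫ h).stalkMap x).hom.FormallyUnramified := FormallyUnramified.stalkMap _ x
    have h2 : ((p ≫ h).stalkMap x).hom.EssFiniteType := LocallyOfFiniteType.stalkMap _ x
    have h3 : (h.stalkMap (p x)).hom.EssFiniteType := LocallyOfFiniteType.stalkMap _ _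
    have h4 : (p.stalkMap x).hom.Flat := Flat.stalkMap _ x
    rw [Scheme.Hom.stalkMap_comp] at h1 h2
    exact Groth.Agent.H48.ringHom_formallyUnramified_of_comp_flat_local
      (h.stalkMap (p x)).hom (p.stalkMap x).hom h4 h1 h2 h3
  choose U hyU hU using key
  refine IsZariskiLocalAtSource.of_iSup_eq_top (P := @FormallyUnramified) U ?_ hU
  rw [eq_top_iff]
  intro y _
  exact TopologicalSpace.Opens.mem_iSup.mpr ⟨y, hyU y⟩

/-- Local quasi-finiteness descends along an fppf cover of the source. -/
theorem locallyQuasiFinite_of_comp_fppf {X Y S : Scheme.{u}} (f : X ⟶ Y) (q : Y ⟶ S)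
    [Surjective f] [Flat f] [LocallyOfFinitePresentation f] [LocallyQuasiFinite (f ≫ q)] :
    LocallyQuasiFinite q :=
  Groth.Agent.H48.FppfSource.of_comp_fppf (P := @LocallyQuasiFinite)
    (RingHom.QuasiFinite.stableUnderComposition.stableUnderCompositionWithLocalizationAway
      RingHom.QuasiFinite.holdsForLocalizationAway).1
    (fun α β hfl _ hs hc => by
      refine RingHom.QuasiFinite.of_comp_faithfullyFlat α β ?_ hc
      algebraize [β]
      have : Module.Flat _ _ := hfl
      exact Module.FaithfullyFlat.of_comap_surjective hs) f q inferInstance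

end Groth.Agent.H40.FppfSrcUnram
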