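import Groth.Agent.H40.LocSurj2
import Groth.Agent.S0083

/-!
# Descent of properties of morphisms along fpqc covering families; composition of local sections (helper40)
-/

set_option autoImplicit false
universe u
open CategoryTheory CategoryTheory.Limits AlgebraicGeometry MonoidalCategory CartesianMonoidalCategory
open MonObj

namespace Groth.Agent.H40.FpqcFam

/-- a property which is Zariski local on the target and descends along quasi-compact flat surjections descends along fpqc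
covering families (flexible form of helper62's `S12496.result`). -/
theorem desc_along_fpqc (P : MorphismProperty Scheme.{u}) [IsZariskiLocalAtTarget P]
    (hP : P.DescendsAlong (@Surjective ⊓ @Flat ⊓ @QuasiCompact : MorphismProperty Scheme.{u}))
    {X₀ Y₀ : Scheme.{u}} (f : X₀ ⟶ Y₀) {R : Presieve Y₀} (hR : R ∈ Scheme.fpqcPrecoverage Y₀)
    (h : ∀ ⦃T : Scheme.{u}⦄ (g : T ⟶ Y₀), R g → ∃ (W : Scheme.{u}) (a : W ⟶ X₀) (b : W ⟶ T),
      IsPullback a b f g ∧ P b) : P f := by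
  obtain ⟨𝒰, h𝒰⟩ := Precoverage.mem_iff_exists_zeroHypercover.mp hR
  refine Groth.Agent.S12496.result P hP f 𝒰 fun i => ?_
  have hi : R (𝒰.f i) := by rw [h𝒰]; exact Presieve.ofArrows.mk i
  obtain ⟨W, a, b, hpb, hb⟩ := h _ hi
  rw [← hpb.isoPullback_hom_snd] at hb
  exact (P.cancel_left_of_respectsIso _ _).mp hb

theorem isClosedImmersion_desc_along_fpqc {X₀ Y₀ : Scheme.{u}} (f : X₀ ⟶ Y₀) {R : Presieve Y₀}
    (hR : R ∈ Scheme.fpqcPrecoverage Y₀)
    (h : ∀ ⦃T : Scheme.{u}⦄ (g : T ⟶ Y₀), R g → ∃ (W : Scheme.{u}) (a : W ⟶ X₀) (b : W ⟶ T),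
      IsPullback a b f g ∧ IsClosedImmersion b) : IsClosedImmersion f :=
  desc_along_fpqc @IsClosedImmersion Groth.Agent.S0083.result f hR h

variable {S : Scheme.{u}}

theorem locTriv_comp {A B C : Over S} {f : A ⟶ B} {g : B ⟶ C}
    (hf : NonAbH1.IsLocallyTrivialFor Scheme.fpqcPrecoverage (Over.mk f.left : Over B.left))
    (hg : NonAbH1.IsLocallyTrivialFor Scheme.fpqcPrecoverage (Over.mk g.left : Over C.left)) :
    NonAbH1.IsLocallyTrivialFor Scheme.fpqcPrecoverage (Over.mk (f ≫ g).left : Over C.left) := by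
  obtain ⟨R₁, hR₁, hsec₁⟩ := hf
  obtain ⟨R₂, hR₂, hsec₂⟩ := hg
  refine isLocallyTrivialFor_of_local hR₂ fun S' p hp => ?_
  obtain ⟨s, hs⟩ := hsec₂ p hp
  have hs' : s ≫ g.left = p := hs
  refine ⟨R₁.pullbackArrows s, Precoverage.pullbackArrows_mem s hR₁, ?_⟩
  rintro W w ⟨Z₀, r, hr⟩
  obtain ⟨t, ht⟩ := hsec₁ r hr
  have ht' : t ≫ f.left = r := ht
  refine ⟨pullback.fst r s ≫ t, ?_⟩
  change (pullback.fst r s ≫ t) ≫ (f ≫ g).left = pullback.snd r s ≫ p
  rw [Over.comp_left, Category.assoc, ← Category.assoc t, ht', ← Category.assoc,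
    pullback.condition, Category.assoc, hs']

theorem locTriv_tensorHom {E P : Over S} {v : E ⟶ P}
    (hloc : NonAbH1.IsLocallyTrivialFor Scheme.fpqcPrecoverage (Over.mk v.left : Over P.left)) :
    NonAbH1.IsLocallyTrivialFor Scheme.fpqcPrecoverage
      (Over.mk (v ⊗ₘ v).left : Over (P ⊗ P).left) := by
  rw [tensorHom_def]
  exact locTriv_comp (locTriv_whiskerRight hloc E) (locTriv_whiskerLeft hloc P)

/-- the covering hypothesis of SGA 3 IV gives fpqc-local sections. -/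
theorem locTriv_of_cov {X Y : Over S} (p : X ⟶ Y)
    (hcov : ∃ (Z₀ : Scheme.{u}) (q : Z₀ ⟶ Y.left) (r : Z₀ ⟶ X.left), r ≫ p.left = q ∧
      Surjective q ∧ Flat q ∧ ∀ V : Y.left.Opens, IsAffineOpen V →
        ∃ W : Z₀.Opens, IsCompact (W : Set Z₀) ∧ q.base '' (W : Set Z₀) = (V : Set Y.left)) :
    NonAbH1.IsLocallyTrivialFor Scheme.fpqcPrecoverage (Over.mk p.left : Over Y.left) := by
  obtain ⟨Z₁, q, r, hrq, hqs, hqf, hqc⟩ := hcov
  refine ⟨Presieve.singleton q, singleton_mem_fpqc q hqc, ?_⟩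
  rintro S' f ⟨⟩
  exact ⟨r, hrq⟩

end Groth.Agent.H40.FpqcFam
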