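import Groth.Agent.H40.FpqcFam
import Mathlib.AlgebraicGeometry.GammaSpecAdjunction

/-!
# Invariant morphisms descend along fpqc torsors; functions as morphisms to the affine line (helper40)
-/

set_option autoImplicit false
universe u
open CategoryTheory CategoryTheory.Limits AlgebraicGeometry MonoidalCategory CartesianMonoidalCategory
open MonObj

namespace Groth.Agent.H40.FpqcFam

section Glue

variable {T : Scheme.{u}} {R : Presieve T}

theorem exists_glue (hR : R ∈ Scheme.fpqcPrecoverage T) {Z : Scheme.{u}}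
    (y : ∀ ⦃T' : Scheme.{u}⦄ (π : T' ⟶ T), R π → (T' ⟶ Z))
    (hc : ∀ ⦃T₁ T₂ W : Scheme.{u}⦄ (g₁ : W ⟶ T₁) (g₂ : W ⟶ T₂) (π₁ : T₁ ⟶ T) (π₂ : T₂ ⟶ T)
      (h₁ : R π₁) (h₂ : R π₂), g₁ ≫ π₁ = g₂ ≫ π₂ → g₁ ≫ y π₁ h₁ = g₂ ≫ y π₂ h₂) :
    ∃ s : T ⟶ Z, ∀ ⦃T' : Scheme.{u}⦄ (π : T' ⟶ T) (h : R π), π ≫ s = y π h := by
  let fam : Presieve.FamilyOfElements (yoneda.obj Z) R := fun T' π hπ => y π hπ
  have hcomp : fam.Compatible := by
    intro Y₁ Y₂ W g₁ g₂ f₁ f₂ h₁ h₂ e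
    exact hc g₁ g₂ f₁ f₂ h₁ h₂ e
  obtain ⟨s, hs, -⟩ := isSheafFor_yoneda hR Z fam hcomp
  exact ⟨s, fun T' π hπ => hs π hπ⟩

end Glue

section Inv

variable {S : Scheme.{u}} {G X : Over S} [GrpObj G] {a : AlgGrp.Action G X}

theorem inv_const (hps : NonAbH1.IsPseudoTorsorSch a) {Z : Scheme.{u}} (φ : X.left ⟶ Z)
    (hφ : a.act.left ≫ φ = (snd G X).left ≫ φ) {W : Over S} (x₁ x₂ : W ⟶ X) :
    x₁.left ≫ φ = x₂.left ≫ φ := by
  obtain ⟨g, hg, -⟩ := ptTriv_of_pseudoTorsor hps x₂ W (𝟙 _) x₁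
  rw [Category.id_comp] at hg
  rw [← hg, Over.comp_left, Category.assoc, hφ, ← Category.assoc, ← Over.comp_left, lift_snd]

/-- `X ⟶ S` is a categorical quotient of an fpqc torsor: invariant morphisms descend. -/
theorem exists_desc_of_invariant (ha : NonAbH1.IsTorsorFor Scheme.fpqcPrecoverage a)
    {Z : Scheme.{u}} (φ : X.left ⟶ Z) (hφ : a.act.left ≫ φ = (snd G X).left ≫ φ) :
    ∃ ψ : S ⟶ Z, X.hom ≫ ψ = φ := by
  obtain ⟨hps, R, hR, hsec⟩ := ha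
  choose σ hσ using hsec
  obtain ⟨ψ, hψ⟩ := exists_glue hR (fun T' π hπ => σ π hπ ≫ φ) (by
    intro T₁ T₂ W g₁ g₂ π₁ π₂ h₁ h₂ e
    have := inv_const hps φ hφ (W := Over.mk (g₁ ≫ π₁))
      (Over.homMk (g₁ ≫ σ π₁ h₁) (by simp [hσ])) (Over.homMk (g₂ ≫ σ π₂ h₂) (by simp [hσ, e]))
    simpa using this)
  refine ⟨ψ, hom_ext (Precoverage.pullbackArrows_mem X.hom hR) _ _ ?_⟩
  rintro T' π ⟨Z', p, hp⟩
  have h1 : pullback.snd p X.hom ≫ X.hom ≫ ψ = pullback.fst p X.hom ≫ σ p hp ≫ φ := by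
    rw [← Category.assoc, ← pullback.condition, Category.assoc, hψ p hp]
  have h2 := inv_const hps φ hφ (W := Over.mk (pullback.snd p X.hom ≫ X.hom))
    (Over.homMk (pullback.snd p X.hom) rfl)
    (Over.homMk (pullback.fst p X.hom ≫ σ p hp) (by simp [hσ, pullback.condition]))
  rw [h1]
  simpa using h2.symm

/-- `X ⟶ S` is an epimorphism-like: morphisms out of `S` are determined on `X`. -/
theorem hom_ext_of_torsor (hloc : NonAbH1.IsLocallyTrivialFor Scheme.fpqcPrecoverage X)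
    {Z : Scheme.{u}} (ψ ψ' : S ⟶ Z) (h : X.hom ≫ ψ = X.hom ≫ ψ') : ψ = ψ' := by
  obtain ⟨R, hR, hsec⟩ := hloc
  refine hom_ext hR _ _ fun T' π hπ => ?_
  obtain ⟨σ, hσ⟩ := hsec π hπ
  rw [← hσ, Category.assoc, Category.assoc, h]

end Inv

section Fn

/-- the affine line over `ℤ` in universe `u`. -/
noncomputable abbrev A1 : Scheme.{u} := Spec (CommRingCat.of (Polynomial (ULift.{u} ℤ)))

/-- evaluation `ℤ[t] ⟶ R`, `t ↦ s`. -/
noncomputable def ev {R : CommRingCat.{u}} (s : R) : CommRingCat.of (Polynomial (ULift.{u} ℤ)) ⟶ R :=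
  CommRingCat.ofHom (Polynomial.eval₂RingHom
    ((Int.castRingHom R).comp (ULift.ringEquiv : ULift.{u} ℤ ≃+* ℤ).toRingHom) s)

theorem ev_X {R : CommRingCat.{u}} (s : R) : (ev s).hom Polynomial.X = s := by
  simp [ev]

theorem ulift_hom_ext {R' : Type u} [Ring R'] (k₁ k₂ : ULift.{u} ℤ →+* R') : k₁ = k₂ := by
  refine RingHom.ext fun c => ?_
  have := DFunLike.congr_fun (RingHom.ext_int
    (k₁.comp (ULift.ringEquiv : ULift.{u} ℤ ≃+* ℤ).symm.toRingHom)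
    (k₂.comp (ULift.ringEquiv : ULift.{u} ℤ ≃+* ℤ).symm.toRingHom)) c.down
  exact this

theorem ev_comp {R R' : CommRingCat.{u}} (f : R ⟶ R') (s : R) : ev s ≫ f = ev (f.hom s) := by
  apply CommRingCat.hom_ext
  apply Polynomial.ringHom_ext
  · intro c
    exact DFunLike.congr_fun (ulift_hom_ext ((ev s ≫ f).hom.comp Polynomial.C)
      ((ev (f.hom s)).hom.comp Polynomial.C)) c
  · rw [ev_X, CommRingCat.hom_comp, RingHom.comp_apply, ev_X]

/-- the morphism to the affine line of a global function. -/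
noncomputable def toA1 {Y : Scheme.{u}} (s : Γ(Y, ⊤)) : Y ⟶ A1.{u} := Y.toSpecΓ ≫ Spec.map (ev s)

/-- the global function of a morphism to the affine line. -/
noncomputable def fn {Y : Scheme.{u}} (ψ : Y ⟶ A1.{u}) : Γ(Y, ⊤) :=
  ψ.appTop.hom ((Scheme.ΓSpecIso (CommRingCat.of (Polynomial (ULift.{u} ℤ)))).inv.hom Polynomial.X)

theorem comp_toA1 {Y Y' : Scheme.{u}} (g : Y' ⟶ Y) (s : Γ(Y, ⊤)) :
    g ≫ toA1 s = toA1 (g.appTop.hom s) := by
  unfold toA1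
  rw [← Category.assoc, Scheme.toSpecΓ_naturality, Category.assoc, ← Spec.map_comp, ev_comp]

theorem fn_comp {Y Y' : Scheme.{u}} (g : Y' ⟶ Y) (ψ : Y ⟶ A1.{u}) :
    fn (g ≫ ψ) = g.appTop.hom (fn ψ) := by
  unfold fn
  rw [Scheme.Hom.comp_appTop]
  rfl

theorem fn_toA1 {Y : Scheme.{u}} (s : Γ(Y, ⊤)) : fn (toA1 s) = s := by
  unfold fn toA1
  rw [Scheme.Hom.comp_appTop, Scheme.toSpecΓ_appTop]
  have h := Scheme.ΓSpecIso_naturality (ev s)
  have h2 : ((Spec.map (ev s)).appTop ≫ (Scheme.ΓSpecIso Γ(Y, ⊤)).hom).hom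
      ((Scheme.ΓSpecIso (CommRingCat.of (Polynomial (ULift.{u} ℤ)))).inv.hom Polynomial.X) = s := by
    rw [h]
    have h3 : ((Scheme.ΓSpecIso (CommRingCat.of (Polynomial (ULift.{u} ℤ)))).hom ≫ ev s).hom
        ((Scheme.ΓSpecIso (CommRingCat.of (Polynomial (ULift.{u} ℤ)))).inv.hom Polynomial.X) =
        (ev s).hom Polynomial.X := by simp
    rw [h3, ev_X]
  exact h2

theorem toA1_injective {Y : Scheme.{u}} {s s' : Γ(Y, ⊤)} (h : toA1 s = toA1 s') : s = s' := by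
  rw [← fn_toA1 s, h, fn_toA1]

end Fn

end Groth.Agent.H40.FpqcFam
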