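import Groth.Agent.H40.FpqcInv
import Groth.Agent.H40.GrpFun

/-!
# Morphisms defined fpqc-locally on a torsor; the division map of a pseudo-torsor (helper40)

* `exists_desc_snd`: for an fpqc `G`-torsor `X` over `S`, a morphism `ψ : X ⊗ Y ⟶ Z` which does not depend on the
  `X`-variable up to the action (`ψ(g x, y) = ψ(x, y)`) factors through `snd X Y`; `snd_cancel`: uniqueness.
* `dv hps : X ⊗ X ⟶ G`: the division map `(x, y) ↦ g` with `g • y = x` of a pseudo-torsor, with its calculus on points.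
-/

set_option autoImplicit false
universe u
open CategoryTheory CategoryTheory.Limits AlgebraicGeometry MonoidalCategory CartesianMonoidalCategory
open MonObj

namespace Groth.Agent.H40.FpqcFam

variable {S : Scheme.{u}} {G X : Over S} [GrpObj G] {a : AlgGrp.Action G X}

section Cancel

theorem snd_cancel (hloc : NonAbH1.IsLocallyTrivialFor Scheme.fpqcPrecoverage X) {Y₀ Z₀ : Over S}
    (φ φ' : Y₀ ⟶ Z₀) (h : snd X Y₀ ≫ φ = snd X Y₀ ≫ φ') : φ = φ' := by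
  obtain ⟨R', hR', hσ⟩ := exists_cover_sections hloc Y₀
  refine over_hom_ext hR' φ φ' fun T' π hπ => ?_
  obtain ⟨σ⟩ := hσ π hπ
  have := congrArg (fun m => lift σ (ovHom Y₀ π) ≫ m) h
  simpa using this

theorem const_of_invariant (hps : NonAbH1.IsPseudoTorsorSch a) {Y₀ Z₀ : Over S} (ψ : X ⊗ Y₀ ⟶ Z₀)
    (hψ : ∀ (T : Over S) (g : T ⟶ G) (x : T ⟶ X) (y : T ⟶ Y₀),
      lift (lift g x ≫ a.act) y ≫ ψ = lift x y ≫ ψ)
    {T : Over S} (x₁ x₂ : T ⟶ X) (y : T ⟶ Y₀) : lift x₁ y ≫ ψ = lift x₂ y ≫ ψ := by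
  obtain ⟨g, hg, -⟩ := ptTriv_of_pseudoTorsor hps x₂ T (𝟙 _) x₁
  rw [Category.id_comp] at hg
  rw [← hg, hψ]

theorem exists_desc_snd (ha : NonAbH1.IsTorsorFor Scheme.fpqcPrecoverage a) {Y₀ Z₀ : Over S}
    (ψ : X ⊗ Y₀ ⟶ Z₀)
    (hψ : ∀ (T : Over S) (g : T ⟶ G) (x : T ⟶ X) (y : T ⟶ Y₀),
      lift (lift g x ≫ a.act) y ≫ ψ = lift x y ≫ ψ) :
    ∃ φ : Y₀ ⟶ Z₀, snd X Y₀ ≫ φ = ψ := by
  obtain ⟨hps, hloc⟩ := ha
  have hconst := fun (T : Over S) (x₁ x₂ : T ⟶ X) (y : T ⟶ Y₀) =>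
    const_of_invariant hps ψ hψ x₁ x₂ y
  obtain ⟨R', hR', hσ⟩ := exists_cover_sections hloc Y₀
  have σ : ∀ ⦃T' : Scheme.{u}⦄ (π : T' ⟶ Y₀.left), R' π → (ov Y₀ π ⟶ X) :=
    fun T' π hπ => (hσ π hπ).some
  obtain ⟨φ₀, hφ₀⟩ := exists_glue hR'
    (fun T' π hπ => (lift (σ π hπ) (ovHom Y₀ π) ≫ ψ).left) (by
    intro T₁ T₂ W g₁ g₂ π₁ π₂ h₁ h₂ e
    let W₁ : Over S := Over.mk (g₁ ≫ π₁ ≫ Y₀.hom)
    let γ₁ : W₁ ⟶ ov Y₀ π₁ := Over.homMk g₁ rfl
    let γ₂ : W₁ ⟶ ov Y₀ π₂ := Over.homMk g₂ (by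
      change g₂ ≫ π₂ ≫ Y₀.hom = g₁ ≫ π₁ ≫ Y₀.hom
      rw [← Category.assoc, ← e, Category.assoc])
    have e' : γ₁ ≫ ovHom Y₀ π₁ = γ₂ ≫ ovHom Y₀ π₂ := Over.OverMorphism.ext e
    have h3 : γ₁ ≫ lift (σ π₁ h₁) (ovHom Y₀ π₁) ≫ ψ = γ₂ ≫ lift (σ π₂ h₂) (ovHom Y₀ π₂) ≫ ψ := by
      rw [← Category.assoc, ← Category.assoc, comp_lift, comp_lift, ← e']
      exact hconst _ _ _ _
    exact congrArg (fun m => m.left) h3)
  have hφZ : φ₀ ≫ Z₀.hom = Y₀.hom := by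
    refine hom_ext hR' _ _ fun T' π hπ => ?_
    rw [← Category.assoc, hφ₀ π hπ, Over.w]
    rfl
  let φ : Y₀ ⟶ Z₀ := Over.homMk φ₀ hφZ
  have hφ : ∀ ⦃T' : Scheme.{u}⦄ (π : T' ⟶ Y₀.left) (hπ : R' π),
      ovHom Y₀ π ≫ φ = lift (σ π hπ) (ovHom Y₀ π) ≫ ψ := fun T' π hπ =>
    Over.OverMorphism.ext (hφ₀ π hπ)
  refine ⟨φ, ?_⟩
  apply AlgGrp.Action.hom_ext_lift₂
  intro T x y
  rw [← Category.assoc, lift_snd]
  refine over_hom_ext (Precoverage.pullbackArrows_mem y.left hR') _ _ ?_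
  rintro T'' π' ⟨Z₀', p, hp⟩
  let β : ov T (pullback.snd p y.left) ⟶ ov Y₀ p := Over.homMk (pullback.fst p y.left) (by
    change pullback.fst p y.left ≫ p ≫ Y₀.hom = pullback.snd p y.left ≫ T.hom
    rw [← Category.assoc, pullback.condition, Category.assoc, Over.w y])
  have hβ : β ≫ ovHom Y₀ p = ovHom T (pullback.snd p y.left) ≫ y :=
    Over.OverMorphism.ext pullback.condition
  rw [← Category.assoc, ← hβ, Category.assoc, hφ p hp, ← Category.assoc, comp_lift, hβ,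
    ← Category.assoc, comp_lift]
  exact hconst _ _ _ _

end Cancel

section Dv

/-- the division map `(x, y) ↦ g` with `g • y = x`. -/
noncomputable def dv (hps : NonAbH1.IsPseudoTorsorSch a) : X ⊗ X ⟶ G :=
  haveI : IsIso (lift a.act (snd G X)) := hps
  inv (lift a.act (snd G X)) ≫ fst G X

theorem dv_act (hps : NonAbH1.IsPseudoTorsorSch a) {T : Over S} (x y : T ⟶ X) : lift (lift x y ≫ dv hps) y ≫ a.act = x := by
  have : IsIso (lift a.act (snd G X)) := hps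
  unfold dv
  exact act_inv_shear x y

theorem dv_of_act (hps : NonAbH1.IsPseudoTorsorSch a) {T : Over S} (h : T ⟶ G) (y : T ⟶ X) :
    lift (lift h y ≫ a.act) y ≫ dv hps = h := by
  have : IsIso (lift a.act (snd G X)) := hps
  unfold dv
  rw [← Category.assoc, lift_inv_shear, lift_fst]

theorem act_free (hps : NonAbH1.IsPseudoTorsorSch a) {T : Over S} (g g' : T ⟶ G) (x : T ⟶ X)
    (e : lift g x ≫ a.act = lift g' x ≫ a.act) : g = g' := by
  rw [← dv_of_act hps g x, e, dv_of_act]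

theorem dv_self (hps : NonAbH1.IsPseudoTorsorSch a) {T : Over S} (y : T ⟶ X) : lift y y ≫ dv hps = 1 := by
  have := dv_of_act hps (1 : T ⟶ G) y
  rwa [AlgGrp.Action.lift_one_act] at this

theorem dv_act_left (hps : NonAbH1.IsPseudoTorsorSch a) {T : Over S} (g : T ⟶ G) (x y : T ⟶ X) :
    lift (lift g x ≫ a.act) y ≫ dv hps = g * (lift x y ≫ dv hps) := by
  apply act_free hps _ _ y
  rw [dv_act, AlgGrp.Action.lift_mul_act, dv_act]

theorem dv_act_right (hps : NonAbH1.IsPseudoTorsorSch a) {T : Over S} (h : T ⟶ G) (x y : T ⟶ X) :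
    lift x (lift h y ≫ a.act) ≫ dv hps = (lift x y ≫ dv hps) * h⁻¹ := by
  apply act_free hps _ _ (lift h y ≫ a.act)
  rw [dv_act, ← AlgGrp.Action.lift_mul_act, inv_mul_cancel_right, dv_act]

end Dv

section Equiv

variable {G' X' : Over S} [GrpObj G'] {a' : AlgGrp.Action G' X'}

/-- points form of `φ`-equivariance. -/
theorem equiv_pts {φ : G ⟶ G'} {f : X ⟶ X'}
    (h : a.act ≫ f = lift (fst G X ≫ φ) (snd G X ≫ f) ≫ a'.act) {T : Over S} (g : T ⟶ G)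
    (x : T ⟶ X) : (lift g x ≫ a.act) ≫ f = lift (g ≫ φ) (x ≫ f) ≫ a'.act := by
  rw [Category.assoc, h, ← Category.assoc, comp_lift, ← Category.assoc, ← Category.assoc,
    lift_fst, lift_snd]

theorem equiv_of_pts {φ : G ⟶ G'} {f : X ⟶ X'}
    (h : ∀ (T : Over S) (g : T ⟶ G) (x : T ⟶ X),
      (lift g x ≫ a.act) ≫ f = lift (g ≫ φ) (x ≫ f) ≫ a'.act) :
    a.act ≫ f = lift (fst G X ≫ φ) (snd G X ≫ f) ≫ a'.act := by
  apply AlgGrp.Action.hom_ext_lift₂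
  intro T g x
  rw [← Category.assoc, h, ← Category.assoc, comp_lift, ← Category.assoc, ← Category.assoc,
    lift_fst, lift_snd]

end Equiv

end Groth.Agent.H40.FpqcFam
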