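import Groth.Agent.H40.FpqcMap

/-!
# Sub-actions, fibres over a section, composition of fpqc coverings (helper40)

* `pseudoTorsor_of_pts`: an action which is simply transitive on `T`-points for all `T` is a pseudo-torsor.
* `subAction`: an action restricted to a stable subobject.
* `fib π σ`: the fibre of `π : Y ⟶ Z` over a section `σ` of `Z`, with its points.
* `isLocallyTrivialFor_of_local`: local triviality can be checked locally (composition of fpqc coverings).
* `exact_lift`: `u` is a kernel of `v` on points, from the cartesian square of `NonAbH1.IsExactSeq`.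
-/

set_option autoImplicit false
universe u
open CategoryTheory CategoryTheory.Limits AlgebraicGeometry MonoidalCategory CartesianMonoidalCategory
open MonObj

namespace Groth.Agent.H40.FpqcFam

variable {S : Scheme.{u}}

section Pts

variable {G X : Over S} [GrpObj G]

theorem pseudoTorsor_of_pts (a : AlgGrp.Action G X)
    (h : ∀ (T : Over S) (x y : T ⟶ X), ∃! g : T ⟶ G, lift g y ≫ a.act = x) :
    NonAbH1.IsPseudoTorsorSch a := by
  obtain ⟨d, hd, -⟩ := h (X ⊗ X) (fst X X) (snd X X)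
  have e1 : lift a.act (snd G X) ≫ d = fst G X := by
    refine (h (G ⊗ X) a.act (snd G X)).unique ?_ ?_
    · have : lift (lift a.act (snd G X) ≫ d) (snd G X) =
          lift a.act (snd G X) ≫ lift d (snd X X) := by
        rw [comp_lift, lift_snd]
      rw [this, Category.assoc, hd, lift_fst]
    · rw [lift_fst_snd, Category.id_comp]
  refine ⟨⟨lift d (snd X X), ?_, ?_⟩⟩
  · rw [comp_lift, lift_snd, e1, lift_fst_snd]
  · rw [comp_lift, hd, lift_snd, lift_fst_snd]

/-- an action restricted to a stable subobject. -/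
noncomputable def subAction (a : AlgGrp.Action G X) {Q : Over S} (i₀ : Q ⟶ X) [Mono i₀]
    (act' : G ⊗ Q ⟶ Q) (h : act' ≫ i₀ = (G ◁ i₀) ≫ a.act) : AlgGrp.Action G Q where
  act := act'
  one_act := by
    rw [← cancel_mono i₀]
    apply AlgGrp.Action.hom_ext_lift₂
    intro T t q
    have ht : t ≫ η[G] = (1 : T ⟶ G) := by rw [Hom.one_def, toUnit_unique t (toUnit T)]
    simp only [Category.assoc]
    rw [h, lift_whiskerRight_assoc, lift_whiskerLeft_assoc, ht, AlgGrp.Action.lift_one_act,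
      leftUnitor_hom, lift_snd_assoc]
  mul_act := by
    rw [← cancel_mono i₀]
    apply AlgGrp.Action.hom_ext_lift₃
    intro T g g' q
    simp only [Category.assoc]
    rw [h, lift_whiskerRight_assoc, lift_whiskerLeft_assoc, ← Hom.mul_def,
      AlgGrp.Action.lift_mul_act, lift_lift_associator_hom_assoc, lift_whiskerLeft_assoc,
      lift_whiskerLeft_assoc, Category.assoc, h, lift_whiskerLeft_assoc]

@[simp] theorem subAction_act (a : AlgGrp.Action G X) {Q : Over S} (i₀ : Q ⟶ X) [Mono i₀]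
    (act' : G ⊗ Q ⟶ Q) (h : act' ≫ i₀ = (G ◁ i₀) ≫ a.act) : (subAction a i₀ act' h).act = act' := rfl

end Pts

section Fibre

variable {Y Z : Over S} (π : Y ⟶ Z) (σ : 𝟙_ (Over S) ⟶ Z)

/-- the fibre of `π` over the section `σ`. -/
noncomputable def fib : Over S := Limits.pullback π σ

/-- the inclusion of the fibre. -/
noncomputable def fibIncl : fib π σ ⟶ Y := Limits.pullback.fst π σ

instance mono_section : Mono σ := ⟨fun _ _ _ => toUnit_unique _ _⟩

instance : Mono (fibIncl π σ) := inferInstanceAs (Mono (Limits.pullback.fst π σ))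

theorem isPullback_fib : IsPullback (fibIncl π σ) (toUnit (fib π σ)) π σ := by
  have := IsPullback.of_hasPullback π σ
  rwa [toUnit_unique (Limits.pullback.snd π σ) (toUnit _)] at this

theorem fibIncl_comp_pt {T : Over S} (q : T ⟶ fib π σ) : (q ≫ fibIncl π σ) ≫ π = toUnit T ≫ σ := by
  rw [Category.assoc, (isPullback_fib π σ).w, ← Category.assoc, toUnit_unique (q ≫ toUnit _) (toUnit T)]

/-- a point of the fibre. -/
noncomputable def fibLift {T : Over S} (p : T ⟶ Y) (hp : p ≫ π = toUnit T ≫ σ) : T ⟶ fib π σ :=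
  (isPullback_fib π σ).lift p (toUnit T) hp

@[simp] theorem fibLift_incl {T : Over S} (p : T ⟶ Y) (hp : p ≫ π = toUnit T ≫ σ) :
    fibLift π σ p hp ≫ fibIncl π σ = p := (isPullback_fib π σ).lift_fst _ _ _

end Fibre

section Bind

theorem isLocallyTrivialFor_of_local {X : Over S} {R : Presieve S}
    (hR : R ∈ Scheme.fpqcPrecoverage S)
    (h : ∀ ⦃S' : Scheme.{u}⦄ (p : S' ⟶ S), R p → ∃ R' ∈ Scheme.fpqcPrecoverage S',
      ∀ ⦃W : Scheme.{u}⦄ (w : W ⟶ S'), R' w → NonAbH1.HasSectionOver X (w ≫ p)) :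
    NonAbH1.IsLocallyTrivialFor Scheme.fpqcPrecoverage X := by
  obtain ⟨I₀, Z₀, g, rfl⟩ := R.exists_eq_ofArrows
  have h' : ∀ i : I₀, ∃ (σ : Type (u + 1)) (Y₀ : σ → Scheme.{u}) (k : ∀ j, Y₀ j ⟶ Z₀ i),
      Presieve.ofArrows Y₀ k ∈ Scheme.fpqcPrecoverage (Z₀ i) ∧
        ∀ j, NonAbH1.HasSectionOver X (k j ≫ g i) := by
    intro i
    obtain ⟨R', hR', hsec⟩ := h (g i) (.mk i)
    obtain ⟨σ, Y₀, k, rfl⟩ := R'.exists_eq_ofArrows
    exact ⟨σ, Y₀, k, hR', fun j => hsec (k j) (.mk j)⟩
  choose σ Y₀ k hk hsec using h'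
  refine ⟨_, Precoverage.comp_mem_coverings g hR k hk, ?_⟩
  rintro S' f ⟨⟨i, j⟩⟩
  exact hsec i j

end Bind

section Exact

variable {G G' G'' : Over S} [GrpObj G] [GrpObj G'] [GrpObj G''] {u : G' ⟶ G} {v : G ⟶ G''}

omit [GrpObj G'] in
theorem exact_lift [IsMonHom v] (hpb : IsPullback (fst G G') ((G ◁ u) ≫ μ[G]) v v) {T : Over S}
    (d : T ⟶ G) (hd : d ≫ v = 1) : ∃! g' : T ⟶ G', g' ≫ u = d := by
  have hv1 : (1 : T ⟶ G) ≫ v = d ≫ v := by rw [hd, MonObj.one_comp]
  have key : ∀ g'' : T ⟶ G', lift (1 : T ⟶ G) g'' ≫ (G ◁ u) ≫ μ[G] = g'' ≫ u := by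
    intro g''
    rw [lift_whiskerLeft_assoc, ← Hom.mul_def, _root_.one_mul]
  refine ⟨hpb.lift 1 d hv1 ≫ snd G G', ?_, ?_⟩
  · have e : hpb.lift 1 d hv1 = lift (1 : T ⟶ G) (hpb.lift 1 d hv1 ≫ snd G G') := by
      apply CartesianMonoidalCategory.hom_ext
      · rw [lift_fst, hpb.lift_fst]
      · rw [lift_snd]
    have := hpb.lift_snd 1 d hv1
    rw [e, key] at this
    exact this
  · intro g'' hg''
    have e : lift (1 : T ⟶ G) g'' = hpb.lift 1 d hv1 := by
      apply hpb.hom_ext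
      · rw [lift_fst, hpb.lift_fst]
      · rw [key, hpb.lift_snd, hg'']
    rw [← e, lift_snd]

end Exact

end Groth.Agent.H40.FpqcFam
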