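import Groth.Agent.H40.GmH1Defs

/-!
# `𝔾_m`-torsors: the difference cocycle is a unit cocycle (helper40; clone of helper91's `ghat_cocycle`)
-/

set_option autoImplicit false
universe u
open CategoryTheory CategoryTheory.Limits AlgebraicGeometry MonoidalCategory CartesianMonoidalCategory MonObj
open scoped TensorProduct

noncomputable section

namespace Groth.Agent.H40.GmH1Cocycle

open Groth.Agent.H40.FpqcFam Groth.Agent.H92.AdeqFlat1 Groth.Agent.H91.GaH1Core Groth.Agent.H40.GmH1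
open Groth.Agent.S13371 (gm_ext isUnit_gmFn gmFn_comp)
open Groth.Agent.H43.GaGmFn (gmFn_mul)

variable {S : Scheme.{u}} {X : Over S} {a : AlgGrp.Action (Red.Gm S) X}
  (hps : NonAbH1.IsPseudoTorsorSch a)

theorem dv_cocycle {T : Over S} (x y z : T ⟶ X) :
    (lift x y ≫ dv hps) * (lift y z ≫ dv hps) = lift x z ≫ dv hps := by
  apply act_free hps _ _ z
  rw [AlgGrp.Action.lift_mul_act, dv_act, dv_act, dv_act]

variable {A B : Type u} [CommRing A] [CommRing B] [Algebra A B]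
  (f' : Spec (CommRingCat.of A) ⟶ S) (σB : OB (B := B) f' ⟶ X)

theorem gcoM_cocycle :
    (E2 f' ≫ gcoM hps f' σB) * (E0 f' ≫ gcoM hps f' σB) = E1 f' ≫ gcoM hps f' σB := by
  unfold gcoM
  rw [comp_lift_assoc, comp_lift_assoc, comp_lift_assoc, E0_P₁_assoc, E0_P₂_assoc, E1_P₁_assoc]
  exact dv_cocycle hps _ _ _

theorem uhat_cocycle :
    IsUnit (uhat hps f' σB) ∧
      d2 A B (uhat hps f' σB) * d0 A B (uhat hps f' σB) = d1 A B (uhat hps f' σB) := by
  refine ⟨(isUnit_gmFn (gcoM hps f' σB)).map (Scheme.ΓSpecIso (CommRingCat.of (B ⊗[A] B))).hom.hom, ?_⟩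
  have h := congrArg Red.gmFn (gcoM_cocycle hps f' σB)
  rw [gmFn_mul, gmFn_comp, gmFn_comp, gmFn_comp] at h
  have h' : (Scheme.ΓSpecIso (CommRingCat.of ((B ⊗[A] B) ⊗[A] B))).hom
        ((Spec.map (D2 A B)).appTop (Red.gmFn (gcoM hps f' σB))) *
      (Scheme.ΓSpecIso (CommRingCat.of ((B ⊗[A] B) ⊗[A] B))).hom
        ((Spec.map (D0 A B)).appTop (Red.gmFn (gcoM hps f' σB))) =
      (Scheme.ΓSpecIso (CommRingCat.of ((B ⊗[A] B) ⊗[A] B))).hom
        ((Spec.map (D1 A B)).appTop (Red.gmFn (gcoM hps f' σB))) := by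
    rw [← map_mul]
    exact congrArg _ h
  rw [ΓSpec_nat, ΓSpec_nat, ΓSpec_nat] at h'
  exact h'

end Groth.Agent.H40.GmH1Cocycle
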