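import Groth.Agent.H91.GaH1Core
import Groth.Agent.S13371
import Groth.Agent.H43.GaGmFn

/-!
# `𝔾_m`-torsors: the difference cocycle of a section over a faithfully flat cover (helper40)

Objects `OB, O₂, O₃, P₁, P₂, E0, E1, E2` are helper91's (`Groth.Agent.H91.GaH1Core`).
-/

set_option autoImplicit false
universe u
open CategoryTheory CategoryTheory.Limits AlgebraicGeometry MonoidalCategory CartesianMonoidalCategory MonObj
open scoped TensorProduct

noncomputable section

namespace Groth.Agent.H40.GmH1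

open Groth.Agent.H40.FpqcFam Groth.Agent.H92.AdeqFlat1 Groth.Agent.H91.GaH1Core

variable {S : Scheme.{u}} {X : Over S} {a : AlgGrp.Action (Red.Gm S) X}
  (hps : NonAbH1.IsPseudoTorsorSch a)
  {A B : Type u} [CommRing A] [CommRing B] [Algebra A B]
  (f' : Spec (CommRingCat.of A) ⟶ S) (σB : OB (B := B) f' ⟶ X)

/-- the difference cocycle `(x, y) ↦ σ(x) / σ(y)` as a point of `𝔾_m` over `Spec (B ⊗ B)`. -/
def gcoM : O₂ (B := B) f' ⟶ Red.Gm S := lift (P₁ f' ≫ σB) (P₂ f' ≫ σB) ≫ dv hps

/-- its function, an element of `B ⊗[A] B`. -/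
def uhat : B ⊗[A] B :=
  (Scheme.ΓSpecIso (CommRingCat.of (B ⊗[A] B))).hom (Red.gmFn (gcoM hps f' σB))

end Groth.Agent.H40.GmH1
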