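import Groth.Agent.H40.GmH1Defs
import Groth.Agent.H86.AS_KE
import Groth.Agent.H73.GmH1_GP

/-!
# `𝔾_m`-torsors: descent of a twisted section over a basic open (helper40)
-/

set_option autoImplicit false
universe u
open CategoryTheory CategoryTheory.Limits AlgebraicGeometry MonoidalCategory CartesianMonoidalCategory MonObj
open scoped TensorProduct

noncomputable section

namespace Groth.Agent.H40.GmH1Desc

open Groth.Agent.H40.FpqcFam Groth.Agent.H92.AdeqFlat1 Groth.Agent.H91.GaH1Core Groth.Agent.H40.GmH1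
open Groth.Agent.S13371 (gm_ext isUnit_gmFn gmFn_comp)
open Groth.Agent.H43.GaGmFn (gmFn_mul)
open Groth.Agent.H73.GmH1_GP (exists_gm_of_unit)

theorem ΓSpec_inv_nat {R R' : CommRingCat.{u}} (φ : R ⟶ R') (x : R) :
    (Spec.map φ).appTop ((Scheme.ΓSpecIso R).inv x) = (Scheme.ΓSpecIso R').inv (φ x) := by
  apply (ConcreteCategory.bijective_of_isIso (Scheme.ΓSpecIso R').hom).1
  rw [ΓSpec_nat, ΓSpec_hom_inv, ΓSpec_hom_inv]

theorem ΓSpec_inv_hom (R : CommRingCat.{u}) (x : Γ(Spec R, ⊤)) :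
    (Scheme.ΓSpecIso R).inv.hom ((Scheme.ΓSpecIso R).hom.hom x) = x := by
  have := congrArg (fun φ => φ.hom x) (Scheme.ΓSpecIso R).hom_inv_id
  exact this

/-- evaluate `x : R` as a function on `Z` along `h : Z ⟶ Spec R`. -/
def appInv {R : CommRingCat.{u}} {Z : Scheme.{u}} (h : Z ⟶ Spec R) (x : R) : Γ(Z, ⊤) :=
  h.appTop.hom ((Scheme.ΓSpecIso R).inv.hom x)

theorem appInv_mul {R : CommRingCat.{u}} {Z : Scheme.{u}} (h : Z ⟶ Spec R) (x y : R) :
    appInv h (x * y) = appInv h x * appInv h y := by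
  unfold appInv
  rw [map_mul, map_mul]

theorem appInv_comp {R R' : CommRingCat.{u}} {Z : Scheme.{u}} (h : Z ⟶ Spec R') (φ : R ⟶ R') (x : R) :
    appInv h (φ x) = appInv (h ≫ Spec.map φ) x := by
  unfold appInv
  rw [Scheme.Hom.comp_appTop]
  have := ΓSpec_inv_nat φ x
  rw [CommRingCat.hom_comp, RingHom.comp_apply]
  exact congrArg h.appTop.hom this.symm

theorem section_of_coboundary {S : Scheme.{u}} {X : Over S} {a : AlgGrp.Action (Red.Gm S) X}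
    (hps : NonAbH1.IsPseudoTorsorSch a) {A B : Type u} [CommRing A] [CommRing B] [Algebra A B]
    (f' : Spec (CommRingCat.of A) ⟶ S) (σB : OB (B := B) f' ⟶ X)
    [Module.FaithfullyFlat A B] (f : A) (ℓ c : B)
    (h1 : uhat hps f' σB * (ℓ ⊗ₜ[A] (1 : B)) = (1 : B) ⊗ₜ[A] ℓ)
    (h2 : ℓ * c = algebraMap A B f) :
    ∃ s : (((Spec (CommRingCat.of A)).basicOpen
        ((Scheme.ΓSpecIso (CommRingCat.of A)).inv f) : (Spec (CommRingCat.of A)).Opens) : Scheme.{u}) ⟶ X.left,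
      s ≫ X.hom = ((Spec (CommRingCat.of A)).basicOpen
        ((Scheme.ΓSpecIso (CommRingCat.of A)).inv f)).ι ≫ f' := by
  have hflat : Flat (Spec.map (iA A B)) := by
    rw [HasRingHomProperty.Spec_iff (P := @Flat)]
    exact RingHom.flat_algebraMap_iff.mpr inferInstance
  have hsurj : Surjective (Spec.map (iA A B)) :=
    (surjective_iff _).2 (PrimeSpectrum.comap_surjective_of_faithfullyFlat (A := A) (B := B))
  have hpb : IsPullback (Spec.map (i₁ A B)) (Spec.map (i₂ A B)) (Spec.map (iA A B))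
      (Spec.map (iA A B)) :=
    isPullback_SpecMap_of_isPushout _ _ _ _ (CommRingCat.isPushout_tensorProduct A B B)
  obtain ⟨r, hr⟩ : ∃ r : Γ(Spec (CommRingCat.of A), ⊤),
      r = (Scheme.ΓSpecIso (CommRingCat.of A)).inv f := ⟨_, rfl⟩
  rw [← hr]
  obtain ⟨V, hV⟩ : ∃ V : (Spec (CommRingCat.of A)).Opens,
      V = (Spec (CommRingCat.of A)).basicOpen r := ⟨_, rfl⟩
  rw [← hV]
  obtain ⟨T, hT⟩ : ∃ T : (Spec (CommRingCat.of B)).Opens, T = Spec.map (iA A B) ⁻¹ᵁ V := ⟨_, rfl⟩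
  have hT' : T = (Spec (CommRingCat.of B)).basicOpen ((Spec.map (iA A B)).appTop r) := by
    rw [hT, hV]
    exact Scheme.preimage_basicOpen_top _ _
  obtain ⟨qV, hqV⟩ : ∃ qV : (T : Scheme.{u}) ⟶ (V : Scheme.{u}),
      qV ≫ V.ι = T.ι ≫ Spec.map (iA A B) := by
    subst hT
    exact ⟨Spec.map (iA A B) ∣_ V, morphismRestrict_ι _ _⟩
  have hqVflat : Flat qV ∧ Surjective qV ∧ QuasiCompact qV := by
    subst hT
    have e : qV = Spec.map (iA A B) ∣_ V := by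
      rw [← cancel_mono V.ι, hqV, morphismRestrict_ι]
    rw [e]
    exact ⟨inferInstance,
      MorphismProperty.of_isPullback (P := @Surjective) (isPullback_morphismRestrict _ V).flip hsurj,
      inferInstance⟩
  obtain ⟨hq1, hq2, hq3⟩ := hqVflat
  -- the unit
  have hunit : IsUnit (T.ι.appTop ((Scheme.ΓSpecIso (CommRingCat.of B)).inv ℓ)) := by
    have h3 : (Scheme.ΓSpecIso (CommRingCat.of B)).inv ℓ * (Scheme.ΓSpecIso (CommRingCat.of B)).inv c =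
        (Spec.map (iA A B)).appTop r := by
      rw [← map_mul, h2, hr, ΓSpec_inv_nat]
      rfl
    have h4 := Groth.Agent.H86.AS_KE.isUnit_appTop_of_le T ((Spec.map (iA A B)).appTop r) hT'.le
    rw [← h3, map_mul] at h4
    exact isUnit_of_mul_isUnit_left h4
  -- objects over S
  obtain ⟨TO, hTO⟩ : ∃ TO : Over S, TO = Over.mk (T.ι ≫ Spec.map (iA A B) ≫ f') := ⟨_, rfl⟩
  obtain ⟨ιT, hιT⟩ : ∃ ιT : Over.mk (T.ι ≫ Spec.map (iA A B) ≫ f') ⟶ OB (B := B) f', ιT.left = T.ι :=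
    ⟨Over.homMk T.ι rfl, rfl⟩
  obtain ⟨tℓ, htℓ⟩ := exists_gm_of_unit (T := Over.mk (T.ι ≫ Spec.map (iA A B) ≫ f'))
    (T.ι.appTop ((Scheme.ΓSpecIso (CommRingCat.of B)).inv ℓ)) hunit
  obtain ⟨σ', hσ'⟩ : ∃ σ' : Over.mk (T.ι ≫ Spec.map (iA A B) ≫ f') ⟶ X,
      σ' = lift tℓ (ιT ≫ σB) ≫ a.act := ⟨_, rfl⟩
  have hdesc : ∀ {Z : Scheme.{u}} (g₁ g₂ : Z ⟶ (T : Scheme.{u})),
      g₁ ≫ qV = g₂ ≫ qV → g₁ ≫ σ'.left = g₂ ≫ σ'.left := by
    intro Z g₁ g₂ hg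
    have hg' : (g₁ ≫ T.ι) ≫ Spec.map (iA A B) = (g₂ ≫ T.ι) ≫ Spec.map (iA A B) := by
      rw [Category.assoc, Category.assoc, ← hqV, ← Category.assoc, hg, Category.assoc]
    have hk0a := hpb.lift_fst (g₁ ≫ T.ι) (g₂ ≫ T.ι) hg'
    have hk0b := hpb.lift_snd (g₁ ≫ T.ι) (g₂ ≫ T.ι) hg'
    obtain ⟨k0, hk0⟩ : ∃ k0 : Z ⟶ Spec (CommRingCat.of (B ⊗[A] B)),
        k0 = hpb.lift (g₁ ≫ T.ι) (g₂ ≫ T.ι) hg' := ⟨_, rfl⟩
    rw [← hk0] at hk0a hk0b
    let G₁ : Over.mk (g₁ ≫ T.ι ≫ Spec.map (iA A B) ≫ f') ⟶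
        Over.mk (T.ι ≫ Spec.map (iA A B) ≫ f') := Over.homMk g₁ rfl
    let G₂ : Over.mk (g₁ ≫ T.ι ≫ Spec.map (iA A B) ≫ f') ⟶
        Over.mk (T.ι ≫ Spec.map (iA A B) ≫ f') := Over.homMk g₂ (by
        show g₂ ≫ T.ι ≫ Spec.map (iA A B) ≫ f' = g₁ ≫ T.ι ≫ Spec.map (iA A B) ≫ f'
        rw [← Category.assoc, ← Category.assoc, ← hg', Category.assoc, Category.assoc])
    let k : Over.mk (g₁ ≫ T.ι ≫ Spec.map (iA A B) ≫ f') ⟶ O₂ (B := B) f' :=
      Over.homMk k0 (by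
        show k0 ≫ Spec.map (iA A B ≫ i₁ A B) ≫ f' = g₁ ≫ T.ι ≫ Spec.map (iA A B) ≫ f'
        rw [Spec.map_comp, Category.assoc, reassoc_of% hk0a])
    have hk1 : k ≫ P₁ f' = G₁ ≫ ιT := by
      apply Over.OverMorphism.ext
      show k0 ≫ Spec.map (i₁ A B) = g₁ ≫ ιT.left
      rw [hιT]
      exact hk0a
    have hk2 : k ≫ P₂ f' = G₂ ≫ ιT := by
      apply Over.OverMorphism.ext
      show k0 ≫ Spec.map (i₂ A B) = g₂ ≫ ιT.left
      rw [hιT]
      exact hk0b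
    have hdv : lift (G₁ ≫ ιT ≫ σB) (G₂ ≫ ιT ≫ σB) ≫ dv hps = k ≫ gcoM hps f' σB := by
      unfold gcoM
      rw [comp_lift_assoc, ← Category.assoc k, hk1, ← Category.assoc k, hk2, Category.assoc,
        Category.assoc]
    have hmul : (G₁ ≫ tℓ) * (k ≫ gcoM hps f' σB) = G₂ ≫ tℓ := by
      apply gm_ext
      rw [gmFn_mul, gmFn_comp, gmFn_comp, gmFn_comp, htℓ]
      show g₁.appTop.hom (T.ι.appTop.hom ((Scheme.ΓSpecIso (CommRingCat.of B)).inv.hom ℓ)) *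
          k0.appTop.hom (Red.gmFn (gcoM hps f' σB)) =
        g₂.appTop.hom (T.ι.appTop.hom ((Scheme.ΓSpecIso (CommRingCat.of B)).inv.hom ℓ))
      have e1 : k0.appTop.hom (Red.gmFn (gcoM hps f' σB)) = appInv k0 (uhat hps f' σB) := by
        show _ = k0.appTop.hom ((Scheme.ΓSpecIso (CommRingCat.of (B ⊗[A] B))).inv.hom
          ((Scheme.ΓSpecIso (CommRingCat.of (B ⊗[A] B))).hom.hom (Red.gmFn (gcoM hps f' σB))))
        congr 1
        exact (ΓSpec_inv_hom _ _).symm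
      have e2 : g₁.appTop.hom (T.ι.appTop.hom ((Scheme.ΓSpecIso (CommRingCat.of B)).inv.hom ℓ)) =
          appInv k0 (ℓ ⊗ₜ[A] (1 : B)) := by
        have e := appInv_comp k0 (i₁ A B) ℓ
        rw [hk0a] at e
        refine Eq.trans ?_ e.symm
        unfold appInv
        rw [Scheme.Hom.comp_appTop]
        rfl
      have e3 : g₂.appTop.hom (T.ι.appTop.hom ((Scheme.ΓSpecIso (CommRingCat.of B)).inv.hom ℓ)) =
          appInv k0 ((1 : B) ⊗ₜ[A] ℓ) := by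
        have e := appInv_comp k0 (i₂ A B) ℓ
        rw [hk0b] at e
        refine Eq.trans ?_ e.symm
        unfold appInv
        rw [Scheme.Hom.comp_appTop]
        rfl
      rw [e1, e2, e3, ← h1, appInv_mul, _root_.mul_comm]
    have e1 : G₁ ≫ σ' = G₂ ≫ σ' := by
      rw [hσ', comp_lift_assoc, comp_lift_assoc, ← hmul, AlgGrp.Action.lift_mul_act, ← hdv,
        dv_act]
    exact congrArg (fun m => m.left) e1
  refine ⟨EffectiveEpi.desc qV σ'.left hdesc, ?_⟩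
  rw [← cancel_epi qV, EffectiveEpi.fac_assoc]
  exact (Over.w σ').trans (by
    show T.ι ≫ Spec.map (iA A B) ≫ f' = qV ≫ V.ι ≫ f'
    rw [← Category.assoc, ← hqV, Category.assoc])

end Groth.Agent.H40.GmH1Desc
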