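import Groth.Agent.H40.GmH1Defs
import Groth.Agent.H64.GaH1Cover
import Groth.Agent.H73.GmH1_E
import Groth.Agent.H40.GmH1Desc
import Groth.Agent.H40.GmH1Cocycle
import Groth.Agent.H99.GmH90

/-!
# `𝔾_m`-torsors for the fpqc topology are Zariski-locally trivial: assembly (helper40)
-/

set_option autoImplicit false
universe u
open CategoryTheory CategoryTheory.Limits AlgebraicGeometry MonoidalCategory CartesianMonoidalCategory MonObj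
open scoped TensorProduct

noncomputable section

namespace Groth.Agent.H40.GmH1Main

open Groth.Agent.H40.FpqcFam Groth.Agent.H92.AdeqFlat1 Groth.Agent.H91.GaH1Core Groth.Agent.H40.GmH1
open Groth.Agent.H73.GmH1_E (zariski_of_local)
open Groth.Agent.H40.GmH1Cocycle (uhat_cocycle)
open Groth.Agent.H40.GmH1Desc (section_of_coboundary)

/-- the inverse of a unit cocycle is a cocycle. -/
theorem inv_cocycle (A B : Type u) [CommRing A] [CommRing B] [Algebra A B]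
    (u : B ⊗[A] B) (hu : IsUnit u) (hc : d2 A B u * d0 A B u = d1 A B u) :
    d2 A B (↑hu.unit⁻¹ : B ⊗[A] B) * d0 A B (↑hu.unit⁻¹ : B ⊗[A] B) =
      d1 A B (↑hu.unit⁻¹ : B ⊗[A] B) := by
  have hv : (↑hu.unit⁻¹ : B ⊗[A] B) * u = 1 := hu.val_inv_mul
  have e1 : d1 A B (↑hu.unit⁻¹ : B ⊗[A] B) * d1 A B u = 1 := by rw [← map_mul, hv, map_one]
  have e2 : (d2 A B (↑hu.unit⁻¹ : B ⊗[A] B) * d0 A B (↑hu.unit⁻¹ : B ⊗[A] B)) * d1 A B u = 1 := by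
    rw [← hc]
    calc d2 A B (↑hu.unit⁻¹ : B ⊗[A] B) * d0 A B (↑hu.unit⁻¹ : B ⊗[A] B) * (d2 A B u * d0 A B u)
        = (d2 A B (↑hu.unit⁻¹ : B ⊗[A] B) * d2 A B u) *
            (d0 A B (↑hu.unit⁻¹ : B ⊗[A] B) * d0 A B u) := by ring
      _ = 1 := by rw [← map_mul, ← map_mul, hv, map_one, map_one, _root_.mul_one]
  exact (IsUnit.mul_left_inj (hu.map (d1 A B))).mp (e2.trans e1.symm)

theorem local_affine {S : Scheme.{u}} (X : Over S) (a : AlgGrp.Action (Red.Gm S) X)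
    (hps : NonAbH1.IsPseudoTorsorSch a) {U W : Scheme.{u}} [IsAffine U] [IsAffine W]
    (q : W ⟶ U) [Flat q] [Surjective q] (f0 : U ⟶ S) [IsOpenImmersion f0] (σ : W ⟶ X.left)
    (hσ : σ ≫ X.hom = q ≫ f0) (x : U) :
    ∃ (V : Scheme.{u}) (j : V ⟶ S), IsOpenImmersion j ∧ f0.base x ∈ Set.range j.base ∧
      NonAbH1.HasSectionOver X j := by
  have hff : q.appTop.hom.FaithfullyFlat :=
    (Flat.flat_and_surjective_iff_faithfullyFlat_of_isAffine q).1 ⟨inferInstance, inferInstance⟩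
  algebraize [q.appTop.hom]
  have hq : Spec.map (iA Γ(U, ⊤) Γ(W, ⊤)) = Spec.map q.appTop := rfl
  have hσ' : (W.isoSpec.inv ≫ σ) ≫ X.hom = Spec.map (iA Γ(U, ⊤) Γ(W, ⊤)) ≫ (U.isoSpec.inv ≫ f0) := by
    rw [Category.assoc, hσ, hq]
    exact (Scheme.isoSpec_inv_naturality_assoc q f0).symm
  obtain ⟨σB, hσB⟩ : ∃ σB : OB (B := Γ(W, ⊤)) (U.isoSpec.inv ≫ f0) ⟶ X,
      σB.left = W.isoSpec.inv ≫ σ := ⟨Over.homMk (W.isoSpec.inv ≫ σ) hσ', rfl⟩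
  obtain ⟨hu, hc⟩ := uhat_cocycle hps (U.isoSpec.inv ≫ f0) σB
  obtain ⟨f, hf, ℓ, c, hℓ2, hw⟩ := Groth.Agent.H99.GmH90.exists_unit_cobound_local Γ(U, ⊤) Γ(W, ⊤)
    (↑hu.unit⁻¹ : Γ(W, ⊤) ⊗[Γ(U, ⊤)] Γ(W, ⊤)) (hu.unit⁻¹).isUnit
    (inv_cocycle Γ(U, ⊤) Γ(W, ⊤) _ hu hc) (U.isoSpec.hom.base x).asIdeal
  have hℓ1 : uhat hps (U.isoSpec.inv ≫ f0) σB * (ℓ ⊗ₜ[Γ(U, ⊤)] (1 : Γ(W, ⊤))) =
      (1 : Γ(W, ⊤)) ⊗ₜ[Γ(U, ⊤)] ℓ := by
    rw [← hw, ← _root_.mul_assoc, hu.mul_val_inv, _root_.one_mul]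
  obtain ⟨s, hs⟩ := section_of_coboundary hps (U.isoSpec.inv ≫ f0) σB f ℓ c hℓ1 hℓ2
  refine ⟨_, ((Spec (CommRingCat.of Γ(U, ⊤))).basicOpen
      ((Scheme.ΓSpecIso (CommRingCat.of Γ(U, ⊤))).inv f)).ι ≫ (U.isoSpec.inv ≫ f0),
    inferInstance, ?_, ⟨s, hs⟩⟩
  have hmem : U.isoSpec.hom.base x ∈ ((Spec (CommRingCat.of Γ(U, ⊤))).basicOpen
      ((Scheme.ΓSpecIso (CommRingCat.of Γ(U, ⊤))).inv f)) := by
    rw [basicOpen_eq_of_affine]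
    exact hf
  refine ⟨⟨U.isoSpec.hom.base x, hmem⟩, ?_⟩
  have h3 : (U.isoSpec.hom ≫ U.isoSpec.inv ≫ f0).base x = f0.base x := by
    rw [Iso.hom_inv_id_assoc]
  rw [← h3]
  rfl

theorem main {S : Scheme.{u}} (X : Over S)
    (a : AlgGrp.Action (Red.Gm S) X) (h : NonAbH1.IsTorsorFor Scheme.fpqcPrecoverage a) :
    NonAbH1.IsTorsorFor Scheme.zariskiPrecoverage a := by
  obtain ⟨hps, R, hR, hsec⟩ := h
  refine ⟨hps, zariski_of_local X ?_⟩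
  intro s
  obtain ⟨x, hx⟩ := S.affineCover.covers s
  obtain ⟨W, hW, q, hq, hq', hX⟩ :=
    Groth.Agent.H64.GaH1Cover.exists_affine_ff R hR (S.affineCover.f (S.affineCover.idx s))
  obtain ⟨σ, hσ⟩ := hX X hsec
  have := local_affine X a hps q (S.affineCover.f (S.affineCover.idx s)) σ hσ x
  rwa [hx] at this

end Groth.Agent.H40.GmH1Main
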