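import Groth.Prelude.Def_Hoch
import Mathlib.LinearAlgebra.TensorProduct.Associator

/-!
# Helper lemmas on the Hochschild complex of a comodule (`Hoch`) — helper40

* `tail_natural` : naturality of `Hoch.tail` in the module.
* `cmap f n` : the map induced on `n`-cochains by a linear map `f : V → V'`; `d_comp_cmap`:
  it commutes with the differentials when `f` is a comodule map.
* `hs P n` : the contracting homotopy of the complex of an induced comodule; `hs_homotopy`.
* `cocycles_ind_le_coboundaries`.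
-/

set_option autoImplicit false
universe u v

open TensorProduct

namespace Groth.Agent.H40

section Tail

variable (k : Type u) [CommRing k] (A : Type v) [Ring A] [Bialgebra k A]

theorem assoc_symm_rTensor {M M' : Type v} [AddCommGroup M] [Module k M] [AddCommGroup M']
    [Module k M'] (g : M →ₗ[k] M') (m : M) (t : A ⊗[k] A) :
    (g.rTensor A).rTensor A ((TensorProduct.assoc k M A A).symm (m ⊗ₜ[k] t)) =
      (TensorProduct.assoc k M' A A).symm (g m ⊗ₜ[k] t) := by
  induction t using TensorProduct.induction_on with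
  | zero => simp
  | add t1 t2 h1 h2 => simp only [TensorProduct.tmul_add, map_add, h1, h2]
  | tmul x y => simp

theorem tail_natural {M M' : Type v} [AddCommGroup M] [Module k M] [AddCommGroup M']
    [Module k M'] (g : M →ₗ[k] M') :
    Hoch.tail k A M' ∘ₗ g.rTensor A = (g.rTensor A).rTensor A ∘ₗ Hoch.tail k A M := by
  apply TensorProduct.ext'
  intro m a
  simp only [LinearMap.comp_apply, LinearMap.rTensor_tmul, Hoch.tail_tmul]
  rw [assoc_symm_rTensor]

end Tail

section Functoriality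

variable (k : Type u) [CommRing k] (A : Type v) [Ring A] [Bialgebra k A]
variable {V V' : Type v} [AddCommGroup V] [Module k V] [AddCommGroup V'] [Module k V']

/-- the map induced on `n`-cochains by a linear map -/
noncomputable def cmap (f : V →ₗ[k] V') :
    (n : ℕ) → ((Hoch.cochain k A V n : Type v) →ₗ[k] (Hoch.cochain k A V' n : Type v))
  | 0 => f
  | n + 1 => (cmap f n).rTensor A

theorem cmap_zero (f : V →ₗ[k] V') : cmap k A f 0 = f := rfl

theorem cmap_succ (f : V →ₗ[k] V') (n : ℕ) : cmap k A f (n + 1) = (cmap k A f n).rTensor A := rfl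

variable [HopfRep.Comod k A V] [HopfRep.Comod k A V']

theorem d_comp_cmap {f : V →ₗ[k] V'} (hf : Hoch.IsComodHom A f) (n : ℕ) :
    Hoch.d k A V' n ∘ₗ cmap k A f n = cmap k A f (n + 1) ∘ₗ Hoch.d k A V n := by
  induction n with
  | zero =>
    rw [Hoch.d_zero, Hoch.d_zero, cmap_zero, cmap_succ, cmap_zero, LinearMap.sub_comp,
      LinearMap.comp_sub, hf]
    congr 1
  | succ n ih =>
    rw [Hoch.d_succ, Hoch.d_succ, cmap_succ k A f (n + 1), cmap_succ k A f n, LinearMap.add_comp,
      LinearMap.comp_add, LinearMap.smul_comp, LinearMap.comp_smul, ← LinearMap.rTensor_comp,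
      ih, LinearMap.rTensor_comp, cmap_succ k A f n]
    congr 2
    exact tail_natural k A (cmap k A f n)

end Functoriality

section AbstractHomotopy

variable (k : Type u) [CommRing k] (A : Type v) [Ring A] [Bialgebra k A]
variable (V : Type v) [AddCommGroup V] [Module k V] [HopfRep.Comod k A V]
variable (σ : V ⊗[k] A →ₗ[k] V)

/-- the contracting homotopy built from `σ : V ⊗ A → V` -/
noncomputable def hsA : (n : ℕ) →
    ((Hoch.cochain k A V (n + 1) : Type v) →ₗ[k] (Hoch.cochain k A V n : Type v))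
  | 0 => σ
  | n + 1 => (hsA n).rTensor A

theorem hsA_zero : hsA k A V σ 0 = σ := rfl

theorem hsA_succ (n : ℕ) : hsA k A V σ (n + 1) = (hsA k A V σ n).rTensor A := rfl

variable (h1 : ∀ x : V, σ (HopfRep.Comod.coact (k := k) (A := A) x) = x)
  (h2 : ∀ (x : V) (b : A), HopfRep.Comod.coact (k := k) (A := A) (σ (x ⊗ₜ[k] b)) =
    σ.rTensor A ((TensorProduct.assoc k V A A).symm (x ⊗ₜ[k] CoalgebraStruct.comul (R := k) b)))

include h1 h2 in
/-- base case of the homotopy identity -/
theorem hsA_homotopy_zero :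
    hsA k A V σ 1 ∘ₗ Hoch.d k A V 1 + Hoch.d k A V 0 ∘ₗ hsA k A V σ 0 = LinearMap.id := by
  apply TensorProduct.ext'
  intro x b
  have e1 : Hoch.d k A V 1 (x ⊗ₜ[k] b) =
      (HopfRep.Comod.coact (k := k) (A := A) x) ⊗ₜ[k] b - (x ⊗ₜ[k] (1 : A)) ⊗ₜ[k] b -
        ((TensorProduct.assoc k V A A).symm (x ⊗ₜ[k] CoalgebraStruct.comul (R := k) b) -
          (x ⊗ₜ[k] b) ⊗ₜ[k] (1 : A) - (x ⊗ₜ[k] (1 : A)) ⊗ₜ[k] b) := by
    rw [Hoch.d_succ, LinearMap.add_apply, LinearMap.smul_apply, LinearMap.rTensor_tmul,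
      Hoch.d_zero_apply, Hoch.tail_tmul, pow_one, neg_smul, one_smul, TensorProduct.sub_tmul,
      TensorProduct.tmul_sub, TensorProduct.tmul_sub, map_sub, map_sub,
      TensorProduct.assoc_symm_tmul, TensorProduct.assoc_symm_tmul]
    abel
  rw [LinearMap.add_apply, LinearMap.comp_apply, LinearMap.comp_apply, e1, hsA_succ, hsA_zero,
    map_sub, map_sub, map_sub, map_sub, LinearMap.rTensor_tmul, LinearMap.rTensor_tmul,
    LinearMap.rTensor_tmul, h1, ← h2, Hoch.d_zero_apply, LinearMap.id_apply]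
  abel

include h1 h2 in
theorem hsA_homotopy (n : ℕ) :
    hsA k A V σ (n + 1) ∘ₗ Hoch.d k A V (n + 1) + Hoch.d k A V n ∘ₗ hsA k A V σ n =
      LinearMap.id := by
  induction n with
  | zero => exact hsA_homotopy_zero k A V σ h1 h2
  | succ n ih =>
    have ht := tail_natural k A (hsA k A V σ n)
    have e2 : Hoch.d k A V (n + 1 + 1) = (Hoch.d k A V (n + 1)).rTensor A +
        ((-1 : k) ^ (n + 1 + 1)) • Hoch.tail k A (Hoch.cochain k A V (n + 1)) :=
      Hoch.d_succ k A V (n + 1)
    have e3 : Hoch.d k A V (n + 1) = (Hoch.d k A V n).rTensor A +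
        ((-1 : k) ^ (n + 1)) • Hoch.tail k A (Hoch.cochain k A V n) := Hoch.d_succ k A V n
    have e4 : hsA k A V σ (n + 1 + 1) = (hsA k A V σ (n + 1)).rTensor A := rfl
    have e5 : hsA k A V σ (n + 1) = (hsA k A V σ n).rTensor A := rfl
    have key1 : hsA k A V σ (n + 1 + 1) ∘ₗ Hoch.d k A V (n + 1 + 1) =
        (hsA k A V σ (n + 1) ∘ₗ Hoch.d k A V (n + 1)).rTensor A +
          ((-1 : k) ^ (n + 1 + 1)) •
            ((hsA k A V σ (n + 1)).rTensor A ∘ₗ Hoch.tail k A (Hoch.cochain k A V (n + 1))) := by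
      rw [e4, e2, LinearMap.comp_add, LinearMap.comp_smul, ← LinearMap.rTensor_comp]
    have key2 : Hoch.d k A V (n + 1) ∘ₗ hsA k A V σ (n + 1) =
        (Hoch.d k A V n ∘ₗ hsA k A V σ n).rTensor A +
          ((-1 : k) ^ (n + 1)) •
            ((hsA k A V σ (n + 1)).rTensor A ∘ₗ Hoch.tail k A (Hoch.cochain k A V (n + 1))) := by
      conv_lhs => rw [e3, e5]
      rw [LinearMap.add_comp, LinearMap.smul_comp, ← LinearMap.rTensor_comp, ht, e5]
    have hsign : ((-1 : k) ^ (n + 1 + 1)) = -((-1 : k) ^ (n + 1)) := by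
      rw [pow_succ, mul_neg_one]
    rw [key1, key2, hsign]
    have h5 : (hsA k A V σ (n + 1) ∘ₗ Hoch.d k A V (n + 1)).rTensor A +
        (Hoch.d k A V n ∘ₗ hsA k A V σ n).rTensor A = LinearMap.id := by
      rw [← LinearMap.rTensor_add, ih, LinearMap.rTensor_id]
    rw [← h5]
    module

include h1 h2 in
theorem cocycles_le_coboundaries_of_section (n : ℕ) (hn : 1 ≤ n) :
    Hoch.cocycles k A V n ≤ Hoch.coboundaries k A V n := by
  obtain ⟨m, rfl⟩ : ∃ m, n = m + 1 := ⟨n - 1, by omega⟩
  intro z hz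
  have hz' : Hoch.d k A V (m + 1) z = 0 := hz
  have h := LinearMap.congr_fun (hsA_homotopy k A V σ h1 h2 m) z
  simp only [LinearMap.add_apply, LinearMap.comp_apply, LinearMap.id_apply, hz', map_zero,
    zero_add] at h
  exact ⟨hsA k A V σ m z, h⟩

end AbstractHomotopy

section IndHomotopy

variable (k : Type u) [CommRing k] (A : Type v) [Ring A] [Bialgebra k A]
variable (P : Type v) [AddCommGroup P] [Module k P]

/-- `p ⊗ a ↦ ε a • p` -/
noncomputable def cP : P ⊗[k] A →ₗ[k] P :=
  (TensorProduct.rid k P).toLinearMap ∘ₗ (CoalgebraStruct.counit (R := k) (A := A)).lTensor P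

@[simp] theorem cP_tmul (p : P) (a : A) :
    cP k A P (p ⊗ₜ[k] a) = CoalgebraStruct.counit (R := k) a • p := by
  simp [cP]

theorem cP_rTensor_assoc_symm (p : P) (t : A ⊗[k] A) :
    (cP k A P).rTensor A ((TensorProduct.assoc k P A A).symm (p ⊗ₜ[k] t)) =
      p ⊗ₜ[k] (TensorProduct.lid k A
        ((CoalgebraStruct.counit (R := k) (A := A)).rTensor A t)) := by
  induction t using TensorProduct.induction_on with
  | zero => simp
  | add t1 t2 h1 h2 => simp only [TensorProduct.tmul_add, map_add, h1, h2]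
  | tmul x y => simp [TensorProduct.smul_tmul]

theorem cP_coactAux (x : P ⊗[k] A) :
    (cP k A P).rTensor A (Hoch.Ind.coactAux k A P x) = x := by
  induction x using TensorProduct.induction_on with
  | zero => simp
  | add x1 x2 h1 h2 => rw [map_add, map_add, h1, h2]
  | tmul p a =>
    rw [Hoch.Ind.coactAux_tmul, cP_rTensor_assoc_symm, Coalgebra.rTensor_counit_comul,
      TensorProduct.lid_tmul, one_smul]

theorem coactAux_cP (x : P ⊗[k] A) (b : A) :
    Hoch.Ind.coactAux k A P ((cP k A P).rTensor A (x ⊗ₜ[k] b)) =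
      ((cP k A P).rTensor A).rTensor A
        ((TensorProduct.assoc k (P ⊗[k] A) A A).symm
          (x ⊗ₜ[k] CoalgebraStruct.comul (R := k) b)) := by
  rw [assoc_symm_rTensor, LinearMap.rTensor_tmul, Hoch.Ind.coactAux_tmul]

/-- degree zero part of the contracting homotopy: `(p ⊗ a) ⊗ b ↦ ε a • (p ⊗ b)` -/
noncomputable def hs0 : (Hoch.Ind k A P) ⊗[k] A →ₗ[k] Hoch.Ind k A P :=
  ((cP k A P).rTensor A : (P ⊗[k] A) ⊗[k] A →ₗ[k] P ⊗[k] A)

theorem cocycles_ind_le_coboundaries (n : ℕ) (hn : 1 ≤ n) :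
    Hoch.cocycles k A (Hoch.Ind k A P) n ≤ Hoch.coboundaries k A (Hoch.Ind k A P) n :=
  cocycles_le_coboundaries_of_section k A (Hoch.Ind k A P) (hs0 k A P)
    (fun x => cP_coactAux k A P x) (fun x b => coactAux_cP k A P x b) n hn

end IndHomotopy

end Groth.Agent.H40
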