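import Groth.Agent.H40.HomComod
import Groth.Agent.H62.Reynolds
import Groth.Agent.S16471
import Mathlib.LinearAlgebra.Dual.Lemmas
import Mathlib.LinearAlgebra.TensorProduct.Basis

/-!
# A criterion for linear reductivity: lifting of invariants along surjections onto `k` — helper40

`isLinearlyReductive_of_lifting`: if for every finite-dimensional comodule `E` and every surjective
comodule map `π : E → k` (trivial comodule) there is a fixed vector `e` with `π e ≠ 0`, then `A` is
linearly reductive.  Proof: for `W ⊆ V` apply the hypothesis to the preimage of the line of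
`id ∈ Hom(V/W, V/W)` in `Hom(V/W, V) = V ⊗ (V/W)^*`.
-/

set_option autoImplicit false
universe u v w w' w''

open TensorProduct

namespace Groth.Agent.H40.LinRedCrit

section TensorFunct

variable {k : Type u} [CommRing k] {A : Type v} [CommRing A] [Bialgebra k A]
variable {V : Type w} [AddCommGroup V] [Module k V] {V' : Type w'} [AddCommGroup V'] [Module k V']
  {D : Type w''} [AddCommGroup D] [Module k D]

theorem ttt_rTensor (g : V →ₗ[k] V') (y : V ⊗[k] A) (z : D ⊗[k] A) :
    TensorProduct.map LinearMap.id (LinearMap.mul' k A)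
      (AlgebraTensorModule.tensorTensorTensorComm k k k k V' A D A ((g.rTensor A y) ⊗ₜ[k] z)) =
    (g.rTensor D).rTensor A (TensorProduct.map LinearMap.id (LinearMap.mul' k A)
      (AlgebraTensorModule.tensorTensorTensorComm k k k k V A D A (y ⊗ₜ[k] z))) := by
  induction y using TensorProduct.induction_on with
  | zero => simp
  | add y1 y2 h1 h2 => simp only [map_add, TensorProduct.add_tmul, h1, h2]
  | tmul v a =>
    induction z using TensorProduct.induction_on with
    | zero => simp
    | add z1 z2 h1 h2 => simp only [TensorProduct.tmul_add, map_add, h1, h2]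
    | tmul δ a' => simp

/-- functoriality of the tensor product comodule in the first factor -/
theorem tensor_coact_rTensor (cV : HopfRep.Comod k A V) (cV' : HopfRep.Comod k A V')
    (d : HopfRep.Comod k A D) (g : V →ₗ[k] V')
    (hg : cV'.coact ∘ₗ g = g.rTensor A ∘ₗ cV.coact) (x : V ⊗[k] D) :
    (ComodTens.Comod.tensor cV' d).coact (g.rTensor D x) =
      (g.rTensor D).rTensor A ((ComodTens.Comod.tensor cV d).coact x) := by
  induction x using TensorProduct.induction_on with
  | zero => simp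
  | add x y hx hy => simp only [map_add, hx, hy]
  | tmul v δ =>
    rw [LinearMap.rTensor_tmul, ComodTens.tensor_coact_tmul, ComodTens.tensor_coact_tmul]
    have := LinearMap.congr_fun hg v
    simp only [LinearMap.comp_apply] at this
    rw [this, ttt_rTensor]

end TensorFunct

section PhiNat

variable {k : Type u} [CommRing k]
variable {B : Type w} [AddCommGroup B] [Module k B] {B' : Type w'} [AddCommGroup B'] [Module k B']
  {M : Type w''} [AddCommGroup M] [Module k M]

theorem comp_Φ (g : B →ₗ[k] B') (x : B ⊗[k] Module.Dual k M) :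
    g ∘ₗ HomComod.Φ x = HomComod.Φ (g.rTensor (Module.Dual k M) x) := by
  apply LinearMap.ext
  intro m
  rw [LinearMap.comp_apply, HomComod.Φ_apply, HomComod.Φ_apply]
  induction x using TensorProduct.induction_on with
  | zero => simp
  | add x y hx hy => simp only [map_add, hx, hy]
  | tmul b φ => simp

end PhiNat

section Section

variable {k : Type u} [Field k] {A : Type v} [CommRing A] [HopfAlgebra k A]
variable {V : Type w} [AddCommGroup V] [Module k V] [cV : HopfRep.Comod k A V]

/-- a fixed vector of `V ⊗ (V/W)^*` lifting the identity of `V/W` gives a complement of `W` -/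
theorem exists_isCompl_of_fixed (W : Submodule k V)
    (hW : HopfRep.IsSubcomod (k := k) (A := A) W)
    (d : HopfRep.Comod k A (Module.Dual k (V ⧸ W)))
    (hd : ComodTens.Comod.IsDual (H93.quotComod W hW) d)
    (x : V ⊗[k] Module.Dual k (V ⧸ W))
    (hx : x ∈ @HopfRep.fixedPts k A _ _ _ (V ⊗[k] Module.Dual k (V ⧸ W)) _ _
      (ComodTens.Comod.tensor cV d))
    (hxc : HomComod.Φ (W.mkQ.rTensor (Module.Dual k (V ⧸ W)) x) = LinearMap.id) :
    ∃ W' : Submodule k V, HopfRep.IsSubcomod (k := k) (A := A) W' ∧ IsCompl W W' := by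
  letI cQ : HopfRep.Comod k A (V ⧸ W) := H93.quotComod W hW
  have hs : Hoch.IsComodHom A (HomComod.Φ x) :=
    HomComod.isComodHom_Φ_of_mem_fixedPts cV cQ d hd x hx
  have hqs : W.mkQ ∘ₗ HomComod.Φ x = LinearMap.id := by rw [comp_Φ, hxc]
  have hqs' : ∀ y, W.mkQ (HomComod.Φ x y) = y := fun y => LinearMap.congr_fun hqs y
  refine ⟨LinearMap.range (HomComod.Φ x), H93.isSubcomod_range hs, ?_, ?_⟩
  · rw [Submodule.disjoint_def]
    rintro v hvW ⟨y, rfl⟩
    have h0 : W.mkQ (HomComod.Φ x y) = 0 := by simpa using hvW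
    rw [hqs'] at h0
    rw [h0, map_zero]
  · rw [codisjoint_iff, eq_top_iff]
    intro v _
    have hv : v = (v - HomComod.Φ x (W.mkQ v)) + HomComod.Φ x (W.mkQ v) := by abel
    rw [hv]
    refine Submodule.add_mem_sup ?_ ⟨_, rfl⟩
    have : W.mkQ (v - HomComod.Φ x (W.mkQ v)) = 0 := by rw [map_sub, hqs', sub_self]
    rwa [Submodule.mkQ_apply, Submodule.Quotient.mk_eq_zero] at this

end Section


section Main

/-- the lifting property of invariants along surjections onto the trivial comodule `k` -/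
def Lifting (k : Type u) [Field k] (A : Type v) [CommRing A] [HopfAlgebra k A] : Prop :=
  ∀ (E : Type v) [AddCommGroup E] [Module k E] [HopfRep.Comod k A E], Module.Finite k E →
    ∀ π : E →ₗ[k] k, Function.Surjective π →
      LinearMap.rTensor A π ∘ₗ HopfRep.Comod.coact (k := k) (A := A) (V := E) =
        (TensorProduct.mk k k A).flip (1 : A) ∘ₗ π →
      ∃ v ∈ HopfRep.fixedPts k A E, π v ≠ 0

theorem isLinearlyReductive_of_lifting (k : Type u) [Field k] (A : Type v) [CommRing A]
    [HopfAlgebra k A] (H : Lifting k A) : HopfRep.IsLinearlyReductive k A := by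
  classical
  intro V _ _ cV hfin W hW
  -- the quotient comodule and its dual
  let cQ : HopfRep.Comod k A (V ⧸ W) := H93.quotComod W hW
  obtain ⟨d, hd⟩ := Groth.Agent.S16471.result k A (V ⧸ W) cQ
  let TV : HopfRep.Comod k A (V ⊗[k] Module.Dual k (V ⧸ W)) := ComodTens.Comod.tensor cV d
  let TQ : HopfRep.Comod k A ((V ⧸ W) ⊗[k] Module.Dual k (V ⧸ W)) := ComodTens.Comod.tensor cQ d
  have hq : cQ.coact ∘ₗ W.mkQ = W.mkQ.rTensor A ∘ₗ cV.coact := H93.quotCoact_mkQ W hW
  -- the coevaluation element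
  obtain ⟨c0, hc0⟩ :=
    (dualTensorHom_bijective (R := k) (M := V ⧸ W) (N := V ⧸ W)).2 LinearMap.id
  let c : (V ⧸ W) ⊗[k] Module.Dual k (V ⧸ W) :=
    (TensorProduct.comm k (V ⧸ W) (Module.Dual k (V ⧸ W))).symm c0
  have hΦc : HomComod.Φ c = LinearMap.id := by
    simp only [HomComod.Φ, c, LinearEquiv.apply_symm_apply, hc0]
  have hcfix : TQ.coact c = c ⊗ₜ[k] (1 : A) := by
    have := HomComod.mem_fixedPts_of_isComodHom_Φ cQ cQ d hd
      (HomComod.hinj_of_injective
        (dualTensorHom_bijective (R := k) (M := V ⧸ W) (N := (V ⧸ W) ⊗[k] A)).1) c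
      (by rw [hΦc, LinearMap.comp_id, LinearMap.rTensor_id, LinearMap.id_comp])
    exact this
  by_cases hc : c = 0
  · -- then `V ⧸ W` is trivial and `W = ⊤`
    refine ⟨⊥, H40.isSubcomod_bot, ?_⟩
    have hW' : W = ⊤ := by
      rw [eq_top_iff]
      intro v _
      have h1 : (LinearMap.id : (V ⧸ W) →ₗ[k] (V ⧸ W)) (W.mkQ v) = 0 := by
        rw [← hΦc, hc, HomComod.Φ_zero, LinearMap.zero_apply]
      rw [LinearMap.id_apply, Submodule.mkQ_apply, Submodule.Quotient.mk_eq_zero] at h1
      exact h1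
    rw [hW']
    exact isCompl_top_bot
  -- transport `V ⊗ (V/W)^*` to the universe of `V`
  let n := Module.finrank k (Module.Dual k (V ⧸ W))
  let bD : Module.Basis (Fin n) k (Module.Dual k (V ⧸ W)) := Module.finBasis k _
  let X := Fin n →₀ V
  let e : (V ⊗[k] Module.Dual k (V ⧸ W)) ≃ₗ[k] X := TensorProduct.equivFinsuppOfBasisRight bD
  let cX : HopfRep.Comod k A X := ComodTens.Comod.ofEquiv e TV
  let ψ : X →ₗ[k] (V ⧸ W) ⊗[k] Module.Dual k (V ⧸ W) :=
    W.mkQ.rTensor (Module.Dual k (V ⧸ W)) ∘ₗ e.symm.toLinearMap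
  have hψ : TQ.coact ∘ₗ ψ = ψ.rTensor A ∘ₗ cX.coact := by
    apply LinearMap.ext
    intro y
    simp only [LinearMap.comp_apply, ψ, LinearEquiv.coe_coe]
    rw [tensor_coact_rTensor cV cQ d W.mkQ hq, ComodTens.ofEquiv_coact, LinearMap.rTensor_comp,
      LinearMap.comp_apply]
    congr 1
    rw [← LinearMap.comp_apply, ← LinearMap.rTensor_comp]
    have : e.symm.toLinearMap ∘ₗ e.toLinearMap = LinearMap.id := by
      apply LinearMap.ext; intro z; simp
    rw [this, LinearMap.rTensor_id, LinearMap.id_apply]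
  have hψsurj : Function.Surjective ψ := by
    intro z
    obtain ⟨z', hz'⟩ := LinearMap.rTensor_surjective (Module.Dual k (V ⧸ W))
      (Submodule.mkQ_surjective W) z
    exact ⟨e z', by simp [ψ, hz']⟩
  letI : HopfRep.Comod k A X := cX
  letI : HopfRep.Comod k A ((V ⧸ W) ⊗[k] Module.Dual k (V ⧸ W)) := TQ
  have hψ' : Hoch.IsComodHom A ψ := hψ
  -- the line of `c` and its preimage
  let L : Submodule k ((V ⧸ W) ⊗[k] Module.Dual k (V ⧸ W)) := Submodule.span k {c}
  have hcL : c ∈ L := Submodule.subset_span rfl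
  have hL : HopfRep.IsSubcomod (k := k) (A := A) L := by
    apply H40.isSubcomod_span
    intro x hx
    rw [Set.mem_singleton_iff] at hx
    subst hx
    have : HopfRep.Comod.coact (k := k) (A := A) c = c ⊗ₜ[k] (1 : A) := hcfix
    rw [this]
    exact H40.tmul_mem_range_rTensor L hcL 1
  let E : Submodule k X := L.comap ψ
  have hE : HopfRep.IsSubcomod (k := k) (A := A) E := H62.isSubcomod_comap hψ' hL
  letI cE : HopfRep.Comod k A E := H62.subComod E hE
  -- a functional with value `1` at `c`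
  obtain ⟨φ, hφ⟩ : ∃ φ : Module.Dual k ((V ⧸ W) ⊗[k] Module.Dual k (V ⧸ W)), φ c ≠ 0 := by
    by_contra hcon
    push_neg at hcon
    exact hc ((Module.forall_dual_apply_eq_zero_iff k c).mp hcon)
  let lam : (V ⧸ W) ⊗[k] Module.Dual k (V ⧸ W) →ₗ[k] k := (φ c)⁻¹ • φ
  have hlam : lam c = 1 := by
    simp only [lam, LinearMap.smul_apply, smul_eq_mul]
    exact inv_mul_cancel₀ hφ
  let π : E →ₗ[k] k := lam ∘ₗ ψ ∘ₗ E.subtype
  have hEmem : ∀ x : E, ∃ t : k, ψ (x : X) = t • c := by
    intro x
    have hx : ψ (x : X) ∈ L := x.2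
    obtain ⟨t, ht⟩ := Submodule.mem_span_singleton.mp hx
    exact ⟨t, ht.symm⟩
  have hπval : ∀ (x : E) (t : k), ψ (x : X) = t • c → π x = t := by
    intro x t ht
    simp only [π, LinearMap.comp_apply, Submodule.subtype_apply, ht, map_smul, hlam, smul_eq_mul,
      mul_one]
  obtain ⟨x₀, hx₀⟩ := hψsurj c
  have hx₀E : x₀ ∈ E := by
    change ψ x₀ ∈ L
    rw [hx₀]; exact hcL
  have hπsurj : Function.Surjective π := by
    intro t
    refine ⟨t • ⟨x₀, hx₀E⟩, ?_⟩
    apply hπval
    simp [hx₀]
  have hπ : LinearMap.rTensor A π ∘ₗ HopfRep.Comod.coact (k := k) (A := A) (V := E) =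
      (TensorProduct.mk k k A).flip (1 : A) ∘ₗ π := by
    apply LinearMap.ext
    intro x
    obtain ⟨t, ht⟩ := hEmem x
    simp only [LinearMap.comp_apply, LinearMap.flip_apply, TensorProduct.mk_apply]
    rw [hπval x t ht]
    have h1 : π.rTensor A (HopfRep.Comod.coact (k := k) (A := A) x) =
        (lam.rTensor A) ((ψ.rTensor A) ((E.subtype.rTensor A)
          (HopfRep.Comod.coact (k := k) (A := A) x))) := by
      simp only [π, LinearMap.rTensor_comp, LinearMap.comp_apply]
    have h2 : (E.subtype.rTensor A) (HopfRep.Comod.coact (k := k) (A := A) x) =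
        HopfRep.Comod.coact (k := k) (A := A) (x : X) := H62.subCoact_spec E hE x
    have h3 : (ψ.rTensor A) (HopfRep.Comod.coact (k := k) (A := A) (x : X)) =
        HopfRep.Comod.coact (k := k) (A := A) (ψ (x : X)) :=
      (LinearMap.congr_fun hψ' (x : X)).symm
    rw [h1, h2, h3, ht, map_smul]
    have h4 : HopfRep.Comod.coact (k := k) (A := A) c = c ⊗ₜ[k] (1 : A) := hcfix
    rw [h4, map_smul, LinearMap.rTensor_tmul, hlam, TensorProduct.smul_tmul', smul_eq_mul,
      mul_one]
  have hEfin : Module.Finite k E := by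
    haveI : Module.Finite k X := Module.Finite.equiv e
    infer_instance
  obtain ⟨v, hv, hπv⟩ := H E hEfin π hπsurj hπ
  -- the fixed vector in `X`, normalised
  have hvX : (v : X) ∈ HopfRep.fixedPts k A X :=
    H62.map_mem_fixedPts (H62.isComodHom_subtype E hE) hv
  obtain ⟨t, ht⟩ := hEmem v
  have htπ : π v = t := hπval v t ht
  have ht0 : t ≠ 0 := by rw [← htπ]; exact hπv
  let x₁ : X := t⁻¹ • (v : X)
  have hx₁fix : x₁ ∈ HopfRep.fixedPts k A X := Submodule.smul_mem _ _ hvX
  have hx₁c : ψ x₁ = c := by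
    simp only [x₁, map_smul, ht, smul_smul, inv_mul_cancel₀ ht0, one_smul]
  -- back to `V ⊗ (V/W)^*`
  have hfix : e.symm x₁ ∈ @HopfRep.fixedPts k A _ _ _ (V ⊗[k] Module.Dual k (V ⧸ W)) _ _ TV := by
    have h1 : cX.coact x₁ = x₁ ⊗ₜ[k] (1 : A) := hx₁fix
    rw [ComodTens.ofEquiv_coact] at h1
    change TV.coact (e.symm x₁) = (e.symm x₁) ⊗ₜ[k] (1 : A)
    have h2 := congrArg (e.symm.toLinearMap.rTensor A) h1
    rw [← LinearMap.comp_apply, ← LinearMap.rTensor_comp, LinearMap.rTensor_tmul] at h2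
    have : e.symm.toLinearMap ∘ₗ e.toLinearMap = LinearMap.id := by
      apply LinearMap.ext; intro z; simp
    rw [this, LinearMap.rTensor_id, LinearMap.id_apply] at h2
    exact h2
  have hxc : HomComod.Φ (W.mkQ.rTensor (Module.Dual k (V ⧸ W)) (e.symm x₁)) = LinearMap.id := by
    have : W.mkQ.rTensor (Module.Dual k (V ⧸ W)) (e.symm x₁) = c := hx₁c
    rw [this, hΦc]
  exact exists_isCompl_of_fixed W hW d hd (e.symm x₁) hfix hxc

end Main


section Converse

theorem lifting_of_isLinearlyReductive (k : Type u) [Field k] (A : Type v) [CommRing A]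
    [HopfAlgebra k A] (hG : HopfRep.IsLinearlyReductive k A) : Lifting k A := by
  intro E _ _ _ hfin π hsurj hπ
  letI : HopfRep.Comod k A k := HopfRep.Comod.trivial k A k
  have hπ' : Hoch.IsComodHom A π := hπ.symm
  have hK : HopfRep.IsSubcomod (k := k) (A := A) (LinearMap.ker π) := H93.isSubcomod_ker hπ'
  obtain ⟨L, hL, hKL⟩ := hG E hfin (LinearMap.ker π) hK
  have hinj : Function.Injective (π ∘ₗ L.subtype) := by
    rw [← LinearMap.ker_eq_bot, eq_bot_iff]
    intro l hl
    have h1 : (l : E) ∈ LinearMap.ker π ⊓ L := ⟨hl, l.2⟩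
    rw [hKL.inf_eq_bot, Submodule.mem_bot] at h1
    rw [Submodule.mem_bot]
    exact Subtype.ext h1
  have hinjA : Function.Injective ((π ∘ₗ L.subtype).rTensor A) :=
    Module.Flat.rTensor_preserves_injective_linearMap _ hinj
  have hfix : ∀ l ∈ L, l ∈ HopfRep.fixedPts k A E := by
    intro l hl
    obtain ⟨y, hy⟩ := hL l hl
    have h1 : (π ∘ₗ L.subtype).rTensor A y =
        (π ∘ₗ L.subtype).rTensor A ((⟨l, hl⟩ : L) ⊗ₜ[k] (1 : A)) := by
      rw [LinearMap.rTensor_comp, LinearMap.comp_apply, LinearMap.comp_apply, hy,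
        LinearMap.rTensor_tmul, LinearMap.rTensor_tmul]
      have := LinearMap.congr_fun hπ l
      simp only [LinearMap.comp_apply, LinearMap.flip_apply, TensorProduct.mk_apply] at this
      rw [this]
      rfl
    have h2 := hinjA h1
    change HopfRep.Comod.coact (k := k) (A := A) l = l ⊗ₜ[k] (1 : A)
    rw [← hy, h2, LinearMap.rTensor_tmul]
    rfl
  obtain ⟨x₀, hx₀⟩ := hsurj 1
  have hx₀top : x₀ ∈ LinearMap.ker π ⊔ L := by rw [hKL.sup_eq_top]; trivial
  obtain ⟨a, ha, l, hl, hal⟩ := Submodule.mem_sup.mp hx₀top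
  refine ⟨l, hfix l hl, ?_⟩
  have : π l = 1 := by
    rw [← hx₀, ← hal, map_add, LinearMap.mem_ker.mp ha, zero_add]
  rw [this]
  exact one_ne_zero

end Converse

end Groth.Agent.H40.LinRedCrit
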