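import Groth.Agent.H40.HochLib
import Groth.Agent.H40.LinRedCrit
import Groth.Agent.H40.LinRed

/-!
# `d¹ ∘ d⁰ = 0` and the `H¹` criterion for linear reductivity — helper40
-/

set_option autoImplicit false
universe u v

open TensorProduct

namespace Groth.Agent.H40

section DD

variable (k : Type u) [CommRing k] (A : Type v) [Ring A] [Bialgebra k A]
variable (V : Type v) [AddCommGroup V] [Module k V]

theorem tail_apply (y : V ⊗[k] A) :
    Hoch.tail k A V y =
      (TensorProduct.assoc k V A A).symm
          ((CoalgebraStruct.comul (R := k) (A := A)).lTensor V y) - y ⊗ₜ[k] (1 : A) -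
        ((TensorProduct.mk k V A).flip 1).rTensor A y := by
  induction y using TensorProduct.induction_on with
  | zero => simp
  | add y1 y2 h1 h2 =>
    simp only [map_add, TensorProduct.add_tmul, h1, h2]
    abel
  | tmul m a =>
    rw [Hoch.tail_tmul, TensorProduct.tmul_sub, TensorProduct.tmul_sub, map_sub, map_sub,
      TensorProduct.assoc_symm_tmul, TensorProduct.assoc_symm_tmul, LinearMap.lTensor_tmul,
      LinearMap.rTensor_tmul]
    rfl

variable [HopfRep.Comod k A V]

theorem d_one_d_zero (v : V) : Hoch.d k A V 1 (Hoch.d k A V 0 v) = 0 := by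
  have hco : (TensorProduct.assoc k V A A).symm
      ((CoalgebraStruct.comul (R := k) (A := A)).lTensor V
        (HopfRep.Comod.coact (k := k) (A := A) v)) =
      (HopfRep.Comod.coact (k := k) (A := A) (V := V)).rTensor A
        (HopfRep.Comod.coact (k := k) (A := A) v) := by
    have h := LinearMap.congr_fun (HopfRep.Comod.coassoc (k := k) (A := A) (V := V)) v
    simp only [LinearMap.comp_apply, LinearEquiv.coe_coe] at h
    rw [← h, LinearEquiv.symm_apply_apply]
  have h1 : Hoch.d k A V 1 = (Hoch.d k A V 0).rTensor A - Hoch.tail k A V := by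
    have h : Hoch.d k A V 1 = (Hoch.d k A V 0).rTensor A + ((-1 : k) ^ 1) • Hoch.tail k A V :=
      Hoch.d_succ k A V 0
    rw [h, pow_one]
    refine LinearMap.ext fun y => ?_
    rw [LinearMap.add_apply, LinearMap.sub_apply, LinearMap.smul_apply, neg_one_smul,
      sub_eq_add_neg]
  have h0 : Hoch.d k A V 0 = (HopfRep.Comod.coact (k := k) (A := A) : V →ₗ[k] V ⊗[k] A) -
      (TensorProduct.mk k V A).flip 1 := rfl
  have ht1 : Hoch.tail k A V (v ⊗ₜ[k] (1 : A)) = -((v ⊗ₜ[k] (1 : A)) ⊗ₜ[k] (1 : A)) := by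
    rw [Hoch.tail_tmul, Bialgebra.comul_one, Algebra.TensorProduct.one_def, sub_self, zero_sub,
      TensorProduct.tmul_neg, map_neg, TensorProduct.assoc_symm_tmul]
  rw [h1, LinearMap.sub_apply, Hoch.d_zero_apply, map_sub, map_sub, tail_apply, hco, ht1,
    LinearMap.rTensor_tmul, Hoch.d_zero_apply, h0, LinearMap.rTensor_sub, LinearMap.sub_apply,
    TensorProduct.sub_tmul]
  abel

end DD

section H1

variable {k : Type u} [Field k] {A : Type v} [CommRing A] [HopfAlgebra k A]

/-- vanishing of `H¹` on finite-dimensional comodules gives the lifting property -/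
theorem lifting_of_H1 (h : ∀ (V : Type v) [AddCommGroup V] [Module k V] [HopfRep.Comod k A V],
      Module.Finite k V → Hoch.cocycles k A V 1 ≤ Hoch.coboundaries k A V 1) :
    LinRedCrit.Lifting k A := by
  intro E _ _ _ hfin π hsurj hπ
  have hK : HopfRep.IsSubcomod (k := k) (A := A) (LinearMap.ker π) := by
    letI : HopfRep.Comod k A k := HopfRep.Comod.trivial k A k
    have hπ' : Hoch.IsComodHom A π := hπ.symm
    exact H93.isSubcomod_ker hπ'
  letI cK : HopfRep.Comod k A (LinearMap.ker π) := H62.subComod (LinearMap.ker π) hK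
  have hι : Hoch.IsComodHom A (LinearMap.ker π).subtype :=
    H62.isComodHom_subtype (LinearMap.ker π) hK
  obtain ⟨x₀, hx₀⟩ := hsurj 1
  have hπx : ∀ x : E, π.rTensor A (HopfRep.Comod.coact (k := k) (A := A) x) =
      (π x) ⊗ₜ[k] (1 : A) := by
    intro x
    have := LinearMap.congr_fun hπ x
    simpa using this
  -- the cocycle
  have hz : Hoch.d k A E 0 x₀ ∈ LinearMap.range ((LinearMap.ker π).subtype.rTensor A) := by
    rw [← H93.ker_rTensor_eq, LinearMap.mem_ker, Hoch.d_zero_apply, map_sub, hπx,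
      LinearMap.rTensor_tmul, sub_self]
  obtain ⟨z', hz'⟩ := hz
  have hinj2 : Function.Injective (((LinearMap.ker π).subtype.rTensor A).rTensor A) := by
    apply Module.Flat.rTensor_preserves_injective_linearMap
    apply Module.Flat.rTensor_preserves_injective_linearMap
    exact Submodule.injective_subtype _
  have hcocycle : z' ∈ Hoch.cocycles k A (LinearMap.ker π) 1 := by
    change Hoch.d k A (LinearMap.ker π) 1 z' = 0
    apply hinj2
    have h1 := LinearMap.congr_fun (d_comp_cmap k A hι 1) z'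
    simp only [LinearMap.comp_apply] at h1
    have h2 : cmap k A (LinearMap.ker π).subtype 1 z' = Hoch.d k A E 0 x₀ := hz'
    have h3 : cmap k A (LinearMap.ker π).subtype 2 (Hoch.d k A (LinearMap.ker π) 1 z') =
        ((LinearMap.ker π).subtype.rTensor A).rTensor A (Hoch.d k A (LinearMap.ker π) 1 z') := rfl
    rw [map_zero, ← h3, ← h1, h2, d_one_d_zero]
  obtain ⟨k₀, hk₀⟩ := h (LinearMap.ker π) (by infer_instance) hcocycle
  have h4 := LinearMap.congr_fun (d_comp_cmap k A hι 0) k₀
  simp only [LinearMap.comp_apply] at h4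
  have h5 : cmap k A (LinearMap.ker π).subtype 1 (Hoch.d k A (LinearMap.ker π) 0 k₀) =
      Hoch.d k A E 0 x₀ := by
    rw [hk₀]; exact hz'
  have h6 : cmap k A (LinearMap.ker π).subtype 0 k₀ = (k₀ : E) := rfl
  rw [h5, h6] at h4
  refine ⟨x₀ - (k₀ : E), ?_, ?_⟩
  · change HopfRep.Comod.coact (k := k) (A := A) (x₀ - (k₀ : E)) = (x₀ - (k₀ : E)) ⊗ₜ[k] (1 : A)
    have h7 : Hoch.d k A E 0 (x₀ - (k₀ : E)) = 0 := by rw [map_sub, h4, sub_self]
    rw [Hoch.d_zero_apply, sub_eq_zero] at h7
    exact h7
  · rw [map_sub, hx₀, LinearMap.mem_ker.mp k₀.2, sub_zero]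
    exact one_ne_zero

theorem isLinearlyReductive_iff_H1 :
    HopfRep.IsLinearlyReductive k A ↔
      ∀ (V : Type v) [AddCommGroup V] [Module k V] [HopfRep.Comod k A V], Module.Finite k V →
        Hoch.cocycles k A V 1 ≤ Hoch.coboundaries k A V 1 :=
  ⟨fun hG V _ _ _ _ => cocycles_le_coboundaries_of_linRed hG V 1 le_rfl,
    fun h => LinRedCrit.isLinearlyReductive_of_lifting k A (lifting_of_H1 h)⟩

end H1

end Groth.Agent.H40
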