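import Groth.Prelude.Def_ComodTens
import Groth.Prelude.Def_ComodDual
import Groth.Prelude.Def_Hoch
import Mathlib.LinearAlgebra.Contraction
import Mathlib.RingTheory.HopfAlgebra.Basic

/-!
# Invariants of `B ⊗ M^*` are the comodule maps `M → B` — helper40

For a commutative Hopf algebra `A` over a commutative ring `k`, comodules `B`, `M` and a contragredient
structure `d` on `M^*`: an element `x` of `B ⊗ M^*` is fixed by the tensor coaction iff the
corresponding map `M → B` is a comodule map — provided `dualTensorHom` is injective for `B ⊗ A`.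
-/

set_option autoImplicit false
universe u v w w'

open TensorProduct

namespace Groth.Agent.H40.HomComod

variable {k : Type u} [CommRing k] {A : Type v} [CommRing A] [HopfAlgebra k A]
variable {B : Type w} [AddCommGroup B] [Module k B] {M : Type w'} [AddCommGroup M] [Module k M]

section RightMul

variable (k A B) in
/-- right multiplication `(b ⊗ a) ⊗ a' ↦ b ⊗ a a'` -/
noncomputable def m₂ : (B ⊗[k] A) ⊗[k] A →ₗ[k] B ⊗[k] A :=
  (LinearMap.mul' k A).lTensor B ∘ₗ (TensorProduct.assoc k B A A).toLinearMap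

@[simp] theorem m₂_tmul (b : B) (a a' : A) :
    m₂ k A B ((b ⊗ₜ[k] a) ⊗ₜ[k] a') = b ⊗ₜ[k] (a * a') := by
  simp [m₂]

theorem m₂_assoc (y : B ⊗[k] A) (a a' : A) :
    m₂ k A B (m₂ k A B (y ⊗ₜ[k] a) ⊗ₜ[k] a') = m₂ k A B (y ⊗ₜ[k] (a * a')) := by
  induction y using TensorProduct.induction_on with
  | zero => simp
  | add y1 y2 h1 h2 => simp only [TensorProduct.add_tmul, map_add, h1, h2]
  | tmul b c => simp [mul_assoc]

theorem m₂_one (y : B ⊗[k] A) : m₂ k A B (y ⊗ₜ[k] (1 : A)) = y := by
  induction y using TensorProduct.induction_on with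
  | zero => simp
  | add y1 y2 h1 h2 => simp only [TensorProduct.add_tmul, map_add, h1, h2]
  | tmul b c => simp

theorem m₂_rTensor_rTensor (h : M →ₗ[k] B) :
    m₂ k A B ∘ₗ (h.rTensor A).rTensor A = h.rTensor A ∘ₗ m₂ k A M := by
  ext m a a'
  simp

end RightMul

section Twist

variable (cB : HopfRep.Comod k A B) (cM : HopfRep.Comod k A M)

/-- `Tw h m = Σ ρ(h m₀) · S m₁` -/
noncomputable def Tw (h : M →ₗ[k] B) : M →ₗ[k] B ⊗[k] A :=
  m₂ k A B ∘ₗ TensorProduct.map (cB.coact ∘ₗ h) (HopfAlgebraStruct.antipode (R := k) (A := A)) ∘ₗ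
    cM.coact

theorem Tw_add (h h' : M →ₗ[k] B) : Tw cB cM (h + h') = Tw cB cM h + Tw cB cM h' := by
  simp only [Tw, LinearMap.comp_add, TensorProduct.map_add_left, LinearMap.add_comp]

theorem Tw_zero : Tw cB cM (0 : M →ₗ[k] B) = 0 := by
  simp only [Tw, LinearMap.comp_zero, TensorProduct.map_zero_left, LinearMap.zero_comp]

theorem coassoc_symm_apply (m : M) :
    cM.coact.rTensor A (cM.coact m) =
      (TensorProduct.assoc k M A A).symm
        ((CoalgebraStruct.comul (R := k) (A := A)).lTensor M (cM.coact m)) := by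
  have h := LinearMap.congr_fun cM.coassoc m
  simp only [LinearMap.comp_apply, LinearEquiv.coe_coe] at h
  rw [← h, LinearEquiv.symm_apply_apply]

theorem counit_apply (m : M) :
    (CoalgebraStruct.counit (R := k) (A := A)).lTensor M (cM.coact m) = m ⊗ₜ[k] (1 : k) := by
  have h := LinearMap.congr_fun cM.counit_comp m
  simpa using h

/-- (IIa) for a comodule map `h`, `Tw h m = h m ⊗ 1`. -/
theorem Tw_of_isComodHom (h : M →ₗ[k] B) (hh : cB.coact ∘ₗ h = h.rTensor A ∘ₗ cM.coact) (m : M) :
    Tw cB cM h m = h m ⊗ₜ[k] (1 : A) := by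
  have e1 : TensorProduct.map (cB.coact ∘ₗ h) (HopfAlgebraStruct.antipode (R := k) (A := A)) =
      (h.rTensor A).rTensor A ∘ₗ
        (HopfAlgebraStruct.antipode (R := k) (A := A)).lTensor (M ⊗[k] A) ∘ₗ cM.coact.rTensor A := by
    rw [hh]
    apply TensorProduct.ext'
    intro x a
    simp
  have e2 : m₂ k A M ∘ₗ (HopfAlgebraStruct.antipode (R := k) (A := A)).lTensor (M ⊗[k] A) ∘ₗ
      (TensorProduct.assoc k M A A).symm.toLinearMap =
      (LinearMap.mul' k A ∘ₗ (HopfAlgebraStruct.antipode (R := k) (A := A)).lTensor A).lTensor M := by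
    ext x a a'
    simp
  have e3 := LinearMap.congr_fun e2
    ((CoalgebraStruct.comul (R := k) (A := A)).lTensor M (cM.coact m))
  simp only [LinearMap.comp_apply, LinearEquiv.coe_coe] at e3
  rw [Tw, e1]
  simp only [LinearMap.comp_apply]
  rw [coassoc_symm_apply]
  have e4 := LinearMap.congr_fun (m₂_rTensor_rTensor (k := k) (A := A) h)
    ((HopfAlgebraStruct.antipode (R := k) (A := A)).lTensor (M ⊗[k] A)
      ((TensorProduct.assoc k M A A).symm
        ((CoalgebraStruct.comul (R := k) (A := A)).lTensor M (cM.coact m))))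
  simp only [LinearMap.comp_apply] at e4
  rw [e4, e3]
  have e5 : (LinearMap.mul' k A ∘ₗ (HopfAlgebraStruct.antipode (R := k) (A := A)).lTensor A) ∘ₗ
      CoalgebraStruct.comul (R := k) (A := A) =
      Algebra.linearMap k A ∘ₗ CoalgebraStruct.counit (R := k) (A := A) := by
    rw [LinearMap.comp_assoc]
    exact HopfAlgebra.mul_antipode_lTensor_comul
  have e6 : (LinearMap.mul' k A ∘ₗ
      (HopfAlgebraStruct.antipode (R := k) (A := A)).lTensor A).lTensor M
        ((CoalgebraStruct.comul (R := k) (A := A)).lTensor M (cM.coact m)) =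
      (Algebra.linearMap k A).lTensor M
        ((CoalgebraStruct.counit (R := k) (A := A)).lTensor M (cM.coact m)) := by
    rw [← LinearMap.comp_apply, ← LinearMap.lTensor_comp, e5, LinearMap.lTensor_comp,
      LinearMap.comp_apply]
  rw [e6, counit_apply]
  simp

/-- (IIb) if `Tw h m = h m ⊗ 1` for all `m` then `h` is a comodule map. -/
theorem isComodHom_of_Tw (h : M →ₗ[k] B) (hT : ∀ m, Tw cB cM h m = h m ⊗ₜ[k] (1 : A)) :
    cB.coact ∘ₗ h = h.rTensor A ∘ₗ cM.coact := by
  apply LinearMap.ext
  intro m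
  have hL : ∀ t : M ⊗[k] A, m₂ k A B ((Tw cB cM h).rTensor A t) = h.rTensor A t := by
    intro t
    induction t using TensorProduct.induction_on with
    | zero => simp
    | add t1 t2 h1 h2 => simp only [map_add, h1, h2]
    | tmul x a => simp [hT]
  have e1 : m₂ k A B ∘ₗ (m₂ k A B).rTensor A ∘ₗ
      (TensorProduct.map (cB.coact ∘ₗ h)
        (HopfAlgebraStruct.antipode (R := k) (A := A))).rTensor A ∘ₗ
          (TensorProduct.assoc k M A A).symm.toLinearMap =
      m₂ k A B ∘ₗ TensorProduct.map (cB.coact ∘ₗ h)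
        (LinearMap.mul' k A ∘ₗ (HopfAlgebraStruct.antipode (R := k) (A := A)).rTensor A) := by
    ext x a a'
    simp [m₂_assoc]
  have e2 : (Tw cB cM h).rTensor A = (m₂ k A B).rTensor A ∘ₗ
      (TensorProduct.map (cB.coact ∘ₗ h)
        (HopfAlgebraStruct.antipode (R := k) (A := A))).rTensor A ∘ₗ cM.coact.rTensor A := by
    rw [Tw, LinearMap.rTensor_comp, LinearMap.rTensor_comp]
  have e3 := LinearMap.congr_fun e1
    ((CoalgebraStruct.comul (R := k) (A := A)).lTensor M (cM.coact m))
  simp only [LinearMap.comp_apply, LinearEquiv.coe_coe] at e3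
  have e5 : (LinearMap.mul' k A ∘ₗ (HopfAlgebraStruct.antipode (R := k) (A := A)).rTensor A) ∘ₗ
      CoalgebraStruct.comul (R := k) (A := A) =
      Algebra.linearMap k A ∘ₗ CoalgebraStruct.counit (R := k) (A := A) := by
    rw [LinearMap.comp_assoc]
    exact HopfAlgebra.mul_antipode_rTensor_comul
  have e6 : TensorProduct.map (cB.coact ∘ₗ h)
      (LinearMap.mul' k A ∘ₗ (HopfAlgebraStruct.antipode (R := k) (A := A)).rTensor A)
        ((CoalgebraStruct.comul (R := k) (A := A)).lTensor M (cM.coact m)) =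
      TensorProduct.map (cB.coact ∘ₗ h) (Algebra.linearMap k A)
        ((CoalgebraStruct.counit (R := k) (A := A)).lTensor M (cM.coact m)) := by
    rw [LinearMap.lTensor, ← LinearMap.comp_apply, ← TensorProduct.map_comp, LinearMap.comp_id,
      e5, ← LinearMap.comp_id (cB.coact ∘ₗ h), TensorProduct.map_comp, LinearMap.comp_apply,
      LinearMap.comp_id]
    rfl
  rw [LinearMap.comp_apply, LinearMap.comp_apply, ← hL, e2]
  simp only [LinearMap.comp_apply]
  rw [coassoc_symm_apply, e3, e6, counit_apply]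
  simp [m₂_one]

end Twist


section Eval

/-- contraction with `m : M`: `b ⊗ φ ↦ φ m • b` -/
noncomputable def cm (B : Type w) [AddCommGroup B] [Module k B] (m : M) :
    B ⊗[k] Module.Dual k M →ₗ[k] B :=
  (TensorProduct.rid k B).toLinearMap ∘ₗ (Module.Dual.eval k M m).lTensor B

@[simp] theorem cm_tmul (m : M) (b : B) (φ : Module.Dual k M) :
    cm B m (b ⊗ₜ[k] φ) = φ m • b := by
  simp [cm]

/-- the map `M → B` attached to `x ∈ B ⊗ M^*` -/
noncomputable def Φ (x : B ⊗[k] Module.Dual k M) : M →ₗ[k] B :=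
  dualTensorHom k M B (TensorProduct.comm k B (Module.Dual k M) x)

theorem Φ_apply (x : B ⊗[k] Module.Dual k M) (m : M) : Φ x m = cm B m x := by
  induction x using TensorProduct.induction_on with
  | zero => simp [Φ]
  | add x y hx hy => simp only [Φ, map_add, LinearMap.add_apply] at hx hy ⊢; rw [hx, hy]
  | tmul b φ => simp [Φ]

theorem Φ_add (x y : B ⊗[k] Module.Dual k M) : Φ (x + y) = Φ x + Φ y := by
  simp [Φ]

theorem Φ_zero : Φ (0 : B ⊗[k] Module.Dual k M) = 0 := by
  simp [Φ]

theorem Φ_tmul (b : B) (φ : Module.Dual k M) (m : M) : Φ (b ⊗ₜ[k] φ) m = φ m • b := by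
  rw [Φ_apply, cm_tmul]

end Eval

section Main

variable (cB : HopfRep.Comod k A B) (cM : HopfRep.Comod k A M)
  (d : HopfRep.Comod k A (Module.Dual k M)) (hd : ComodTens.Comod.IsDual cM d)

theorem rTensor_cm_tensor_aux (m : M) (y : B ⊗[k] A) (z : Module.Dual k M ⊗[k] A) :
    (cm B m).rTensor A
      (TensorProduct.map LinearMap.id (LinearMap.mul' k A)
        (AlgebraTensorModule.tensorTensorTensorComm k k k k B A (Module.Dual k M) A (y ⊗ₜ[k] z))) =
      m₂ k A B (y ⊗ₜ[k] (dualTensorHom k M A z m)) := by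
  induction y using TensorProduct.induction_on with
  | zero => simp
  | add y1 y2 h1 h2 => simp only [TensorProduct.add_tmul, map_add, h1, h2]
  | tmul b a =>
    induction z using TensorProduct.induction_on with
    | zero => simp
    | add z1 z2 h1 h2 =>
      simp only [TensorProduct.tmul_add, map_add, h1, h2, LinearMap.add_apply]
    | tmul ψ a' =>
      simp only [AlgebraTensorModule.tensorTensorTensorComm_tmul, TensorProduct.map_tmul,
        LinearMap.id_apply, LinearMap.mul'_apply, LinearMap.rTensor_tmul, cm_tmul,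
        dualTensorHom_apply, m₂_tmul, TensorProduct.smul_tmul', TensorProduct.tmul_smul,
        mul_smul_comm]

theorem Tw_Φ_tmul_aux (b : B) (φ : Module.Dual k M) (t : M ⊗[k] A) :
    m₂ k A B (TensorProduct.map (cB.coact ∘ₗ Φ (b ⊗ₜ[k] φ))
        (HopfAlgebraStruct.antipode (R := k) (A := A)) t) =
      m₂ k A B (cB.coact b ⊗ₜ[k]
        (TensorProduct.lid k A
          (TensorProduct.map φ (HopfAlgebraStruct.antipode (R := k) (A := A)) t))) := by
  induction t using TensorProduct.induction_on with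
  | zero => simp
  | add t1 t2 h1 h2 => simp only [map_add, TensorProduct.tmul_add, h1, h2]
  | tmul x a =>
    simp only [TensorProduct.map_tmul, LinearMap.comp_apply, Φ_tmul, map_smul,
      TensorProduct.lid_tmul, TensorProduct.smul_tmul', TensorProduct.tmul_smul]

include hd in
/-- (I) -/
theorem rTensor_cm_tensor_coact (x : B ⊗[k] Module.Dual k M) (m : M) :
    (cm B m).rTensor A ((ComodTens.Comod.tensor cB d).coact x) = Tw cB cM (Φ x) m := by
  induction x using TensorProduct.induction_on with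
  | zero => simp [Φ_zero, Tw_zero]
  | add x y hx hy => rw [map_add, map_add, hx, hy, Φ_add, Tw_add, LinearMap.add_apply]
  | tmul b φ =>
    rw [ComodTens.tensor_coact_tmul, rTensor_cm_tensor_aux, hd φ, Tw]
    simp only [LinearMap.comp_apply]
    rw [Tw_Φ_tmul_aux]
    rfl

include hd in
/-- fixed vectors of `B ⊗ M^*` give comodule maps -/
theorem isComodHom_Φ_of_mem_fixedPts (x : B ⊗[k] Module.Dual k M)
    (hx : x ∈ @HopfRep.fixedPts k A _ _ _ (B ⊗[k] Module.Dual k M) _ _
      (ComodTens.Comod.tensor cB d)) :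
    cB.coact ∘ₗ Φ x = (Φ x).rTensor A ∘ₗ cM.coact := by
  apply isComodHom_of_Tw
  intro m
  have hx' : (ComodTens.Comod.tensor cB d).coact x = x ⊗ₜ[k] (1 : A) := hx
  rw [← rTensor_cm_tensor_coact cB cM d hd, hx', LinearMap.rTensor_tmul, Φ_apply]

include hd in
/-- comodule maps give fixed vectors, provided evaluation is injective on `(B ⊗ M^*) ⊗ A` -/
theorem mem_fixedPts_of_isComodHom_Φ
    (hinj : ∀ X : (B ⊗[k] Module.Dual k M) ⊗[k] A, (∀ m : M, (cm B m).rTensor A X = 0) → X = 0)
    (x : B ⊗[k] Module.Dual k M)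
    (hx : cB.coact ∘ₗ Φ x = (Φ x).rTensor A ∘ₗ cM.coact) :
    x ∈ @HopfRep.fixedPts k A _ _ _ (B ⊗[k] Module.Dual k M) _ _
      (ComodTens.Comod.tensor cB d) := by
  change (ComodTens.Comod.tensor cB d).coact x = x ⊗ₜ[k] (1 : A)
  rw [← sub_eq_zero]
  apply hinj
  intro m
  rw [map_sub, sub_eq_zero, rTensor_cm_tensor_coact cB cM d hd, Tw_of_isComodHom cB cM _ hx,
    LinearMap.rTensor_tmul, Φ_apply]

end Main


section Inj

/-- `(b ⊗ φ) ⊗ a ↦ φ ⊗ (b ⊗ a)` -/
noncomputable def reassoc (A : Type v) [CommRing A] [Algebra k A] (B : Type w) [AddCommGroup B]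
    [Module k B] (M : Type w') [AddCommGroup M] [Module k M] :
    (B ⊗[k] Module.Dual k M) ⊗[k] A ≃ₗ[k] Module.Dual k M ⊗[k] (B ⊗[k] A) :=
  (TensorProduct.congr (TensorProduct.comm k B (Module.Dual k M)) (LinearEquiv.refl k A)).trans
    (TensorProduct.assoc k (Module.Dual k M) B A)

theorem dualTensorHom_reassoc (X : (B ⊗[k] Module.Dual k M) ⊗[k] A) (m : M) :
    dualTensorHom k M (B ⊗[k] A) (reassoc A B M X) m = (cm B m).rTensor A X := by
  induction X using TensorProduct.induction_on with
  | zero => simp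
  | add X Y hX hY => simp only [map_add, LinearMap.add_apply, hX, hY]
  | tmul x a =>
    induction x using TensorProduct.induction_on with
    | zero => simp
    | add x y hx hy =>
      simp only [TensorProduct.add_tmul, map_add, LinearMap.add_apply, hx, hy]
    | tmul b φ =>
      simp [reassoc, TensorProduct.smul_tmul']

theorem hinj_of_injective (h : Function.Injective (dualTensorHom k M (B ⊗[k] A)))
    (X : (B ⊗[k] Module.Dual k M) ⊗[k] A) (hX : ∀ m : M, (cm B m).rTensor A X = 0) : X = 0 := by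
  apply (reassoc A B M).injective
  apply h
  rw [map_zero, map_zero]
  apply LinearMap.ext
  intro m
  rw [dualTensorHom_reassoc, hX, LinearMap.zero_apply]

end Inj

section BijOn

variable (cB : HopfRep.Comod k A B) (cM : HopfRep.Comod k A M)
  (d : HopfRep.Comod k A (Module.Dual k M)) (hd : ComodTens.Comod.IsDual cM d)

include hd in
/-- the general form of the bijection between invariants of `B ⊗ M^*` and comodule maps -/
theorem bijOn_fixedPts (h1 : Function.Bijective (dualTensorHom k M B))
    (h2 : Function.Injective (dualTensorHom k M (B ⊗[k] A))) :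
    Set.BijOn
      (fun x : B ⊗[k] Module.Dual k M =>
        dualTensorHom k M B (TensorProduct.comm k B (Module.Dual k M) x))
      ((@HopfRep.fixedPts k A _ _ _ (B ⊗[k] Module.Dual k M) _ _ (ComodTens.Comod.tensor cB d)) :
        Set (B ⊗[k] Module.Dual k M))
      {h : M →ₗ[k] B | @Hoch.IsComodHom k _ A _ _ _ M _ _ cM B _ _ cB h} := by
  refine ⟨?_, ?_, ?_⟩
  · intro x hx
    exact isComodHom_Φ_of_mem_fixedPts cB cM d hd x hx
  · intro x _ y _ hxy
    exact (TensorProduct.comm k B (Module.Dual k M)).injective (h1.1 hxy)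
  · intro h hh
    obtain ⟨y, hy⟩ := h1.2 h
    refine ⟨(TensorProduct.comm k B (Module.Dual k M)).symm y, ?_, ?_⟩
    · apply mem_fixedPts_of_isComodHom_Φ cB cM d hd (hinj_of_injective h2)
      have : Φ ((TensorProduct.comm k B (Module.Dual k M)).symm y) = h := by
        rw [Φ, LinearEquiv.apply_symm_apply, hy]
      rw [this]
      exact hh
    · simp only [LinearEquiv.apply_symm_apply, hy]

end BijOn

end Groth.Agent.H40.HomComod
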