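import Mathlib
import Groth.Prelude.Def_ProCons
import Groth.Agent.H17.ProCons

/-!
# Closed points in ind-constructible subsets of Jacobson spaces — helper40
-/

set_option autoImplicit false
open Topology Set

namespace Groth.Agent.H40.IndConsPt

variable {X : Type*} [TopologicalSpace X]

/-- a constructible set containing (resp. missing) `x` contains (resp. misses) a neighbourhood of
`x` in `closure {x}` -/
theorem gp {s : Set X} (hs : IsConstructible s) (x : X) :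
    (x ∈ s → ∃ W : Set X, IsOpen W ∧ x ∈ W ∧ W ∩ closure {x} ⊆ s) ∧
    (x ∉ s → ∃ W : Set X, IsOpen W ∧ x ∈ W ∧ W ∩ closure {x} ⊆ sᶜ) := by
  induction hs using IsConstructible.empty_union_induction with
  | open_retrocompact U hUo hUc =>
    refine ⟨fun hx => ⟨U, hUo, hx, inter_subset_left⟩,
      fun hx => ⟨univ, isOpen_univ, mem_univ _, ?_⟩⟩
    rintro y ⟨-, hy⟩ hyU
    obtain ⟨x', hx'U, hx'⟩ := mem_closure_iff.mp hy U hUo hyU
    rw [mem_singleton_iff] at hx'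
    exact hx (hx' ▸ hx'U)
  | union s hs t ht ihs iht =>
    refine ⟨fun hx => ?_, fun hx => ?_⟩
    · rcases hx with hx | hx
      · obtain ⟨W, hW, hxW, hWs⟩ := ihs.1 hx
        exact ⟨W, hW, hxW, hWs.trans subset_union_left⟩
      · obtain ⟨W, hW, hxW, hWs⟩ := iht.1 hx
        exact ⟨W, hW, hxW, hWs.trans subset_union_right⟩
    · have hxs : x ∉ s := fun h => hx (Or.inl h)
      have hxt : x ∉ t := fun h => hx (Or.inr h)
      obtain ⟨W, hW, hxW, hWs⟩ := ihs.2 hxs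
      obtain ⟨W', hW', hxW', hWs'⟩ := iht.2 hxt
      refine ⟨W ∩ W', hW.inter hW', ⟨hxW, hxW'⟩, ?_⟩
      rintro y ⟨⟨hy, hy'⟩, hyc⟩ (h | h)
      · exact hWs ⟨hy, hyc⟩ h
      · exact hWs' ⟨hy', hyc⟩ h
  | compl s hs ih =>
    refine ⟨fun hx => ih.2 hx, fun hx => ?_⟩
    rw [compl_compl]
    exact ih.1 (not_not.mp hx)

theorem exists_locallyClosed_of_locallyConstructible {T : Set X}
    (hT : IsLocallyConstructible T) {x : X} (hx : x ∈ T) :
    ∃ L : Set X, L ⊆ T ∧ x ∈ L ∧ IsLocallyClosed L := by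
  obtain ⟨V, hV, hVo, hc⟩ := hT x
  have hxV : x ∈ V := mem_of_mem_nhds hV
  obtain ⟨W, hWo, hxW, hWs⟩ := (gp hc ⟨x, hxV⟩).1 hx
  refine ⟨Subtype.val '' (W ∩ closure {⟨x, hxV⟩}), ?_,
    ⟨⟨x, hxV⟩, ⟨hxW, subset_closure rfl⟩, rfl⟩, ?_⟩
  · rintro _ ⟨y, hy, rfl⟩
    exact hWs hy
  · refine (hWo.isLocallyClosed.inter isClosed_closure.isLocallyClosed).image
      hVo.isOpenEmbedding_subtypeVal.isInducing ?_
    rw [Subtype.range_coe]
    exact hVo.isLocallyClosed

theorem exists_locallyClosed_of_indConstructible {C : Set X}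
    (hC : ProCons.IsIndConstructible C) {x : X} (hx : x ∈ C) :
    ∃ L : Set X, L ⊆ C ∧ x ∈ L ∧ IsLocallyClosed L := by
  obtain ⟨U, hUo, hxU, S, hS, hCS⟩ := hC x
  have hx' : (⟨x, hxU⟩ : U) ∈ (Subtype.val ⁻¹' C : Set U) := hx
  rw [hCS] at hx'
  obtain ⟨T, hTS, hxT⟩ := hx'
  obtain ⟨L, hLT, hxL, hL⟩ := exists_locallyClosed_of_locallyConstructible (hS T hTS) hxT
  refine ⟨Subtype.val '' L, ?_, ⟨_, hxL, rfl⟩,
    hL.image hUo.isOpenEmbedding_subtypeVal.isInducing ?_⟩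
  · rintro _ ⟨y, hy, rfl⟩
    have h1 : y ∈ ⋃₀ S := ⟨T, hTS, hLT hy⟩
    rw [← hCS] at h1
    exact h1
  · rw [Subtype.range_coe]
    exact hUo.isLocallyClosed

/-- in a Jacobson space, a point of the intersection of two ind-constructible sets can be replaced
by a closed point -/
theorem exists_closedPoint_inter [JacobsonSpace X] {A B : Set X}
    (hA : ProCons.IsIndConstructible A) (hB : ProCons.IsIndConstructible B) {x : X}
    (hxA : x ∈ A) (hxB : x ∈ B) : ∃ y : X, y ∈ A ∧ y ∈ B ∧ IsClosed ({y} : Set X) := by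
  obtain ⟨L, hLA, hxL, hL⟩ := exists_locallyClosed_of_indConstructible hA hxA
  obtain ⟨L', hLB, hxL', hL'⟩ := exists_locallyClosed_of_indConstructible hB hxB
  obtain ⟨y, ⟨hyL, hyL'⟩, hy⟩ := nonempty_inter_closedPoints (Z := L ∩ L') ⟨x, hxL, hxL'⟩
    (hL.inter hL')
  exact ⟨y, hLA hyL, hLB hyL', hy⟩

end Groth.Agent.H40.IndConsPt
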