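import Mathlib
import Groth.Prelude.Def_PBC

/-! Extraction of finitely many elements and relations from an ind-Zariski algebra
(converse of `Groth.Agent.H48.IndZar.isIndZariski_of_tuples`), requested by helper48. -/

set_option autoImplicit false
universe u
open CategoryTheory CategoryTheory.Limits

namespace Groth.Agent.H40.IndZarTup

attribute [local instance] IsFiltered.isConnected

theorem tuples_of_isIndZariski {A B : Type u} [CommRing A] [CommRing B] [Algebra A B]
    (h : EtPBC.IsIndZariski A B) (n : ℕ) (x : Fin n → B)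
    (s : Finset (MvPolynomial (Fin n) A)) (hs : ∀ p ∈ s, MvPolynomial.aeval x p = 0) :
    ∃ (E : Type u) (_ : CommRing E) (_ : Algebra A E) (_ : Algebra.IsLocalIso A E)
      (b : E →ₐ[A] B) (y : Fin n → E), (∀ i, b (y i) = x i) ∧
        ∀ p ∈ s, MvPolynomial.aeval y p = 0 := by
  obtain ⟨J, _, _, D, c, hc, hD, ⟨e⟩⟩ := h
  let I : Ideal (MvPolynomial (Fin n) A) := Ideal.span (s : Set (MvPolynomial (Fin n) A))
  have hP : Algebra.FinitePresentation A (MvPolynomial (Fin n) A ⧸ I) :=
    Algebra.FinitePresentation.quotient ⟨s, rfl⟩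
  have hle : ∀ a ∈ I, MvPolynomial.aeval x a = 0 := by
    intro a ha
    have : I ≤ RingHom.ker (MvPolynomial.aeval x : MvPolynomial (Fin n) A →ₐ[A] B).toRingHom :=
      Ideal.span_le.2 (fun p hp => hs p hp)
    exact this ha
  let g₀ : (MvPolynomial (Fin n) A ⧸ I) →ₐ[A] B :=
    Ideal.Quotient.liftₐ I (MvPolynomial.aeval x) hle
  let f : CommRingCat.of A ⟶ CommRingCat.of (MvPolynomial (Fin n) A ⧸ I) :=
    CommRingCat.ofHom (algebraMap A (MvPolynomial (Fin n) A ⧸ I))
  let g : CommRingCat.of (MvPolynomial (Fin n) A ⧸ I) ⟶ c.pt.right :=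
    CommRingCat.ofHom g₀.toRingHom ≫ e.inv.right
  let α : (Functor.const J).obj (CommRingCat.of A) ⟶ D ⋙ Under.forget (CommRingCat.of A) :=
    { app := fun j => (D.obj j).hom
      naturality := fun j j' u => by
        simp only [Functor.const_obj_obj, Functor.const_obj_map, Category.id_comp,
          Functor.comp_obj, Under.forget_obj, Functor.comp_map, Under.forget_map]
        exact (Under.w (D.map u)).symm }
  haveI : PreservesColimitsOfShape J (forget CommRingCat.{u}) :=
    PreservesFilteredColimitsOfSize.preserves_filtered_colimits J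
  have hfp : f.hom.FinitePresentation := RingHom.finitePresentation_algebraMap.2 hP
  have hg : ∀ i, f ≫ g = α.app i ≫ ((Under.forget (CommRingCat.of A)).mapCocone c).ι.app i := by
    intro i
    have h1 : α.app i ≫ ((Under.forget (CommRingCat.of A)).mapCocone c).ι.app i = c.pt.hom :=
      Under.w (c.ι.app i)
    rw [h1]
    have h2 : f ≫ CommRingCat.ofHom g₀.toRingHom = CommRingCat.ofHom (algebraMap A B) := by
      ext a
      exact g₀.commutes a
    have h3 : CommRingCat.ofHom (algebraMap A B) ≫ e.inv.right = c.pt.hom := Under.w e.inv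
    calc f ≫ g = (f ≫ CommRingCat.ofHom g₀.toRingHom) ≫ e.inv.right :=
          (Category.assoc _ _ _).symm
      _ = c.pt.hom := by rw [h2]; exact h3
  obtain ⟨i, g', hg'1, hg'2⟩ := RingHom.EssFiniteType.exists_eq_comp_ι_app_of_isColimit
    (CommRingCat.of A) (D ⋙ Under.forget (CommRingCat.of A)) α f
    ((Under.forget (CommRingCat.of A)).mapCocone c)
    (isColimitOfPreserves (Under.forget (CommRingCat.of A)) hc) hfp g hg
  letI : Algebra A (D.obj i).right := (D.obj i).hom.hom.toAlgebra
  -- the structure map to `B`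
  have hbcomm : (D.obj i).hom ≫ (c.ι.app i).right ≫ e.hom.right =
      CommRingCat.ofHom (algebraMap A B) := by
    rw [← Category.assoc, Under.w (c.ι.app i)]
    exact Under.w e.hom
  let b : (D.obj i).right →ₐ[A] B :=
    { ((c.ι.app i).right ≫ e.hom.right).hom with
      commutes' := fun a => congrArg (fun m => m.hom a) hbcomm }
  let g'' : (MvPolynomial (Fin n) A ⧸ I) →ₐ[A] (D.obj i).right :=
    { g'.hom with commutes' := fun a => congrArg (fun m => m.hom a) hg'1 }
  refine ⟨(D.obj i).right, inferInstance, inferInstance, hD i, b,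
    fun k => g'' (Ideal.Quotient.mk I (MvPolynomial.X k)), ?_, ?_⟩
  · intro k
    have h4 : g ≫ e.hom.right = CommRingCat.ofHom g₀.toRingHom := by
      simp only [g, Category.assoc]
      rw [← Under.comp_right, e.inv_hom_id]
      exact Category.comp_id _
    have h5 : g' ≫ (c.ι.app i).right ≫ e.hom.right = CommRingCat.ofHom g₀.toRingHom := by
      rw [← h4, hg'2]
      rfl
    have h6 := congrArg (fun m => m.hom (Ideal.Quotient.mk I (MvPolynomial.X k))) h5
    refine h6.trans ?_
    change g₀ (Ideal.Quotient.mk I (MvPolynomial.X k)) = x k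
    simp [g₀]
  · intro p hp
    have h7 : MvPolynomial.aeval (fun k => g'' (Ideal.Quotient.mk I (MvPolynomial.X k))) =
        (g''.comp (Ideal.Quotient.mkₐ A I)).comp (MvPolynomial.aeval MvPolynomial.X) := by
      rw [MvPolynomial.comp_aeval]
      rfl
    rw [h7, AlgHom.comp_apply, MvPolynomial.aeval_X_left_apply, AlgHom.comp_apply]
    have : (Ideal.Quotient.mkₐ A I) p = 0 := by
      rw [Ideal.Quotient.mkₐ_eq_mk, Ideal.Quotient.eq_zero_iff_mem]
      exact Ideal.subset_span hp
    rw [this, map_zero]

end Groth.Agent.H40.IndZarTup
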