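import Mathlib
import Groth.Prelude.Def_DDual2
import Groth.Agent.H12.DualDepth
set_option autoImplicit false
universe u
open CategoryTheory Limits MonoidalCategory
attribute [local instance] HasDerivedCategory.standard

namespace Groth.Agent.H40.Inv2_NEQ

open ZeroObject

/-- An object of the derived category is zero iff all its cohomology objects are. -/
theorem isZero_of_homology {A : Type u} [CommRing A] (K : Dual.D A)
    (h : ∀ i : ℤ, IsZero ((DerivedCategory.homologyFunctor (ModuleCat.{u} A) i).obj K)) :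
    IsZero K := by
  have : IsIso (0 : K ⟶ 0) := by
    rw [DerivedCategory.isIso_iff]
    intro n
    exact ⟨0, (h n).eq_of_src _ _,
      (Functor.map_isZero (DerivedCategory.homologyFunctor _ n) (isZero_zero _)).eq_of_src _ _⟩
  exact IsZero.of_iso (isZero_zero _) (asIso (0 : K ⟶ 0))

/-- `H^i(K⟦n⟧) ≅ H^{i+n}(K)`. -/
noncomputable def hShift {A : Type u} [CommRing A] (K : Dual.D A) (n i j : ℤ) (h : n + i = j) :
    (DerivedCategory.homologyFunctor (ModuleCat.{u} A) i).obj (K⟦n⟧) ≅
      (DerivedCategory.homologyFunctor (ModuleCat.{u} A) j).obj K :=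
  ((DerivedCategory.homologyFunctor (ModuleCat.{u} A) 0).shiftIso n i j h).app K

theorem subsingleton_iff_of_iso {A : Type u} [CommRing A] {M N : ModuleCat.{u} A} (e : M ≅ N) :
    Subsingleton M ↔ Subsingleton N := by
  constructor
  · intro h
    exact e.toLinearEquiv.symm.toEquiv.subsingleton
  · intro h
    exact e.toLinearEquiv.toEquiv.subsingleton

theorem NEQ (A : Type u) [CommRing A] [Nontrivial A] (ω₁ ω₂ : Dual.D A)
    (h₁ : Dual.IsDualizing A ω₁)
    (hsupp : ∀ i : ℤ, Subsingleton (Dual.HD A ω₁ i) ↔ Subsingleton (Dual.HD A ω₂ i))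
    (n n' : ℤ) (e : ω₁⟦n⟧ ≅ ω₂⟦n'⟧) : n = n' := by
  -- the set of non-vanishing degrees
  let S : Set ℤ := {i | ¬ Subsingleton (Dual.HD A ω₁ i)}
  -- bounded
  obtain ⟨a, b, hab⟩ := h₁.finite_injective_dimension
  have hbd : ∀ i ∈ S, a ≤ i ∧ i ≤ b := by
    intro i hi
    by_contra hcon
    apply hi
    have hi' : i < a ∨ b < i := by omega
    have hs := hab A i hi'
    have hv : Groth.Agent.H12.DualDepth.Van ω₁ i (ModuleCat.of A A) :=
      (Groth.Agent.H12.DualDepth.van_iff_subsingleton ω₁ i (ModuleCat.of A A)).2 hs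
    have hz := Groth.Agent.H12.DualDepth.isZero_homology_of_van (W := ω₁) i hv
    exact ModuleCat.subsingleton_of_isZero hz
  -- nonempty
  have hne : ∃ i, i ∈ S := by
    by_contra hcon
    push Not at hcon
    have hz : IsZero ω₁ := by
      apply isZero_of_homology
      intro i
      have : Subsingleton (Dual.HD A ω₁ i) := by
        by_contra h
        exact hcon i h
      exact ModuleCat.isZero_of_subsingleton _
    have h10 : (1 : A) • 𝟙 ω₁ = (0 : A) • 𝟙 ω₁ := hz.eq_of_src _ _
    exact one_ne_zero (h₁.toEnd_bijective.1 h10)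
  -- translation invariance
  have htr : ∀ i : ℤ, (n + i) ∈ S ↔ (n' + i) ∈ S := by
    intro i
    have e1 := hShift ω₁ n i (n + i) rfl
    have e2 := hShift ω₂ n' i (n' + i) rfl
    have e3 := (DerivedCategory.homologyFunctor (ModuleCat.{u} A) i).mapIso e
    have e4 := e1.symm ≪≫ e3 ≪≫ e2
    have := subsingleton_iff_of_iso e4
    show ¬ Subsingleton (Dual.HD A ω₁ (n + i)) ↔ ¬ Subsingleton (Dual.HD A ω₁ (n' + i))
    rw [hsupp (n' + i)]
    exact not_congr this
  by_contra hnn
  obtain ⟨i₀, hi₀⟩ := hne
  -- S is invariant under translation by d = n' - n and -d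
  have hplus : ∀ k : ℕ, ∀ i ∈ S, i + k * (n' - n) ∈ S ∧ i - k * (n' - n) ∈ S := by
    intro k
    induction k with
    | zero => intro i hi; simpa using hi
    | succ k ih =>
      intro i hi
      obtain ⟨h1, h2⟩ := ih i hi
      constructor
      · have := (htr (i + k * (n' - n) - n)).1 (by
          have : n + (i + k * (n' - n) - n) = i + k * (n' - n) := by ring
          rw [this]; exact h1)
        have h3 : n' + (i + ↑k * (n' - n) - n) = i + ((k + 1 : ℕ) : ℤ) * (n' - n) := by
          push_cast; ring
        rw [h3] at this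
        exact this
      · have := (htr (i - k * (n' - n) - n')).2 (by
          have : n' + (i - k * (n' - n) - n') = i - k * (n' - n) := by ring
          rw [this]; exact h2)
        have h3 : n + (i - ↑k * (n' - n) - n') = i - ((k + 1 : ℕ) : ℤ) * (n' - n) := by
          push_cast; ring
        rw [h3] at this
        exact this
  -- choose k large
  have hd : n' - n ≠ 0 := fun h => hnn (by omega)
  obtain ⟨h1, h2⟩ := hplus (Int.toNat (b - a) + 1) i₀ hi₀
  have b1 := hbd _ h1
  have b2 := hbd _ h2
  have b0 := hbd _ hi₀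
  have hk : ((Int.toNat (b - a) + 1 : ℕ) : ℤ) = (b - a) + 1 := by
    have : 0 ≤ b - a := by omega
    push_cast
    rw [Int.toNat_of_nonneg this]
  rw [hk] at b1 b2
  rcases lt_or_gt_of_ne hd with hlt | hgt
  · nlinarith
  · nlinarith

end Groth.Agent.H40.Inv2_NEQ
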