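import Groth.Agent.H40.SubgrpOpen
import Groth.Agent.H40.FixedPt
import Groth.Agent.H40.FibreLocus
import Groth.Agent.H63.SmoothDesc
import Groth.Agent.H52.SrcFlat

/-!
# Inverse images of subgroups under a faithfully flat homomorphism (helper40)

`u : G ⟶ G'`, subgroups `C' ≤ H' ≤ G'`, `C = u⁻¹ C'`, `D = u⁻¹ H'`.
`P = C' × D ⟶ H'`, `(c', d) ↦ c' · u(d)` is a torsor under `C`.
-/

set_option autoImplicit false
set_option linter.unusedSectionVars false
universe u
open CategoryTheory CategoryTheory.Limits AlgebraicGeometry MorphismProperty MonoidalCategory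
  CartesianMonoidalCategory MonObj

namespace Groth.Agent.H40.InvImg

variable {S : Scheme.{u}} {G G' C' H' : Over S} [GrpObj G] [GrpObj G'] [GrpObj C'] [GrpObj H']
  (u : G ⟶ G') [IsMonHom u] (c' : C' ⟶ G') [IsMonHom c'] (h' : H' ⟶ G') [IsMonHom h'] [Mono h']
  (f : C' ⟶ H') (hf : f ≫ h' = c')

section fhom
include hf

theorem f_mul {T : Over S} (x y : T ⟶ C') : (x * y) ≫ f = (x ≫ f) * (y ≫ f) := by
  rw [← cancel_mono h', Category.assoc, hf, MonObj.mul_comp, MonObj.mul_comp, Category.assoc,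
    Category.assoc, hf]

theorem f_inv {T : Over S} (x : T ⟶ C') : x⁻¹ ≫ f = (x ≫ f)⁻¹ := by
  rw [← cancel_mono h', Category.assoc, hf, GrpObj.inv_comp, GrpObj.inv_comp, Category.assoc, hf]

theorem f_one {T : Over S} : (1 : T ⟶ C') ≫ f = 1 := by
  rw [← cancel_mono h', Category.assoc, hf, MonObj.one_comp, MonObj.one_comp]

end fhom

/-- `C = u⁻¹ C'` -/
noncomputable abbrev CC : Over S := Limits.pullback c' u
/-- `D = u⁻¹ H'` -/
noncomputable abbrev DD : Over S := Limits.pullback h' u
/-- `P = C' × D` -/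
noncomputable abbrev PP (X : Over S) : Over S := X ⊗ DD u h'

/-- left translation of a point of `D = u⁻¹ H'` by a point of `C = u⁻¹ C'` -/
noncomputable def mulCD {T : Over S} (c : T ⟶ CC u c') (d : T ⟶ DD u h') : T ⟶ DD u h' :=
  pullback.lift ((c ≫ pullback.fst c' u ≫ f) * (d ≫ pullback.fst h' u))
    ((c ≫ pullback.snd c' u) * (d ≫ pullback.snd h' u)) (by
      simp only [MonObj.mul_comp, Category.assoc, hf, pullback.condition])

theorem mulCD_fst {T : Over S} (c : T ⟶ CC u c') (d : T ⟶ DD u h') :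
    mulCD u c' h' f hf c d ≫ pullback.fst h' u =
      (c ≫ pullback.fst c' u ≫ f) * (d ≫ pullback.fst h' u) :=
  pullback.lift_fst _ _ _

theorem mulCD_snd {T : Over S} (c : T ⟶ CC u c') (d : T ⟶ DD u h') :
    mulCD u c' h' f hf c d ≫ pullback.snd h' u =
      (c ≫ pullback.snd c' u) * (d ≫ pullback.snd h' u) :=
  pullback.lift_snd _ _ _

theorem comp_mulCD {T T₁ : Over S} (g : T₁ ⟶ T) (c : T ⟶ CC u c') (d : T ⟶ DD u h') :
    g ≫ mulCD u c' h' f hf c d = mulCD u c' h' f hf (g ≫ c) (g ≫ d) := by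
  apply pullback.hom_ext
  · rw [Category.assoc, mulCD_fst, mulCD_fst, MonObj.comp_mul]
    simp only [Category.assoc]
  · rw [Category.assoc, mulCD_snd, mulCD_snd, MonObj.comp_mul]
    simp only [Category.assoc]

/-- the unit section of `C = u⁻¹ C'` -/
noncomputable def oneC {T : Over S} : T ⟶ CC u c' :=
  pullback.lift (1 : T ⟶ C') (1 : T ⟶ G) (by rw [MonObj.one_comp, MonObj.one_comp])

theorem oneC_fst {T : Over S} : (oneC u c' : T ⟶ _) ≫ pullback.fst c' u = 1 :=
  pullback.lift_fst _ _ _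

theorem oneC_snd {T : Over S} : (oneC u c' : T ⟶ _) ≫ pullback.snd c' u = 1 :=
  pullback.lift_snd _ _ _

theorem one_mulCD {T : Over S} (d : T ⟶ DD u h') :
    mulCD u c' h' f hf (oneC u c') d = d := by
  apply pullback.hom_ext
  · rw [mulCD_fst, ← Category.assoc, oneC_fst, f_one c' h' f hf, _root_.one_mul]
  · rw [mulCD_snd, oneC_snd, _root_.one_mul]

/-- the map `C' × D ⟶ H'`, `(c', d) ↦ c' · u(d)` -/
noncomputable def phi : PP u h' C' ⟶ H' :=
  (C' ◁ pullback.fst h' u) ≫ (f ▷ H') ≫ μ[H']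

theorem lift_phi {T : Over S} (x : T ⟶ C') (d : T ⟶ DD u h') :
    lift x d ≫ phi u h' f = (x ≫ f) * (d ≫ pullback.fst h' u) := by
  unfold phi
  rw [lift_whiskerLeft_assoc, lift_whiskerRight_assoc, Hom.mul_def]

theorem eq_lift2 {T : Over S} (p : T ⟶ PP u h' C') :
    p = lift (p ≫ fst C' (DD u h')) (p ≫ snd C' (DD u h')) := by
  apply CartesianMonoidalCategory.hom_ext
  · rw [lift_fst]
  · rw [lift_snd]

theorem comp_phi {T : Over S} (p : T ⟶ PP u h' C') :
    p ≫ phi u h' f = (p ≫ fst C' (DD u h') ≫ f) * (p ≫ snd C' (DD u h') ≫ pullback.fst h' u) := by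
  conv_lhs => rw [eq_lift2 u h' p]
  rw [lift_phi, Category.assoc, Category.assoc]

/-- the action of `C` on `C' × D` -/
noncomputable def alpha : CC u c' ⊗ PP u h' C' ⟶ PP u h' C' :=
  lift ((snd (CC u c') (PP u h' C') ≫ fst C' (DD u h')) *
      (fst (CC u c') (PP u h' C') ≫ pullback.fst c' u)⁻¹)
    (mulCD u c' h' f hf (fst (CC u c') (PP u h' C')) (snd (CC u c') (PP u h' C') ≫ snd C' (DD u h')))

theorem lift_alpha {T : Over S} (c : T ⟶ CC u c') (x : T ⟶ C') (d : T ⟶ DD u h') :
    lift c (lift x d) ≫ alpha u c' h' f hf =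
      lift (x * (c ≫ pullback.fst c' u)⁻¹) (mulCD u c' h' f hf c d) := by
  unfold alpha
  apply CartesianMonoidalCategory.hom_ext
  · rw [Category.assoc, lift_fst, lift_fst, MonObj.comp_mul, GrpObj.comp_inv, lift_snd_assoc,
      lift_fst, lift_fst_assoc]
  · rw [Category.assoc, lift_snd, lift_snd, comp_mulCD, lift_fst, lift_snd_assoc, lift_snd]

theorem eq_lift3 {T : Over S} (p : T ⟶ CC u c' ⊗ PP u h' C') :
    p = lift (p ≫ fst (CC u c') (PP u h' C'))
      (lift (p ≫ snd (CC u c') (PP u h' C') ≫ fst C' (DD u h'))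
        (p ≫ snd (CC u c') (PP u h' C') ≫ snd C' (DD u h'))) := by
  apply CartesianMonoidalCategory.hom_ext
  · rw [lift_fst]
  · rw [lift_snd]
    apply CartesianMonoidalCategory.hom_ext
    · rw [lift_fst, Category.assoc]
    · rw [lift_snd, Category.assoc]

theorem alpha_phi :
    alpha u c' h' f hf ≫ phi u h' f = snd (CC u c') (PP u h' C') ≫ phi u h' f := by
  have h1 := lift_alpha u c' h' f hf (fst (CC u c') (PP u h' C'))
    (snd (CC u c') (PP u h' C') ≫ fst C' (DD u h')) (snd (CC u c') (PP u h' C') ≫ snd C' (DD u h'))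
  have hid : lift (fst (CC u c') (PP u h' C'))
      (lift (snd (CC u c') (PP u h' C') ≫ fst C' (DD u h'))
        (snd (CC u c') (PP u h' C') ≫ snd C' (DD u h'))) = 𝟙 (CC u c' ⊗ PP u h' C') := by
    have := eq_lift3 u c' h' (𝟙 (CC u c' ⊗ PP u h' C'))
    simp only [Category.id_comp] at this
    exact this.symm
  rw [hid, Category.id_comp] at h1
  rw [h1, lift_phi, mulCD_fst, f_mul c' h' f hf, f_inv c' h' f hf,
    comp_phi u h' f (snd (CC u c') (PP u h' C'))]
  simp only [Category.assoc]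
  group

/-- `C' × D ⟶ H'` is a torsor under `C`. -/
theorem torsor_sq :
    IsPullback (alpha u c' h' f hf) (snd (CC u c') (PP u h' C')) (phi u h' f) (phi u h' f) := by
  refine Groth.Agent.H40.FpqcFam.isPullback_of_pts (alpha_phi u c' h' f hf) ?_
  intro T x y hxy
  rw [comp_phi, comp_phi] at hxy
  obtain ⟨x₁, hx₁⟩ : ∃ x₁ : T ⟶ C', x₁ = x ≫ fst C' (DD u h') := ⟨_, rfl⟩
  obtain ⟨x₂, hx₂⟩ : ∃ x₂ : T ⟶ DD u h', x₂ = x ≫ snd C' (DD u h') := ⟨_, rfl⟩
  obtain ⟨y₁, hy₁⟩ : ∃ y₁ : T ⟶ C', y₁ = y ≫ fst C' (DD u h') := ⟨_, rfl⟩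
  obtain ⟨y₂, hy₂⟩ : ∃ y₂ : T ⟶ DD u h', y₂ = y ≫ snd C' (DD u h') := ⟨_, rfl⟩
  have hx : x = lift x₁ x₂ := by rw [hx₁, hx₂]; exact eq_lift2 u h' x
  have hy : y = lift y₁ y₂ := by rw [hy₁, hy₂]; exact eq_lift2 u h' y
  simp only [← Category.assoc] at hxy
  rw [← hx₁, ← hx₂, ← hy₁, ← hy₂] at hxy
  -- the unique `c`
  have e1 : (x₁ ≫ f)⁻¹ * (y₁ ≫ f) =
      (x₂ ≫ pullback.fst h' u) * (y₂ ≫ pullback.fst h' u)⁻¹ := by
    rw [inv_mul_eq_iff_eq_mul, ← _root_.mul_assoc, hxy, mul_inv_cancel_right]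
  have hcompat : (x₁⁻¹ * y₁) ≫ c' =
      ((x₂ ≫ pullback.snd h' u) * (y₂ ≫ pullback.snd h' u)⁻¹) ≫ u := by
    rw [← hf, ← Category.assoc, f_mul c' h' f hf, f_inv c' h' f hf, e1, MonObj.mul_comp,
      MonObj.mul_comp, GrpObj.inv_comp, GrpObj.inv_comp]
    simp only [Category.assoc, pullback.condition]
  obtain ⟨c, hc⟩ : ∃ c : T ⟶ CC u c', c = pullback.lift _ _ hcompat := ⟨_, rfl⟩
  have hc1 : c ≫ pullback.fst c' u = x₁⁻¹ * y₁ := by
    rw [hc, pullback.lift_fst]
  have hc2 : c ≫ pullback.snd c' u =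
      (x₂ ≫ pullback.snd h' u) * (y₂ ≫ pullback.snd h' u)⁻¹ := by
    rw [hc, pullback.lift_snd]
  refine ⟨lift c y, ⟨?_, lift_snd _ _⟩, ?_⟩
  · rw [hy, lift_alpha, hx]
    congr 1
    · rw [hc1]; group
    · apply pullback.hom_ext
      · rw [mulCD_fst, ← Category.assoc c, hc1, f_mul c' h' f hf, f_inv c' h' f hf,
          _root_.mul_assoc, ← hxy, inv_mul_cancel_left]
      · rw [mulCD_snd, hc2]
        group
  · rintro q ⟨hq1, hq2⟩
    have hq := eq_lift3 u c' h' q
    have hq2' : lift (q ≫ snd (CC u c') (PP u h' C') ≫ fst C' (DD u h'))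
        (q ≫ snd (CC u c') (PP u h' C') ≫ snd C' (DD u h')) = lift y₁ y₂ := by
      rw [← hy, ← hq2]
      apply CartesianMonoidalCategory.hom_ext
      · rw [lift_fst, Category.assoc]
      · rw [lift_snd, Category.assoc]
    rw [hq2'] at hq
    have hq1' := hq1
    rw [hq, lift_alpha, hx] at hq1'
    have e2 := congrArg (fun m => m ≫ fst C' (DD u h')) hq1'
    have e3 := congrArg (fun m => m ≫ snd C' (DD u h') ≫ pullback.snd h' u) hq1'
    simp only [lift_fst, lift_snd_assoc, mulCD_snd] at e2 e3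
    rw [hq, hy]
    congr 1
    apply pullback.hom_ext
    · rw [hc1, ← e2]; group
    · rw [hc2, ← e3]
      group

/-- the unit section of `C` gives a section of the action. -/
theorem section_alpha :
    lift (oneC u c') (𝟙 (PP u h' C')) ≫ alpha u c' h' f hf = 𝟙 _ := by
  have h1 := lift_alpha u c' h' f hf (oneC u c') (fst C' (DD u h')) (snd C' (DD u h'))
  have hid : lift (fst C' (DD u h')) (snd C' (DD u h')) = 𝟙 (PP u h' C') := by
    have := eq_lift2 u h' (𝟙 (PP u h' C'))
    simp only [Category.id_comp] at this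
    exact this.symm
  rw [hid] at h1
  rw [h1, one_mulCD, oneC_fst, _root_.inv_one, _root_.mul_one, hid]

/-! ### scheme-level consequences -/

/-- `(x₁, x₂) ↦ f₁(x₁)·f₂(x₂)` has any property stable under base change and composition
that `X₁ → S` and `f₂` have. -/
theorem prop_mul (P : MorphismProperty Scheme.{u}) [P.IsStableUnderBaseChange]
    [P.IsStableUnderComposition] {X₁ X₂ K : Over S} [GrpObj K] (f₁ : X₁ ⟶ K) (f₂ : X₂ ⟶ K)
    (h₁ : P X₁.hom) (h₂ : P f₂.left) : P ((X₁ ◁ f₂) ≫ (f₁ ▷ K) ≫ μ[K]).left := by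
  have SQa : IsPullback (snd X₁ X₂).left (X₁ ◁ f₂).left f₂.left (snd X₁ K).left :=
    (Groth.Agent.H40.MaxOpen.sq_snd' (G := X₁) f₂).map (Over.forget S)
  have SQb : IsPullback (fst X₁ K).left ((f₁ ▷ K) ≫ μ[K]).left (toUnit X₁).left (toUnit K).left :=
    (Groth.Agent.H40.SubgrpOpen.sq_prod' f₁).map (Over.forget S)
  have ha : P (X₁ ◁ f₂).left := MorphismProperty.of_isPullback (P := P) SQa h₂
  have hb : P ((f₁ ▷ K) ≫ μ[K]).left := MorphismProperty.of_isPullback (P := P) SQb h₁
  rw [Over.comp_left]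
  exact P.comp_mem _ _ ha hb

theorem sqD : IsPullback (pullback.fst h' u).left (pullback.snd h' u).left h'.left u.left :=
  (IsPullback.of_hasPullback h' u).map (Over.forget S)

theorem sqC : IsPullback (pullback.fst c' u).left (pullback.snd c' u).left c'.left u.left :=
  (IsPullback.of_hasPullback c' u).map (Over.forget S)

theorem surjective_of_unit (X : Over S) (e : 𝟙_ (Over S) ⟶ X) : Surjective X.hom := by
  refine ⟨fun s => ⟨e.left.base s, ?_⟩⟩
  have := congrArg (fun m => m.base s) (Over.w e)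
  exact this

section smooth

variable [LocallyOfFinitePresentation G.hom] [LocallyOfFiniteType G'.hom]
  [Flat u.left] [Surjective u.left]
  [LocallyOfFinitePresentation C'.hom] [LocallyOfFinitePresentation H'.hom]

/-- `u⁻¹ H'` is smooth when `u⁻¹ C'` and `H'` are. -/
theorem smooth_invImg (hle : ∃ f : C' ⟶ H', f ≫ h' = c') (hC : Smooth (CC u c').hom)
    (hH : Smooth H'.hom) : Smooth (DD u h').hom := by
  obtain ⟨f, hf⟩ := hle
  have hu : LocallyOfFinitePresentation u.left :=
    Groth.Agent.H49.SmoothFibreMap.lfp_of_comp_of_lft u.left G'.hom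
      (by rw [Over.w u]; infer_instance) inferInstance
  -- the projections `D ⟶ H'` and `C ⟶ C'`
  have hpH1 : Flat (pullback.fst h' u).left :=
    MorphismProperty.of_isPullback (P := @Flat) (sqD u h').flip inferInstance
  have hpH2 : LocallyOfFinitePresentation (pullback.fst h' u).left :=
    MorphismProperty.of_isPullback (P := @LocallyOfFinitePresentation) (sqD u h').flip hu
  have hqC1 : Flat (pullback.fst c' u).left :=
    MorphismProperty.of_isPullback (P := @Flat) (sqC u c').flip inferInstance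
  have hqC2 : Surjective (pullback.fst c' u).left :=
    MorphismProperty.of_isPullback (P := @Surjective) (sqC u c').flip inferInstance
  -- `C'` is flat over `S`
  have hC'flat : Flat C'.hom := by
    refine Groth.Agent.H52.flat_of_comp_of_flat_of_surjective (pullback.fst c' u).left C'.hom ?_
    rw [Over.w (pullback.fst c' u)]
    infer_instance
  have hC'surj : Surjective C'.hom := surjective_of_unit C' η[C']
  -- `φ` is flat and locally of finite presentation
  have hφ1 : Flat (phi u h' f).left := prop_mul @Flat f (pullback.fst h' u) hC'flat hpH1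
  have hφ2 : LocallyOfFinitePresentation (phi u h' f).left :=
    prop_mul @LocallyOfFinitePresentation f (pullback.fst h' u) inferInstance hpH2
  -- `φ` is smooth by descent along itself
  have hsnd : Smooth (snd (CC u c') (PP u h' C')).left :=
    inferInstanceAs (Smooth (pullback.snd (CC u c').hom (PP u h' C').hom))
  have hφ3 : Smooth (phi u h' f).left := by
    rw [← Scheme.Hom.smoothLocus_eq_top_iff]
    ext p
    simp only [TopologicalSpace.Opens.coe_top, Set.mem_univ, iff_true]
    have hsq : IsPullback (alpha u c' h' f hf).left (snd (CC u c') (PP u h' C')).left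
        (phi u h' f).left (phi u h' f).left := (torsor_sq u c' h' f hf).map (Over.forget S)
    have hsec := congrArg (fun m => m.left.base p) (section_alpha u c' h' f hf)
    have key := Groth.Agent.H49.SmoothDescent.mem_smoothLocus_of_isPullback_of_flat hsq
      ((lift (oneC u c') (𝟙 (PP u h' C'))).left.base p) (Flat.stalkMap _ _)
      (by rw [(snd (CC u c') (PP u h' C')).left.smoothLocus_eq_top]; trivial)
    have hp : (alpha u c' h' f hf).left.base
        ((lift (oneC u c') (𝟙 (PP u h' C'))).left.base p) = p := hsec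
    rw [← hp]
    exact key
  -- `P = C' × D` is smooth over `S`
  have hP : Smooth (PP u h' C').hom := by
    rw [← Over.w (phi u h' f)]
    infer_instance
  -- descend along the projection `P ⟶ D`
  have hD : LocallyOfFinitePresentation (DD u h').hom := by
    rw [← Over.w (pullback.fst h' u)]
    infer_instance
  have hs1 : Flat (snd C' (DD u h')).left :=
    inferInstanceAs (Flat (pullback.snd C'.hom (DD u h').hom))
  have hs2 : Surjective (snd C' (DD u h')).left :=
    inferInstanceAs (Surjective (pullback.snd C'.hom (DD u h').hom))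
  have hs3 : Smooth ((snd C' (DD u h')).left ≫ (DD u h').hom) := by
    rw [Over.w (snd C' (DD u h'))]
    exact hP
  exact Groth.Agent.H63.SmoothDesc.smooth_of_flat_surjective_comp (snd C' (DD u h')).left
    (DD u h').hom

end smooth

/-! ### connected fibres -/

/-- a quotient map onto a connected space, any two points of a fibre of which lie in a common
preconnected subset, has connected source. -/
theorem connectedSpace_of_quotient {X Y : Type*} [TopologicalSpace X] [TopologicalSpace Y]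
    (q : X → Y) (hq : Topology.IsQuotientMap q) [ConnectedSpace Y]
    (h : ∀ x₁ x₂ : X, q x₁ = q x₂ → ∃ s : Set X, IsPreconnected s ∧ x₁ ∈ s ∧ x₂ ∈ s) :
    ConnectedSpace X := by
  have hne : Nonempty X := by
    obtain ⟨y⟩ : Nonempty Y := inferInstance
    obtain ⟨x, -⟩ := hq.surjective y
    exact ⟨x⟩
  have hpre : PreconnectedSpace X := by
    rw [preconnectedSpace_iff_clopen]
    intro U hU
    have hsat : q ⁻¹' (q '' U) = U := by
      apply Set.Subset.antisymm
      · rintro x ⟨x', hx'U, hxx'⟩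
        obtain ⟨s, hs, h1, h2⟩ := h x' x hxx'
        exact hs.subset_isClopen hU ⟨x', h1, hx'U⟩ h2
      · exact Set.subset_preimage_image q U
    have hcl : IsClopen (q '' U) := by
      rw [← hq.isClopen_preimage, hsat]; exact hU
    rcases isClopen_iff.mp hcl with h0 | h1
    · left; exact Set.image_eq_empty.mp h0
    · right; rw [← hsat, h1, Set.preimage_univ]
  exact { toPreconnectedSpace := hpre, toNonempty := hne }

/-- an `S`-scheme with a section and connected fibres has geometrically connected fibres. -/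
theorem geomConn_of_section {X : Over S} (e : 𝟙_ (Over S) ⟶ X)
    (hconn : ∀ s : S, _root_.IsConnected (X.hom.base ⁻¹' {s})) : GeometricallyConnected X.hom := by
  rw [GeometricallyConnected.iff_geometricallyConnected_fiber]
  intro s
  have : ConnectedSpace (X.hom.fiber s) := by
    have h1 : ConnectedSpace (X.hom.base ⁻¹' {s}) := isConnected_iff_connectedSpace.mp (hconn s)
    exact (X.hom.fiberHomeo s).connectedSpace_iff.mpr h1
  have hsec : (S.fromSpecResidueField s ≫ e.left) ≫ X.hom =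
      𝟙 _ ≫ S.fromSpecResidueField s := by
    rw [Category.assoc, Over.w e, Category.id_comp]
    exact Category.comp_id _
  refine Groth.Agent.H38.PrimaryConn.geomConn_of_fieldPoint (k := S.residueField s)
    (X.hom.fiberToSpecResidueField s) (S.residueField s)
    (pullback.lift (S.fromSpecResidueField s ≫ e.left) (𝟙 _) hsec) ?_ (fun α _ => ⟨α, rfl⟩)
  refine (pullback.lift_snd _ _ _).trans ?_
  rw [Algebra.algebraMap_self]
  exact (Spec.map_id _).symm

include hf in
/-- two points of `T × D` with the same image in `T × H'` are joined by a `C`-translate. -/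
theorem exists_translate {T TL : Over S} (A₁ A₂ : TL ⟶ T ⊗ DD u h')
    (hA : A₁ ≫ (T ◁ pullback.fst h' u) = A₂ ≫ (T ◁ pullback.fst h' u)) :
    ∃ (ρ : CC u c' ⊗ TL ⟶ T ⊗ DD u h') (e₁ e₂ : TL ⟶ CC u c' ⊗ TL),
      e₁ ≫ ρ = A₁ ∧ e₂ ≫ ρ = A₂ := by
  obtain ⟨d₁, hd₁⟩ : ∃ d₁ : TL ⟶ DD u h', d₁ = A₁ ≫ snd T (DD u h') := ⟨_, rfl⟩
  obtain ⟨d₂, hd₂⟩ : ∃ d₂ : TL ⟶ DD u h', d₂ = A₂ ≫ snd T (DD u h') := ⟨_, rfl⟩
  obtain ⟨τ, hτ₁⟩ : ∃ τ : TL ⟶ T, τ = A₁ ≫ fst T (DD u h') := ⟨_, rfl⟩
  have hτ₂ : τ = A₂ ≫ fst T (DD u h') := by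
    have := congrArg (fun m => m ≫ fst T H') hA
    simp only [Category.assoc, whiskerLeft_fst] at this
    rw [hτ₁]; exact this
  have hd : d₁ ≫ pullback.fst h' u = d₂ ≫ pullback.fst h' u := by
    have := congrArg (fun m => m ≫ snd T H') hA
    simp only [Category.assoc, whiskerLeft_snd] at this
    rw [hd₁, hd₂, Category.assoc, Category.assoc]; exact this
  have hcompat : (1 : TL ⟶ C') ≫ c' =
      ((d₂ ≫ pullback.snd h' u) * (d₁ ≫ pullback.snd h' u)⁻¹) ≫ u := by
    rw [MonObj.one_comp, MonObj.mul_comp, GrpObj.inv_comp, Category.assoc, Category.assoc,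
      ← pullback.condition, ← Category.assoc, ← Category.assoc, hd, mul_inv_cancel]
  obtain ⟨c₀, hc₀⟩ : ∃ c₀ : TL ⟶ CC u c', c₀ = pullback.lift _ _ hcompat := ⟨_, rfl⟩
  have hc1 : c₀ ≫ pullback.fst c' u = 1 := by rw [hc₀, pullback.lift_fst]
  have hc2 : c₀ ≫ pullback.snd c' u =
      (d₂ ≫ pullback.snd h' u) * (d₁ ≫ pullback.snd h' u)⁻¹ := by
    rw [hc₀, pullback.lift_snd]
  refine ⟨lift (snd (CC u c') TL ≫ τ)
    (mulCD u c' h' f hf (fst (CC u c') TL) (snd (CC u c') TL ≫ d₁)),
    lift (oneC u c') (𝟙 TL), lift c₀ (𝟙 TL), ?_, ?_⟩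
  · apply CartesianMonoidalCategory.hom_ext
    · rw [Category.assoc, lift_fst, lift_snd_assoc, Category.id_comp, hτ₁]
    · rw [Category.assoc, lift_snd, comp_mulCD, lift_fst, lift_snd_assoc, Category.id_comp,
        one_mulCD, hd₁]
  · apply CartesianMonoidalCategory.hom_ext
    · rw [Category.assoc, lift_fst, lift_snd_assoc, Category.id_comp, hτ₂]
    · rw [Category.assoc, lift_snd, comp_mulCD, lift_fst, lift_snd_assoc, Category.id_comp, ← hd₂]
      apply pullback.hom_ext
      · rw [mulCD_fst, ← Category.assoc, hc1, f_one c' h' f hf, _root_.one_mul, hd]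
      · rw [mulCD_snd, hc2, inv_mul_cancel_right]

section conn

variable [LocallyOfFinitePresentation G.hom] [LocallyOfFiniteType G'.hom]
  [Flat u.left] [Surjective u.left]

/-- `u⁻¹ H'` has (geometrically) connected fibres when `u⁻¹ C'` and `H'` have connected fibres. -/
theorem geomConn_invImg (hle : ∃ f : C' ⟶ H', f ≫ h' = c')
    (hC : ∀ s : S, _root_.IsConnected ((CC u c').hom.base ⁻¹' {s}))
    (hH : ∀ s : S, _root_.IsConnected (H'.hom.base ⁻¹' {s})) :
    GeometricallyConnected (DD u h').hom := by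
  obtain ⟨f, hf⟩ := hle
  have hCg : GeometricallyConnected (CC u c').hom := geomConn_of_section (oneC u c') hC
  have hHg : GeometricallyConnected H'.hom := geomConn_of_section η[H'] hH
  have hu : LocallyOfFinitePresentation u.left :=
    Groth.Agent.H49.SmoothFibreMap.lfp_of_comp_of_lft u.left G'.hom
      (by rw [Over.w u]; infer_instance) inferInstance
  have hpH1 : Flat (pullback.fst h' u).left :=
    MorphismProperty.of_isPullback (P := @Flat) (sqD u h').flip inferInstance
  have hpH2 : LocallyOfFinitePresentation (pullback.fst h' u).left :=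
    MorphismProperty.of_isPullback (P := @LocallyOfFinitePresentation) (sqD u h').flip hu
  have hpH3 : Surjective (pullback.fst h' u).left :=
    MorphismProperty.of_isPullback (P := @Surjective) (sqD u h').flip inferInstance
  have hpH4 : UniversallyOpen (pullback.fst h' u).left := inferInstance
  refine ⟨geometrically_iff_of_isClosedUnderIsomorphisms.mpr fun K _ y => ?_⟩
  rw [← (pullbackSymmetry (DD u h').hom y).inv.homeomorph.connectedSpace_iff]
  obtain ⟨T, hT⟩ : ∃ T : Over S, T = Over.mk y := ⟨_, rfl⟩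
  change ConnectedSpace (Over.mk y ⊗ DD u h').left
  rw [← hT]
  have hY : ConnectedSpace (T ⊗ H').left := by
    rw [hT]
    exact GeometricallyConnected.geometrically_connectedSpace (f := H'.hom) y
      (pullback.snd _ _) (pullback.fst _ _) (IsPullback.of_hasPullback _ _).flip
  have SQ : IsPullback (snd T (DD u h')).left (T ◁ pullback.fst h' u).left
      (pullback.fst h' u).left (snd T H').left :=
    (Groth.Agent.H40.MaxOpen.sq_snd' (G := T) (pullback.fst h' u)).map (Over.forget S)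
  have hq1 : UniversallyOpen (T ◁ pullback.fst h' u).left :=
    MorphismProperty.of_isPullback (P := @UniversallyOpen) SQ hpH4
  have hq2 : Surjective (T ◁ pullback.fst h' u).left :=
    MorphismProperty.of_isPullback (P := @Surjective) SQ hpH3
  refine connectedSpace_of_quotient (T ◁ pullback.fst h' u).left.base
    ((T ◁ pullback.fst h' u).left.isOpenMap.isQuotientMap
      (T ◁ pullback.fst h' u).left.continuous (T ◁ pullback.fst h' u).left.surjective) ?_
  intro x₁ x₂ hx
  obtain ⟨q, hqdef⟩ : ∃ q : (T ⊗ DD u h').left ⟶ (T ⊗ H').left,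
      q = (T ◁ pullback.fst h' u).left := ⟨_, rfl⟩
  rw [← hqdef] at hx
  obtain ⟨z, hz1, hz2⟩ := Scheme.Pullback.exists_preimage_pullback (f := q) (g := q) x₁ x₂ hx
  obtain ⟨ζ, hζdef⟩ : ∃ ζ, ζ = (Limits.pullback q q).fromSpecResidueField z := ⟨_, rfl⟩
  obtain ⟨a₁, ha₁⟩ : ∃ a₁, a₁ = ζ ≫ pullback.fst q q := ⟨_, rfl⟩
  obtain ⟨a₂, ha₂⟩ : ∃ a₂, a₂ = ζ ≫ pullback.snd q q := ⟨_, rfl⟩
  have ha : a₁ ≫ q = a₂ ≫ q := by
    rw [ha₁, ha₂, Category.assoc, Category.assoc, pullback.condition]
  have hw : (T ⊗ DD u h').hom = q ≫ (T ⊗ H').hom := by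
    rw [hqdef]; exact (Over.w (T ◁ pullback.fst h' u)).symm
  obtain ⟨A₁, hA₁⟩ : ∃ A₁ : Over.mk (a₁ ≫ (T ⊗ DD u h').hom) ⟶ T ⊗ DD u h', A₁.left = a₁ :=
    ⟨Over.homMk a₁ rfl, rfl⟩
  obtain ⟨A₂, hA₂⟩ : ∃ A₂ : Over.mk (a₁ ≫ (T ⊗ DD u h').hom) ⟶ T ⊗ DD u h', A₂.left = a₂ :=
    ⟨Over.homMk a₂ (by
      change a₂ ≫ (T ⊗ DD u h').hom = a₁ ≫ (T ⊗ DD u h').hom
      rw [hw, ← Category.assoc, ← Category.assoc, ha]), rfl⟩
  have hA : A₁ ≫ (T ◁ pullback.fst h' u) = A₂ ≫ (T ◁ pullback.fst h' u) := by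
    apply Over.OverMorphism.ext
    rw [Over.comp_left, Over.comp_left, hA₁, hA₂, ← hqdef]
    exact ha
  obtain ⟨ρ, e₁, e₂, he₁, he₂⟩ := exists_translate u c' h' f hf A₁ A₂ hA
  have hconnL : ConnectedSpace (CC u c' ⊗ Over.mk (a₁ ≫ (T ⊗ DD u h').hom)).left :=
    GeometricallyConnected.geometrically_connectedSpace (f := (CC u c').hom)
      (a₁ ≫ (T ⊗ DD u h').hom) (pullback.fst _ _) (pullback.snd _ _)
      (IsPullback.of_hasPullback _ _)
  obtain ⟨pt⟩ : Nonempty (Spec ((Limits.pullback q q).residueField z)) := inferInstance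
  have hζpt : ζ.base pt = z := by
    rw [hζdef]; exact Scheme.fromSpecResidueField_apply _ _
  refine ⟨Set.range ρ.left.base, isPreconnected_range ρ.left.continuous, ?_, ?_⟩
  · refine ⟨e₁.left.base pt, ?_⟩
    have h1 := congrArg (fun m => m.left.base pt) he₁
    refine h1.trans ?_
    rw [hA₁, ha₁, ← hz1]
    exact congrArg (fun w => (pullback.fst q q).base w) hζpt
  · refine ⟨e₂.left.base pt, ?_⟩
    have h1 := congrArg (fun m => m.left.base pt) he₂
    refine h1.trans ?_
    rw [hA₂, ha₂, ← hz2]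
    exact congrArg (fun w => (pullback.snd q q).base w) hζpt

end conn

end Groth.Agent.H40.InvImg
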