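import Groth.Agent.H40.MaxOpen3
import Groth.Agent.H40.FpqcDesc
import Groth.Agent.H40.GrpPts
import Groth.Agent.H51.Reduced
import Mathlib.AlgebraicGeometry.AlgClosed.Basic

/-!
# Factoring a homomorphism through a faithfully flat one (helper40)

* `sq_fst'`, `epi_tensorHom`, `isMonHom_of_epi`
* `exists_unique_factor`: over a field, a homomorphism killing the kernel of a faithfully flat
  homomorphism factors uniquely through it, by a homomorphism
* `ker_le_of_points`: over an algebraically closed field, the kernel of an étale homomorphism is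
  killed by a homomorphism as soon as its rational points are
-/

set_option autoImplicit false
set_option linter.unusedSectionVars false
universe u
open CategoryTheory CategoryTheory.Limits AlgebraicGeometry MorphismProperty MonoidalCategory
  CartesianMonoidalCategory MonObj

namespace Groth.Agent.H40.IsogFactor

section general

variable {S : Scheme.{u}}

theorem sq_fst' {G X Y : Over S} (f : X ⟶ Y) : IsPullback (fst X G) (f ▷ G) f (fst Y G) := by
  refine Groth.Agent.H40.FpqcFam.isPullback_of_pts (whiskerRight_fst _ _).symm ?_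
  intro T x y hxy
  refine ⟨lift x (y ≫ snd Y G), ⟨lift_fst _ _, ?_⟩, ?_⟩
  · rw [lift_whiskerRight, hxy]
    apply CartesianMonoidalCategory.hom_ext
    · rw [lift_fst]
    · rw [lift_snd]
  · rintro q ⟨hq1, hq2⟩
    apply CartesianMonoidalCategory.hom_ext
    · rw [lift_fst, hq1]
    · rw [lift_snd, ← hq2, Category.assoc, whiskerRight_snd]

theorem epi_tensorHom {E E' : Over S} (φ : E ⟶ E') [Flat φ.left] [Surjective φ.left] :
    Epi (φ ⊗ₘ φ) := by
  have h1 : IsPullback (fst E E).left (φ ▷ E).left φ.left (fst E' E).left :=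
    (sq_fst' φ).map (Over.forget S)
  have h2 : IsPullback (snd E' E).left (E' ◁ φ).left φ.left (snd E' E').left :=
    (Groth.Agent.H40.MaxOpen.sq_snd' (G := E') φ).map (Over.forget S)
  have a1 : Flat (φ ▷ E).left := MorphismProperty.of_isPullback (P := @Flat) h1 inferInstance
  have a2 : Surjective (φ ▷ E).left :=
    MorphismProperty.of_isPullback (P := @Surjective) h1 inferInstance
  have b1 : Flat (E' ◁ φ).left := MorphismProperty.of_isPullback (P := @Flat) h2 inferInstance
  have b2 : Surjective (E' ◁ φ).left :=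
    MorphismProperty.of_isPullback (P := @Surjective) h2 inferInstance
  have : Epi (φ ▷ E).left := AlgebraicGeometry.Flat.epi_of_flat_of_surjective _
  have : Epi (E' ◁ φ).left := AlgebraicGeometry.Flat.epi_of_flat_of_surjective _
  have := Groth.Agent.H40.FpqcDesc.epi_of_epi_left (φ ▷ E)
  have := Groth.Agent.H40.FpqcDesc.epi_of_epi_left (E' ◁ φ)
  rw [MonoidalCategory.tensorHom_def]
  infer_instance

theorem isMonHom_of_epi {C : Type*} [Category C] [CartesianMonoidalCategory C] {G H K : C}
    [MonObj G] [MonObj H] [MonObj K] (φ : G ⟶ H) [IsMonHom φ] [Epi (φ ⊗ₘ φ)] (ρ : H ⟶ K)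
    [IsMonHom (φ ≫ ρ)] : IsMonHom ρ where
  one_hom := by
    have h1 := IsMonHom.one_hom (f := φ ≫ ρ)
    have h2 := IsMonHom.one_hom (f := φ)
    rw [← h2, Category.assoc]
    exact h1
  mul_hom := by
    rw [← cancel_epi (φ ⊗ₘ φ)]
    have h1 := IsMonHom.mul_hom (f := φ ≫ ρ)
    have h2 := IsMonHom.mul_hom (f := φ)
    rw [← Category.assoc, ← h2, Category.assoc, h1, ← Category.assoc, tensorHom_comp_tensorHom]

end general

section field

variable {k : Type u} [Field k]

/-- over a field, a homomorphism killing the kernel of a faithfully flat homomorphism factors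
uniquely through it, by a homomorphism -/
theorem exists_unique_factor {E E' E'' : Over (Spec (CommRingCat.of k))} [GrpObj E] [GrpObj E']
    [GrpObj E''] [LocallyOfFiniteType E.hom] [LocallyOfFiniteType E'.hom]
    (φ : E ⟶ E') [IsMonHom φ] [Flat φ.left] [Surjective φ.left] (ψ : E ⟶ E'') [IsMonHom ψ]
    (hker : ∀ (W : Over (Spec (CommRingCat.of k))) (n : W ⟶ E), n ≫ φ = 1 → n ≫ ψ = 1) :
    ∃! ρ : E' ⟶ E'', IsMonHom ρ ∧ φ ≫ ρ = ψ := by
  have : EffectiveEpi φ.left := Groth.Agent.H40.FpqcDesc.effectiveEpi_left φ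
  have : Epi φ.left := inferInstance
  have : Epi φ := Groth.Agent.H40.FpqcDesc.epi_of_epi_left φ
  obtain ⟨ρ, hρ⟩ := Groth.Agent.H40.FpqcDesc.exists_desc φ ψ (fun W g₁ g₂ hg => by
    have hn : (g₁⁻¹ * g₂) ≫ φ = 1 := by
      rw [MonObj.mul_comp, GrpObj.inv_comp, hg, inv_mul_cancel]
    have := hker W (g₁⁻¹ * g₂) hn
    rw [MonObj.mul_comp, GrpObj.inv_comp, inv_mul_eq_one] at this
    exact this)
  refine ⟨ρ, ⟨?_, hρ⟩, fun ρ' h' => by rw [← cancel_epi φ, h'.2, hρ]⟩
  have : IsMonHom (φ ≫ ρ) := hρ ▸ inferInstance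
  have := epi_tensorHom φ
  exact isMonHom_of_epi φ ρ

variable [IsAlgClosed k]

/-- over an algebraically closed field, the kernel of an étale homomorphism is killed by a
homomorphism as soon as its rational points are -/
theorem ker_le_of_points {E E' E'' : Over (Spec (CommRingCat.of k))} [GrpObj E] [GrpObj E']
    [GrpObj E''] [IsSeparated E''.hom] [LocallyOfFiniteType E''.hom]
    (φ : E ⟶ E') [Etale φ.left] (ψ : E ⟶ E'')
    (hker : ∀ P : 𝟙_ (Over (Spec (CommRingCat.of k))) ⟶ E, P ≫ φ = η[E'] → P ≫ ψ = η[E''])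
    {W : Over (Spec (CommRingCat.of k))} (n : W ⟶ E) (hn : n ≫ φ = 1) : n ≫ ψ = 1 := by
  obtain ⟨N, hN⟩ : ∃ N : Over (Spec (CommRingCat.of k)), N = Limits.pullback φ η[E'] := ⟨_, rfl⟩
  obtain ⟨j, hj⟩ : ∃ j : Limits.pullback φ η[E'] ⟶ E, j = pullback.fst φ η[E'] := ⟨_, rfl⟩
  obtain ⟨n', hn'⟩ : ∃ n' : W ⟶ Limits.pullback φ η[E'], n' ≫ j = n :=
    ⟨pullback.lift n (toUnit W) (by rw [hn, Hom.one_def]), by rw [hj]; exact pullback.lift_fst _ _ _⟩
  suffices hjψ : j ≫ ψ = toUnit _ ≫ η[E''] by
    rw [← hn', Category.assoc, hjψ, ← Category.assoc, toUnit_unique (n' ≫ toUnit _) (toUnit W),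
      Hom.one_def]
  have hsq : IsPullback j.left (pullback.snd φ η[E']).left φ.left η[E'].left := by
    rw [hj]; exact (IsPullback.of_hasPullback φ η[E']).map (Over.forget _)
  have hNet : Etale (pullback.snd φ η[E']).left :=
    MorphismProperty.of_isPullback (P := @Etale) hsq inferInstance
  have hNhom : (Limits.pullback φ η[E']).hom = (pullback.snd φ η[E']).left := by
    have := Over.w (pullback.snd φ η[E'])
    rw [← this]
    exact (Category.comp_id _).symm
  have hNet' : Etale (Limits.pullback φ η[E']).hom := hNhom ▸ hNet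
  have : IsReduced (Limits.pullback φ η[E']).left :=
    Groth.Agent.H51.isReduced_of_smooth (Limits.pullback φ η[E']).hom
  have : LocallyOfFiniteType ((j ≫ ψ).left ≫ E''.hom) := by
    rw [Over.w (j ≫ ψ)]; infer_instance
  apply Over.OverMorphism.ext
  refine ext_of_apply_eq (K := k) E''.hom Set.univ isOpen_univ.isLocallyClosed dense_univ ?_ ?_
  · intro x _ hx
    obtain ⟨p, hp⟩ : ∃ p, p = pointOfClosedPoint (Limits.pullback φ η[E']).hom x hx := ⟨_, rfl⟩
    have hp1 : p ≫ (Limits.pullback φ η[E']).hom = 𝟙 _ := by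
      rw [hp]; exact pointOfClosedPoint_comp _ _ _
    obtain ⟨P', hP'⟩ : ∃ P' : 𝟙_ (Over (Spec (CommRingCat.of k))) ⟶ Limits.pullback φ η[E'],
        P'.left = p := ⟨Over.homMk p hp1, rfl⟩
    have h1 : (P' ≫ j) ≫ ψ = η[E''] := by
      apply hker
      rw [hj, Category.assoc, pullback.condition, ← Category.assoc,
        toUnit_unique (P' ≫ pullback.snd φ η[E']) (𝟙 _), Category.id_comp]
    have h2 : P' ≫ (toUnit _ ≫ η[E'']) = η[E''] := by
      rw [← Category.assoc, toUnit_unique (P' ≫ toUnit _) (𝟙 _), Category.id_comp]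
    have h3 : P' ≫ (j ≫ ψ) = P' ≫ (toUnit _ ≫ η[E'']) := by
      rw [h2, ← Category.assoc, h1]
    have hx' : p.base (IsLocalRing.closedPoint k) = x := by
      rw [hp]; exact pointOfClosedPoint_apply _ _ _ _
    have h4 := congrArg (fun m => m.left.base (IsLocalRing.closedPoint k)) h3
    simp only [Over.comp_left] at h4
    rw [← hx', ← hP']
    exact h4
  · rw [Over.w (j ≫ ψ), Over.w (toUnit _ ≫ η[E''])]

end field

end Groth.Agent.H40.IsogFactor
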