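import Groth.Agent.H40.KFlatBdd
import Groth.Agent.H40.FlatBridge
import Groth.Agent.H31.KFlatSite
import Groth.Agent.H31.AB5

/-!
# Bounded above complexes of flat modules are K-flat: ringed sites, schemes, rings
(helper40 library; instances of `Groth.Agent.H40.KFlatBdd`)
-/

set_option autoImplicit false
universe u
open CategoryTheory CategoryTheory.Limits HomologicalComplex MonoidalCategory AlgebraicGeometry

namespace Groth.Agent.H40.KFlatBddInst

open Groth.Agent.H31 Groth.Agent.H40.KFlatBdd

/-- Sequential colimits are exact in abelian groups (any universe). -/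
theorem hasExactColimitsOfShape_asSmall_nat_Ab :
    HasExactColimitsOfShape (AsSmall.{u} ℕ) AddCommGrpCat.{u} := by
  have : IsFiltered (AsSmall.{u} ℕ) := IsFiltered.of_equivalence AsSmall.equiv
  infer_instance

section Site

variable {C : Type u} [SmallCategory C] {J : GrothendieckTopology C} {O : Sheaf J CommRingCat.{u}}

theorem hasExactColimitsOfShape_nat_Mod : HasExactColimitsOfShape ℕ (ModSite.Mod O) := by
  have h1 := hasExactColimitsOfShape_asSmall_nat_Ab.{u}
  have h2 := hasExactColimitsOfShape_Mod (O := O) (AsSmall.{u} ℕ)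
  exact HasExactColimitsOfShape.of_domain_equivalence _ (AsSmall.equiv : ℕ ≌ AsSmall.{u} ℕ).symm

theorem termwiseFlat_of_isFlat (K : CochainComplex (ModSite.Mod O) ℤ)
    (h : ∀ n, ModSite.IsFlat (K.X n)) : TermwiseFlat (ModSite.tensorBi O) K := by
  intro q S hS
  obtain ⟨h1, h2⟩ := h q
  exact hS.map_of_exact _

/-- A bounded above complex of flat modules on a ringed site is K-flat. -/
theorem isKFlat_of_bounded_above (K : CochainComplex (ModSite.Mod O) ℤ) (b : ℤ)
    (hb : ∀ q, b < q → IsZero (K.X q)) (hflat : ∀ n : ℤ, ModSite.IsFlat (K.X n)) :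
    ModSite.IsKFlat K := by
  rw [Groth.Agent.H31.KFlat.isKFlat_iff]
  intro L hL
  have := hasExactColimitsOfShape_nat_Mod (O := O)
  exact acyclic_mapBifunctor_of_bounded_above (ModSite.tensorBi O) L hL K b hb
    (termwiseFlat_of_isFlat K hflat)

end Site


end Groth.Agent.H40.KFlatBddInst
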