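import Groth.Agent.H40.TorsorSq
import Groth.Prelude.Def_AlgGrp
import Groth.Prelude.Def_BT

/-!
# Kernels on points, and the ℓ-torsion of the layers of a Barsotti–Tate group (helper40, for S15054)
-/

set_option autoImplicit false
universe u
open CategoryTheory CategoryTheory.Limits AlgebraicGeometry MonoidalCategory CartesianMonoidalCategory MonObj

namespace Groth.Agent.H40.KerPts

variable {S : Scheme.{u}}

/-- points form of `AlgGrp.IsKernel` -/
theorem isKernel_iff {N G Q : Over S} [GrpObj Q] (n : N ⟶ G) (π : G ⟶ Q) :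
    AlgGrp.IsKernel n π ↔
      n ≫ π = 1 ∧ ∀ (T : Over S) (x : T ⟶ G), x ≫ π = 1 → ∃! m : T ⟶ N, m ≫ n = x := by
  constructor
  · intro hk
    have hk' : IsPullback n (toUnit N) π η[Q] := hk
    refine ⟨by rw [hk'.w, Hom.one_def], fun T x hx => ?_⟩
    have hx' : x ≫ π = toUnit T ≫ η[Q] := by rw [hx, Hom.one_def]
    refine ⟨hk'.lift x (toUnit T) hx', hk'.lift_fst _ _ _, fun m hm => ?_⟩
    apply hk'.hom_ext
    · rw [hm, hk'.lift_fst]
    · exact toUnit_unique _ _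
  · rintro ⟨h1, h2⟩
    refine Groth.Agent.H40.FpqcFam.isPullback_of_pts (by rw [h1, Hom.one_def]) ?_
    intro T x y hxy
    have hx : x ≫ π = 1 := by rw [hxy, Hom.one_def, toUnit_unique y (toUnit T)]
    obtain ⟨m, hm, hu⟩ := h2 T x hx
    exact ⟨m, ⟨hm, toUnit_unique _ _⟩, fun m' hm' => hu m' hm'.1⟩

theorem comp_id_pow {G : Over S} [GrpObj G] {T : Over S} (x : T ⟶ G) (n : ℕ) : x ≫ (𝟙 G) ^ n = x ^ n := by
  rw [MonObj.comp_pow, Category.comp_id]

/-- the ℓ-torsion of every layer of a Barsotti–Tate group is the first layer -/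
theorem bt_kernel (ℓ h : ℕ) (G : BTGrp.ProBT ℓ S h)
    (i : (t : ℕ) → (G.G 1 ⟶ G.G (t + 1))) (hi0 : i 0 = 𝟙 (G.G 1))
    (hi : ∀ t : ℕ, i (t + 1) = i t ≫ G.incl (t + 1)) (t : ℕ) :
    AlgGrp.IsKernel (i t) ((𝟙 (G.G (t + 1))) ^ ℓ) := by
  rw [isKernel_iff]
  simp only [comp_id_pow]
  induction t with
  | zero =>
    have hk := (isKernel_iff _ _).1 (G.isKernel 0)
    have h0 : G.incl 0 = 1 := by
      have := hk.1
      rwa [pow_zero, pow_one, Category.comp_id] at this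
    have h1 : (𝟙 (G.G (0 + 1))) ^ ℓ = 1 := by
      rw [← G.proj_incl 0, h0, MonObj.comp_one]
    refine ⟨by rw [hi0]; exact h1, fun T x _ => ⟨x, by dsimp only; rw [hi0, Category.comp_id], fun m hm => ?_⟩⟩
    dsimp only at hm
    rw [← hm, hi0, Category.comp_id]
  | succ t ih =>
    obtain ⟨ih1, ih2⟩ := ih
    have hk := (isKernel_iff _ _).1 (G.isKernel (t + 1))
    simp only [comp_id_pow] at hk
    obtain ⟨hk1, hk2⟩ := hk
    refine ⟨?_, fun T x hx => ?_⟩
    · rw [hi, ← MonObj.pow_comp, ih1, MonObj.one_comp]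
    · have hx' : x ^ (ℓ ^ (t + 1)) = 1 := by rw [pow_succ', pow_mul, hx, one_pow]
      obtain ⟨y, hy, hyu⟩ := hk2 T x hx'
      have hyl : y ^ ℓ = 1 := by
        obtain ⟨w, _, hwu⟩ := hk2 T 1 (one_pow _)
        rw [hwu (y ^ ℓ) (show (y ^ ℓ) ≫ G.incl (t + 1) = 1 by rw [MonObj.pow_comp, hy, hx]),
          hwu 1 (show (1 : T ⟶ G.G (t + 1)) ≫ G.incl (t + 1) = 1 from MonObj.one_comp _)]
      obtain ⟨z, hz, hzu⟩ := ih2 T y hyl
      refine ⟨z, by dsimp only; rw [hi, ← Category.assoc, hz, hy], fun z' hz' => ?_⟩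
      dsimp only at hz'
      apply hzu
      apply hyu
      rw [Category.assoc, ← hi, hz']

end Groth.Agent.H40.KerPts
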