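import Groth.Agent.H40.FpqcDesc2

/-!
# `G × ker q ≅ G ×_Q G` for a homomorphism `q : G ⟶ Q` — helper40
-/

set_option autoImplicit false
universe u

open CategoryTheory MonoidalCategory CartesianMonoidalCategory MonObj AlgebraicGeometry Limits

namespace Groth.Agent.H40.KerSquare

variable {S : Scheme.{u}}

/-- `(g, n) ↦ (g, g n)` identifies `G × N` with `G ×_Q G` when `N = ker q` -/
theorem isPullback_fst_mul_of_isKernel {N G Q : Over S} [GrpObj G] [GrpObj Q] (i : N ⟶ G)
    (q : G ⟶ Q) [IsMonHom q] (h : IsPullback i (toUnit N) q η[Q]) :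
    IsPullback (fst G N) ((G ◁ i) ≫ μ[G]) q q := by
  have hmul : ∀ {T : Over S} (l : T ⟶ G ⊗ N),
      l ≫ (G ◁ i) ≫ μ[G] = (l ≫ fst G N) * (l ≫ snd G N ≫ i) := by
    intro T l
    rw [Hom.mul_def, ← Category.assoc]
    congr 1
    apply CartesianMonoidalCategory.hom_ext <;> simp
  have key : ∀ (T : Over S) (g g' : T ⟶ G), g ≫ q = g' ≫ q → ∃ n : T ⟶ N, n ≫ i = g⁻¹ * g' := by
    intro T g g' e
    apply FlatDesc.exists_lift_of_isKernel i q h
    rw [MonObj.mul_comp, GrpObj.inv_comp, e, inv_mul_cancel]
  refine ⟨⟨?_⟩, ⟨Limits.PullbackCone.IsLimit.mk _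
    (fun s => lift s.fst (key s.pt s.fst s.snd s.condition).choose) ?_ ?_ ?_⟩⟩
  · have e0 := hmul (𝟙 (G ⊗ N))
    rw [Category.id_comp, Category.id_comp, Category.id_comp] at e0
    rw [e0, MonObj.mul_comp, FlatDesc.comp_eq_one_of_isKernel i q h, _root_.mul_one]
  · intro s
    exact lift_fst _ _
  · intro s
    rw [hmul, lift_fst, lift_snd_assoc, (key s.pt s.fst s.snd s.condition).choose_spec,
      mul_inv_cancel_left]
  · intro s l h1 h2
    have h3 : l ≫ snd G N = (key s.pt s.fst s.snd s.condition).choose := by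
      apply h.hom_ext
      · rw [(key s.pt s.fst s.snd s.condition).choose_spec, ← h1, ← h2, hmul, Category.assoc,
          inv_mul_cancel_left]
      · exact toUnit_unique _ _
    apply CartesianMonoidalCategory.hom_ext
    · rw [lift_fst, h1]
    · rw [lift_snd, h3]

/-- a property stable under base change and descending along fpqc covers holds for a flat
surjective quasi-compact homomorphism as soon as it holds for its kernel -/
theorem of_kernel {P : MorphismProperty Scheme.{u}} [P.IsStableUnderBaseChange]
    [P.DescendsAlong (@Surjective ⊓ @Flat ⊓ @QuasiCompact)]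
    {N G Q : Over S} [GrpObj G] [GrpObj Q] (i : N ⟶ G)
    (q : G ⟶ Q) [IsMonHom q] [Flat q.left] [Surjective q.left] [QuasiCompact q.left]
    (h : IsPullback i (toUnit N) q η[Q]) (hN : P N.hom) : P q.left := by
  have hsq := (isPullback_fst_mul_of_isKernel i q h).map (Over.forget S)
  have h3 : (@Surjective ⊓ @Flat ⊓ @QuasiCompact : MorphismProperty Scheme)
      ((Over.forget S).map q) :=
    ⟨⟨inferInstanceAs (Surjective q.left), inferInstanceAs (Flat q.left)⟩,
      inferInstanceAs (QuasiCompact q.left)⟩
  have hfst : P ((Over.forget S).map (fst G N)) := by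
    change P (pullback.fst G.hom N.hom)
    exact P.pullback_fst _ _ hN
  exact MorphismProperty.of_isPullback_of_descendsAlong (P := P)
    (Q := @Surjective ⊓ @Flat ⊓ @QuasiCompact) hsq h3 hfst

/-- conversely the kernel inherits any property stable under base change -/
theorem kernel_of {P : MorphismProperty Scheme.{u}} [P.IsStableUnderBaseChange]
    {N G Q : Over S} [GrpObj Q] (i : N ⟶ G) (q : G ⟶ Q)
    (h : IsPullback i (toUnit N) q η[Q]) (hq : P q.left) : P N.hom := by
  have hsq := h.map (Over.forget S)
  exact MorphismProperty.of_isPullback (P := P) hsq hq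

end Groth.Agent.H40.KerSquare
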