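import Groth.Agent.S6086

/-!
# Relative group laws: a group structure on a base change `k^*X` from morphisms over the base
satisfying the group axioms only on points factoring through `k` (helper40)
-/

set_option autoImplicit false
universe u
open CategoryTheory CategoryTheory.Limits MonoidalCategory CartesianMonoidalCategory MonObj GrpObj AlgebraicGeometry
open Opposite

namespace Groth.Agent.H40.RelGrp

open Groth.Agent.H63.BCPoints Groth.Agent.S18878 Groth.Agent.S6088 Groth.Agent.S6086

variable {S₀ S' : Scheme.{u}}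

theorem ofUnder_under (k : S' ⟶ S₀) {Y : Over S₀} {T : Over S'} (x : T ⟶ (Over.pullback k).obj Y) :
    ofUnder k (under k x) = x :=
  under_injective k (under_ofUnder k _)

section axioms
variable {X : Over S₀} (m : X ⊗ X ⟶ X) (e : 𝟙_ (Over S₀) ⟶ X) (iv : X ⟶ X)

noncomputable abbrev p₁ (X : Over S₀) : X ⊗ (X ⊗ X) ⟶ X := fst X (X ⊗ X)
noncomputable abbrev p₂ (X : Over S₀) : X ⊗ (X ⊗ X) ⟶ X := snd X (X ⊗ X) ≫ fst X X
noncomputable abbrev p₃ (X : Over S₀) : X ⊗ (X ⊗ X) ⟶ X := snd X (X ⊗ X) ≫ snd X X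

noncomputable abbrev assocL : X ⊗ (X ⊗ X) ⟶ X := lift (lift (p₁ X) (p₂ X) ≫ m) (p₃ X) ≫ m
noncomputable abbrev assocR : X ⊗ (X ⊗ X) ⟶ X := lift (p₁ X) (lift (p₂ X) (p₃ X) ≫ m) ≫ m
noncomputable abbrev oneMulL : X ⟶ X := lift (toUnit X ≫ e) (𝟙 X) ≫ m
noncomputable abbrev mulOneL : X ⟶ X := lift (𝟙 X) (toUnit X ≫ e) ≫ m
noncomputable abbrev invMulL : X ⟶ X := lift iv (𝟙 X) ≫ m
noncomputable abbrev invMulR : X ⟶ X := toUnit X ≫ e

end axioms

/-- A relative group law on `X` along `k`. -/
structure Law (k : S' ⟶ S₀) (X : Over S₀) where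
  m : X ⊗ X ⟶ X
  e : 𝟙_ (Over S₀) ⟶ X
  iv : X ⟶ X
  assoc : EqOn k (assocL m) (assocR m)
  one_mul : EqOn k (oneMulL m e) (𝟙 X)
  mul_one : EqOn k (mulOneL m e) (𝟙 X)
  inv_mul : EqOn k (invMulL m iv) (invMulR e)

variable {k : S' ⟶ S₀} {X : Over S₀}

section ops
variable (R : Law k X) (T : Over S')

noncomputable def pmul (x y : (Over.map k).obj T ⟶ X) : (Over.map k).obj T ⟶ X := lift x y ≫ R.m
noncomputable def pone : (Over.map k).obj T ⟶ X := toUnit _ ≫ R.e
noncomputable def pinv (x : (Over.map k).obj T ⟶ X) : (Over.map k).obj T ⟶ X := x ≫ R.iv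

theorem pmul_assoc (x y z : (Over.map k).obj T ⟶ X) :
    pmul R T (pmul R T x y) z = pmul R T x (pmul R T y z) := by
  have h := R.assoc T (lift x (lift y z))
  simp only [comp_lift_assoc, lift_fst, lift_snd, lift_snd_assoc] at h
  exact h

theorem pone_mul (x : (Over.map k).obj T ⟶ X) : pmul R T (pone R T) x = x := by
  have h := R.one_mul T x
  rw [Category.comp_id, ← Category.assoc, comp_lift, Category.comp_id, ← Category.assoc,
    toUnit_unique (x ≫ toUnit X) (toUnit _)] at h
  exact h

theorem pmul_one (x : (Over.map k).obj T ⟶ X) : pmul R T x (pone R T) = x := by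
  have h := R.mul_one T x
  rw [Category.comp_id, ← Category.assoc, comp_lift, Category.comp_id, ← Category.assoc,
    toUnit_unique (x ≫ toUnit X) (toUnit _)] at h
  exact h

theorem pinv_mul (x : (Over.map k).obj T ⟶ X) : pmul R T (pinv R T x) x = pone R T := by
  have h := R.inv_mul T x
  rw [← Category.assoc, comp_lift, Category.comp_id, ← Category.assoc,
    toUnit_unique (x ≫ toUnit X) (toUnit _)] at h
  exact h

end ops

/-- points of `X` over `T` (through `k`) -/
def Pts (_ : Law k X) (T : Over S') : Type u := ((Over.map k).obj T ⟶ X)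

noncomputable instance (R : Law k X) (T : Over S') : Group (Pts R T) where
  mul x y := pmul R T x y
  one := pone R T
  inv x := pinv R T x
  mul_assoc x y z := pmul_assoc R T x y z
  one_mul x := pone_mul R T x
  mul_one x := pmul_one R T x
  inv_mul_cancel x := pinv_mul R T x

theorem pts_mul_def (R : Law k X) (T : Over S') (x y : Pts R T) :
    x * y = pmul R T x y := rfl

section functor
variable (R : Law k X)

/-- restriction of points -/
noncomputable def ptsMap {T T' : Over S'} (φ : T' ⟶ T) : Pts R T →* Pts R T' where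
  toFun x := ((Over.map k).map φ ≫ (show (Over.map k).obj T ⟶ X from x) :)
  map_one' := by
    show (Over.map k).map φ ≫ toUnit _ ≫ R.e = toUnit _ ≫ R.e
    rw [← Category.assoc, toUnit_unique ((Over.map k).map φ ≫ toUnit _) (toUnit _)]
  map_mul' x y := by
    show (Over.map k).map φ ≫ lift _ _ ≫ R.m = lift _ _ ≫ R.m
    rw [← Category.assoc, comp_lift]

/-- the presheaf of groups of points -/
noncomputable def ptsFunctor : (Over S')ᵒᵖ ⥤ GrpCat.{u} where
  obj T := GrpCat.of (Pts R T.unop)
  map φ := GrpCat.ofHom (ptsMap R φ.unop)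
  map_id T := by
    apply GrpCat.hom_ext
    apply MonoidHom.ext
    intro x
    show (Over.map k).map (𝟙 T.unop) ≫ (show (Over.map k).obj T.unop ⟶ X from x) = x
    rw [CategoryTheory.Functor.map_id]
    exact Category.id_comp _
  map_comp φ ψ := by
    apply GrpCat.hom_ext
    apply MonoidHom.ext
    intro x
    show (Over.map k).map (ψ.unop ≫ φ.unop) ≫ _ = (Over.map k).map ψ.unop ≫ (Over.map k).map φ.unop ≫ _
    rw [CategoryTheory.Functor.map_comp, Category.assoc]

/-- `k^*X` represents the presheaf of points -/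
noncomputable def ptsRep : (ptsFunctor R ⋙ forget GrpCat).RepresentableBy ((Over.pullback k).obj X) where
  homEquiv {T} :=
    { toFun := fun x => (under k x : (Over.map k).obj T ⟶ X)
      invFun := fun x => ofUnder k (show (Over.map k).obj T ⟶ X from x)
      left_inv := fun x => ofUnder_under k x
      right_inv := fun x => under_ofUnder k _ }
  homEquiv_comp {T T'} f g := under_comp k f g

/-- the group structure on `k^*X` -/
@[instance_reducible]
noncomputable def grpObj : GrpObj ((Over.pullback k).obj X) :=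
  GrpObj.ofRepresentableBy _ (ptsFunctor R) (ptsRep R)

theorem under_mul' {T : Over S'} (x y : T ⟶ (Over.pullback k).obj X) :
    letI := grpObj R
    under k (x * y) = lift (under k x) (under k y) ≫ R.m := by
  letI := grpObj R
  exact ((yonedaGrpObjIsoOfRepresentableBy _ (ptsFunctor R) (ptsRep R)).hom.app (op T)).hom.map_mul x y

end functor

section DU
variable {S S' S'' : Scheme.{u}} (f : S'' ⟶ S') (g : S' ⟶ S) {d : S'' ⟶ S} (h : f ≫ g = d)

/-- transfer between iterated and composite `Over.map` -/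
noncomputable def tau (T : Over S'') : (Over.map g).obj ((Over.map f).obj T) ≅ (Over.map d).obj T :=
  Over.isoMk (Iso.refl T.left) (by simp [← h])

theorem under_bcCompIso_hom (X : Over S) {T : Over S''} (z : T ⟶ Red.bc f (Red.bc g X)) :
    under d (z ≫ (ActBC.bcCompIso f g X h).hom) = (tau f g h T).inv ≫ under g (under f z) := by
  apply Over.OverMorphism.ext
  simp [under_left, tau, ActBC.bcCompIso_hom_left_fst]

/-- monoidality of `bcCompIso` -/
theorem bcCompIso_tensor (X Y : Over S) :
    Functor.LaxMonoidal.μ (Over.pullback f) (Red.bc g X) (Red.bc g Y) ≫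
      (Over.pullback f).map (Functor.LaxMonoidal.μ (Over.pullback g) X Y) ≫
        (ActBC.bcCompIso f g (X ⊗ Y) h).hom =
    ((ActBC.bcCompIso f g X h).hom ⊗ₘ (ActBC.bcCompIso f g Y h).hom) ≫
      Functor.LaxMonoidal.μ (Over.pullback d) X Y := by
  apply Over.OverMorphism.ext
  apply pullback.hom_ext
  · simp only [Over.comp_left, Category.assoc, ActBC.bcCompIso_hom_left_fst,
      ActBC.pullback_map_left_fst_assoc]
    apply pullback.hom_ext
    · simp only [Category.assoc]
      rw [ActBC.μ_left_fst_fst, ActBC.μ_left_fst_fst_assoc, ActBC.μ_left_fst_fst,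
        ActBC.tensorHom_left_fst'_assoc, ActBC.bcCompIso_hom_left_fst]
    · simp only [Category.assoc]
      rw [ActBC.μ_left_fst_snd, ActBC.μ_left_fst_snd_assoc, ActBC.μ_left_fst_snd,
        ActBC.tensorHom_left_snd'_assoc, ActBC.bcCompIso_hom_left_fst]
  · exact (Over.w _).trans (Over.w _).symm

end DU

section model
variable {S₀ S' : Scheme.{u}} (k : S' ⟶ S₀) {G : Over S'} [GrpObj G] {X : Over S₀}
  (θ : G ≅ Red.bc k X)

/-- morphisms over the base inducing the group structure of `G ≅ k^*X` -/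
structure Model where
  m : X ⊗ X ⟶ X
  e : 𝟙_ (Over S₀) ⟶ X
  iv : X ⟶ X
  hm : Functor.LaxMonoidal.μ (Over.pullback k) X X ≫ (Over.pullback k).map m =
    (θ.inv ⊗ₘ θ.inv) ≫ μ[G] ≫ θ.hom
  he : Functor.LaxMonoidal.ε (Over.pullback k) ≫ (Over.pullback k).map e = η[G] ≫ θ.hom
  hi : (Over.pullback k).map iv = θ.inv ≫ ι[G] ≫ θ.hom

/-- the point of `X` under a point of `G` -/
noncomputable def hat {T : Over S'} (x : T ⟶ G) : (Over.map k).obj T ⟶ X := under k (x ≫ θ.hom)

theorem hat_surj {T : Over S'} (xb : (Over.map k).obj T ⟶ X) : ∃ x : T ⟶ G, hat k θ x = xb :=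
  ⟨ofUnder k xb ≫ θ.inv, by
    unfold hat
    rw [Category.assoc, Iso.inv_hom_id, Category.comp_id, under_ofUnder]⟩

variable {k θ} (M : Model k θ)

theorem hat_mul {T : Over S'} (x y : T ⟶ G) :
    hat k θ (x * y) = lift (hat k θ x) (hat k θ y) ≫ M.m := by
  unfold hat
  rw [← under_lift_μ, ← under_map, Category.assoc, M.hm]
  congr 1
  have h1 : lift (x ≫ θ.hom) (y ≫ θ.hom) ≫ (θ.inv ⊗ₘ θ.inv) = lift x y := by
    rw [lift_map]
    simp
  rw [Hom.mul_def, Category.assoc, ← Category.assoc (lift (x ≫ θ.hom) _), h1]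

theorem hat_one {T : Over S'} : hat k θ (1 : T ⟶ G) = toUnit _ ≫ M.e := by
  unfold hat
  rw [Hom.one_def, Category.assoc, ← M.he, ← Category.assoc, under_map]
  congr 1
  exact toUnit_unique _ _

theorem hat_inv {T : Over S'} (x : T ⟶ G) : hat k θ x⁻¹ = hat k θ x ≫ M.iv := by
  unfold hat
  rw [← under_map, M.hi, Hom.inv_def]
  simp

/-- the relative group law along `k` itself -/
noncomputable def Model.law : Law k X where
  m := M.m
  e := M.e
  iv := M.iv
  assoc := by
    intro T t
    obtain ⟨x, hx⟩ := hat_surj k θ (t ≫ fst X (X ⊗ X))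
    obtain ⟨y, hy⟩ := hat_surj k θ (t ≫ snd X (X ⊗ X) ≫ fst X X)
    obtain ⟨z, hz⟩ := hat_surj k θ (t ≫ snd X (X ⊗ X) ≫ snd X X)
    simp only [comp_lift_assoc]
    rw [← hx, ← hy, ← hz, ← hat_mul M, ← hat_mul M, ← hat_mul M, ← hat_mul M, _root_.mul_assoc]
  one_mul := by
    intro T t
    obtain ⟨x, hx⟩ := hat_surj k θ t
    simp only [comp_lift_assoc, Category.comp_id]
    rw [← Category.assoc, toUnit_unique (t ≫ toUnit X) (toUnit _), ← hx, ← hat_one M,
      ← hat_mul M, _root_.one_mul]
  mul_one := by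
    intro T t
    obtain ⟨x, hx⟩ := hat_surj k θ t
    simp only [comp_lift_assoc, Category.comp_id]
    rw [← Category.assoc, toUnit_unique (t ≫ toUnit X) (toUnit _), ← hx, ← hat_one M,
      ← hat_mul M, _root_.mul_one]
  inv_mul := by
    intro T t
    obtain ⟨x, hx⟩ := hat_surj k θ t
    simp only [comp_lift_assoc, Category.comp_id]
    rw [← Category.assoc t, toUnit_unique (t ≫ toUnit X) (toUnit _), ← hx, ← hat_inv M,
      ← hat_mul M, inv_mul_cancel, hat_one M]

end model

section final
variable {S₀ S₁ S' : Scheme.{u}} {k : S' ⟶ S₀} (k' : S' ⟶ S₁) (g : S₁ ⟶ S₀) (h : k' ≫ g = k)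
  {G : Over S'} [GrpObj G] {X : Over S₀} {θ : G ≅ Red.bc k X} (M : Model k θ)

theorem isMonHom_final (R : Law g X) (hR : R.m = M.m) :
    letI := grpObj R
    IsMonHom (θ.hom ≫ (ActBC.bcCompIso k' g X h).inv) := by
  letI := grpObj R
  apply isMonHom_of_points
  intro T x y
  have key : ∀ z : T ⟶ G, (tau k' g h T).inv ≫
      under g (under k' (z ≫ θ.hom ≫ (ActBC.bcCompIso k' g X h).inv)) = hat k θ z := by
    intro z
    rw [← under_bcCompIso_hom]
    unfold hat
    congr 1
    simp
  apply under_injective k'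
  apply under_injective g
  apply (cancel_epi (tau k' g h T).inv).1
  rw [key, hat_mul M, under_mul, under_mul' R, ← Category.assoc, comp_lift, key, key, hR]

end final

end Groth.Agent.H40.RelGrp
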