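import Groth.Agent.S6092
import Groth.Agent.S6085
import Groth.Agent.S2581
import Groth.Agent.S2075
import Groth.Agent.H48.FppfSource
import Groth.Agent.H52.DescCI

/-!
# Descent of quotient presentations through cofiltered limits (helper40)
-/

set_option autoImplicit false
universe u
open CategoryTheory CategoryTheory.Limits MonoidalCategory CartesianMonoidalCategory MonObj GrpObj AlgebraicGeometry

namespace Groth.Agent.H40.LimQuot

open Groth.Agent.H63.BCPoints Groth.Agent.S18878 Groth.Agent.S6088 Groth.Agent.S6086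

section general
variable {S₀ S' : Scheme.{u}} (k : S' ⟶ S₀)

/-- the base change of a morphism over `S₀` is a base change of its underlying morphism -/
theorem isPullback_map_left {X Y : Over S₀} (p : X ⟶ Y) :
    IsPullback (pullback.fst X.hom k) ((Over.pullback k).map p).left p.left
      (pullback.fst Y.hom k) := by
  have hY : IsPullback (pullback.fst Y.hom k) (pullback.snd Y.hom k) Y.hom k :=
    IsPullback.of_hasPullback _ _
  have hw : ((Over.pullback k).map p).left ≫ pullback.snd Y.hom k = pullback.snd X.hom k :=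
    Over.w ((Over.pullback k).map p)
  have big : IsPullback (pullback.fst X.hom k)
      (((Over.pullback k).map p).left ≫ pullback.snd Y.hom k) (p.left ≫ Y.hom) k := by
    rw [hw, Over.w p]
    exact IsPullback.of_hasPullback _ _
  exact IsPullback.of_bot big (ActBC.pullback_map_left_fst k p).symm hY

theorem prop_map_left (P : MorphismProperty Scheme.{u}) [P.IsStableUnderBaseChange]
    {X Y : Over S₀} (p : X ⟶ Y) (h : P p.left) : P ((Over.pullback k).map p).left :=
  MorphismProperty.of_isPullback (P := P) (isPullback_map_left k p) h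

/-- points criterion for a cartesian square `R ⇉ X → Y` after base change -/
theorem isPullback_iff {X Y R : Over S₀} (s t : R ⟶ X) (p : X ⟶ Y) [Mono (lift s t)] :
    IsPullback ((Over.pullback k).map s) ((Over.pullback k).map t) ((Over.pullback k).map p)
      ((Over.pullback k).map p) ↔
    EqOn k (s ≫ p) (t ≫ p) ∧ Fact k (lift s t) (eqι (fst X X ≫ p) (snd X X ≫ p)) := by
  constructor
  · intro h
    refine ⟨(eqOn_iff_map_eq k _ _).2 (by rw [Functor.map_comp, Functor.map_comp, h.w]),
      PtFact.fact ?_⟩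
    intro T tb
    have he := eqι_eq (fst X X ≫ p) (snd X X ≫ p)
    have hxy : ofUnder k (tb ≫ eqι _ _ ≫ fst X X) ≫ (Over.pullback k).map p =
        ofUnder k (tb ≫ eqι _ _ ≫ snd X X) ≫ (Over.pullback k).map p := by
      apply under_injective k
      rw [under_map, under_map, under_ofUnder, under_ofUnder]
      simp only [Category.assoc]
      rw [he]
    refine ⟨h.lift _ _ hxy, ?_⟩
    rw [under_map]
    apply CartesianMonoidalCategory.hom_ext
    · rw [Category.assoc, lift_fst, ← under_map, h.lift_fst, under_ofUnder]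
      simp only [Category.assoc]
    · rw [Category.assoc, lift_snd, ← under_map, h.lift_snd, under_ofUnder]
      simp only [Category.assoc]
  · rintro ⟨h1, h2⟩
    have hw : (Over.pullback k).map s ≫ (Over.pullback k).map p =
        (Over.pullback k).map t ≫ (Over.pullback k).map p := by
      rw [← Functor.map_comp, ← Functor.map_comp]
      exact (eqOn_iff_map_eq k _ _).1 h1
    have hmono : ∀ {T : Over S'} (a b : T ⟶ (Over.pullback k).obj R),
        a ≫ (Over.pullback k).map s = b ≫ (Over.pullback k).map s →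
        a ≫ (Over.pullback k).map t = b ≫ (Over.pullback k).map t → a = b := by
      intro T a b hs ht
      apply under_injective k
      rw [← cancel_mono (lift s t)]
      apply CartesianMonoidalCategory.hom_ext
      · rw [Category.assoc, Category.assoc, lift_fst, ← under_map, ← under_map, hs]
      · rw [Category.assoc, Category.assoc, lift_snd, ← under_map, ← under_map, ht]
    have hex : ∀ {T : Over S'} (x y : T ⟶ (Over.pullback k).obj X),
        x ≫ (Over.pullback k).map p = y ≫ (Over.pullback k).map p →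
        ∃ r : T ⟶ (Over.pullback k).obj R, r ≫ (Over.pullback k).map s = x ∧
          r ≫ (Over.pullback k).map t = y := by
      intro T x y hxy
      have hxy' : under k x ≫ p = under k y ≫ p := by
        rw [← under_map, ← under_map, hxy]
      let tE : (Over.map k).obj T ⟶ EQ (fst X X ≫ p) (snd X X ≫ p) :=
        pullback.lift (lift (under k x) (under k y)) (under k x ≫ p) (by
          apply CartesianMonoidalCategory.hom_ext
          · simp only [Category.assoc, lift_fst, Category.comp_id, lift_fst_assoc]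
          · simp only [Category.assoc, lift_snd, Category.comp_id, lift_snd_assoc]
            exact hxy'.symm)
      have htE : tE ≫ eqι _ _ = lift (under k x) (under k y) := pullback.lift_fst _ _ _
      obtain ⟨z, hz⟩ := h2.ptFact T tE
      rw [under_map, htE] at hz
      refine ⟨z, under_injective k ?_, under_injective k ?_⟩
      · rw [under_map]
        have := congrArg (fun m => m ≫ fst X X) hz
        simpa only [Category.assoc, lift_fst] using this
      · rw [under_map]
        have := congrArg (fun m => m ≫ snd X X) hz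
        simpa only [Category.assoc, lift_snd] using this
    refine ⟨⟨hw⟩, ⟨PullbackCone.IsLimit.mk _ (fun c => (hex c.fst c.snd c.condition).choose)
      (fun c => (hex c.fst c.snd c.condition).choose_spec.1)
      (fun c => (hex c.fst c.snd c.condition).choose_spec.2) ?_⟩⟩
    intro c m hm1 hm2
    exact hmono _ _ (hm1.trans (hex c.fst c.snd c.condition).choose_spec.1.symm)
      (hm2.trans (hex c.fst c.snd c.condition).choose_spec.2.symm)

end general

section restage
variable {S₀ S' S'' : Scheme.{u}} (k : S' ⟶ S₀) (k' : S'' ⟶ S')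

theorem prop_restage (P : MorphismProperty Scheme.{u}) [P.IsStableUnderBaseChange]
    {X Y : Over S₀} (p : X ⟶ Y) (h : P ((Over.pullback k).map p).left) :
    P ((Over.pullback (k' ≫ k)).map p).left := by
  have hn := ActBC.bcCompIso_hom_naturality k' k rfl p
  have e : (Over.pullback (k' ≫ k)).map p = (ActBC.bcCompIso k' k X rfl).inv ≫
      (Over.pullback k').map ((Over.pullback k).map p) ≫ (ActBC.bcCompIso k' k Y rfl).hom := by
    rw [hn, Iso.inv_hom_id_assoc]
  rw [e, Over.comp_left, Over.comp_left]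
  have h1 : P ((Over.pullback k').map ((Over.pullback k).map p)).left := prop_map_left k' P _ h
  exact (P.cancel_left_of_respectsIso _ _).2 ((P.cancel_right_of_respectsIso _ _).2 h1)

end restage

section stage
variable {I : Type u} [SmallCategory I] [IsCofiltered I]
  (D : I ⥤ Scheme.{u}) (c : Limits.Cone D) (hc : Limits.IsLimit c)
  [∀ (i j : I) (a : i ⟶ j), IsAffineHom (D.map a)] (i₀ : I) [CompactSpace (D.obj i₀)]
  [QuasiSeparatedSpace (D.obj i₀)]

omit [IsCofiltered I] [∀ (i j : I) (a : i ⟶ j), IsAffineHom (D.map a)] [CompactSpace (D.obj i₀)]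
  [QuasiSeparatedSpace (D.obj i₀)] in
theorem of_tower (P : MorphismProperty Scheme.{u}) [P.IsStableUnderBaseChange]
    {X Y : Over (D.obj i₀)} (p : X ⟶ Y)
    (H : ∃ (i : I) (φ : i ⟶ i₀) (Xi Yi : Scheme.{u}) (fi : Xi ⟶ Yi) (gi : Yi ⟶ D.obj i)
      (pY : Yi ⟶ Y.left) (pX : Xi ⟶ X.left), IsPullback pY gi Y.hom (D.map φ) ∧
        IsPullback pX fi p.left pY ∧ P fi) :
    ∃ (i : I) (φ : i ⟶ i₀), P ((Over.pullback (D.map φ)).map p).left := by
  obtain ⟨i, φ, Xi, Yi, fi, gi, pY, pX, hYi, hXi, hP⟩ := H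
  refine ⟨i, φ, ?_⟩
  let e : pullback Y.hom (D.map φ) ⟶ Yi :=
    hYi.lift (pullback.fst Y.hom (D.map φ)) (pullback.snd Y.hom (D.map φ)) pullback.condition
  have he : e ≫ pY = pullback.fst Y.hom (D.map φ) := hYi.lift_fst _ _ _
  have hcond : pullback.fst X.hom (D.map φ) ≫ p.left =
      (((Over.pullback (D.map φ)).map p).left ≫ e) ≫ pY := by
    rw [Category.assoc, he, ActBC.pullback_map_left_fst]
  let eX : pullback X.hom (D.map φ) ⟶ Xi :=
    hXi.lift (pullback.fst X.hom (D.map φ)) (((Over.pullback (D.map φ)).map p).left ≫ e) hcond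
  have heX1 : eX ≫ pX = pullback.fst X.hom (D.map φ) := hXi.lift_fst _ _ _
  have heX2 : eX ≫ fi = ((Over.pullback (D.map φ)).map p).left ≫ e := hXi.lift_snd _ _ _
  have big : IsPullback (eX ≫ pX) ((Over.pullback (D.map φ)).map p).left p.left (e ≫ pY) := by
    rw [heX1, he]
    exact isPullback_map_left (D.map φ) p
  have sq : IsPullback eX ((Over.pullback (D.map φ)).map p).left fi e :=
    IsPullback.of_right big heX2 hXi
  exact MorphismProperty.of_isPullback (P := P) sq hP

variable {X Y : Over (D.obj i₀)} (p : X ⟶ Y)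
  [LocallyOfFinitePresentation X.hom] [QuasiCompact X.hom] [QuasiSeparated X.hom]
  [LocallyOfFinitePresentation Y.hom] [QuasiCompact Y.hom] [QuasiSeparated Y.hom]

include hc in
theorem exists_stage_flat (h : Flat ((Over.pullback (c.π.app i₀)).map p).left) :
    ∃ (i : I) (φ : i ⟶ i₀), Flat ((Over.pullback (D.map φ)).map p).left := by
  haveI : CompactSpace X.left := QuasiCompact.compactSpace_of_compactSpace X.hom
  haveI : QuasiSeparatedSpace X.left := quasiSeparatedSpace_of_quasiSeparated X.hom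
  haveI : CompactSpace Y.left := QuasiCompact.compactSpace_of_compactSpace Y.hom
  haveI : QuasiSeparatedSpace Y.left := quasiSeparatedSpace_of_quasiSeparated Y.hom
  haveI : LocallyOfFinitePresentation (p.left ≫ Y.hom) := by rw [Over.w p]; infer_instance
  haveI : LocallyOfFinitePresentation p.left :=
    Groth.Agent.H49.SmoothFibreMap.lfp_of_comp_of_lft p.left Y.hom inferInstance inferInstance
  haveI := h
  exact of_tower D i₀ @Flat p (Groth.Agent.S2075.result D c hc i₀ p.left Y.hom
    ((Over.pullback (c.π.app i₀)).map p).left (pullback.snd Y.hom (c.π.app i₀))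
    (pullback.fst Y.hom (c.π.app i₀)) (pullback.fst X.hom (c.π.app i₀))
    (IsPullback.of_hasPullback _ _) (isPullback_map_left (c.π.app i₀) p))

include hc in
theorem exists_stage_surjective (h : Surjective ((Over.pullback (c.π.app i₀)).map p).left) :
    ∃ (i : I) (φ : i ⟶ i₀), Surjective ((Over.pullback (D.map φ)).map p).left := by
  haveI : LocallyOfFinitePresentation (p.left ≫ Y.hom) := by rw [Over.w p]; infer_instance
  haveI : QuasiCompact (p.left ≫ Y.hom) := by rw [Over.w p]; infer_instance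
  haveI : QuasiSeparated (p.left ≫ Y.hom) := by rw [Over.w p]; infer_instance
  haveI := h
  exact of_tower D i₀ @Surjective p (Groth.Agent.S2581.result D c hc i₀ p.left Y.hom
    ((Over.pullback (c.π.app i₀)).map p).left (pullback.snd Y.hom (c.π.app i₀))
    (pullback.fst Y.hom (c.π.app i₀)) (pullback.fst X.hom (c.π.app i₀))
    (IsPullback.of_hasPullback _ _) (isPullback_map_left (c.π.app i₀) p))

end stage

section core
variable {I : Type u} [SmallCategory I] [IsCofiltered I]
  (D : I ⥤ Scheme.{u}) (c : Limits.Cone D) (hc : Limits.IsLimit c)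
  [∀ (i j : I) (a : i ⟶ j), IsAffineHom (D.map a)] (i₀ : I) [CompactSpace (D.obj i₀)]
  [QuasiSeparatedSpace (D.obj i₀)]
  {X Y R : Over (D.obj i₀)} (s t : R ⟶ X) (p : X ⟶ Y) [Mono (lift s t)]
  [LocallyOfFinitePresentation X.hom] [QuasiCompact X.hom] [QuasiSeparated X.hom]
  [LocallyOfFinitePresentation Y.hom] [QuasiCompact Y.hom] [QuasiSeparated Y.hom]
  [LocallyOfFinitePresentation R.hom] [QuasiCompact R.hom] [QuasiSeparated R.hom]

include hc in
theorem core (h1 : Flat ((Over.pullback (c.π.app i₀)).map p).left)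
    (h2 : Surjective ((Over.pullback (c.π.app i₀)).map p).left)
    (h3 : IsPullback ((Over.pullback (c.π.app i₀)).map s) ((Over.pullback (c.π.app i₀)).map t)
      ((Over.pullback (c.π.app i₀)).map p) ((Over.pullback (c.π.app i₀)).map p)) :
    ∃ (i : I) (φ : i ⟶ i₀), Flat ((Over.pullback (D.map φ)).map p).left ∧
      Surjective ((Over.pullback (D.map φ)).map p).left ∧
      IsPullback ((Over.pullback (D.map φ)).map s) ((Over.pullback (D.map φ)).map t)
        ((Over.pullback (D.map φ)).map p) ((Over.pullback (D.map φ)).map p) := by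
  haveI : LocallyOfFinitePresentation (X ⊗ X).hom := by rw [Over.tensorObj_hom]; infer_instance
  haveI : QuasiCompact (X ⊗ X).hom := by rw [Over.tensorObj_hom]; infer_instance
  haveI : QuasiSeparated (X ⊗ X).hom := by rw [Over.tensorObj_hom]; infer_instance
  obtain ⟨hE, hF⟩ := (isPullback_iff (c.π.app i₀) s t p).1 h3
  -- finiteness of the equalizer and of `(s, t)`
  obtain ⟨q1, q2, q3, q4⟩ := eqι_props (fst X X ≫ p) (snd X X ≫ p)
  haveI := q1
  haveI := q2
  haveI := q3
  haveI : LocallyOfFinitePresentation (EQ (fst X X ≫ p) (snd X X ≫ p)).hom := by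
    rw [← Over.w (eqι (fst X X ≫ p) (snd X X ≫ p))]; infer_instance
  haveI : QuasiCompact (EQ (fst X X ≫ p) (snd X X ≫ p)).hom := by
    rw [← Over.w (eqι (fst X X ≫ p) (snd X X ≫ p))]; infer_instance
  haveI : QuasiSeparated (EQ (fst X X ≫ p) (snd X X ≫ p)).hom := by
    rw [← Over.w (eqι (fst X X ≫ p) (snd X X ≫ p))]; infer_instance
  haveI : LocallyOfFinitePresentation ((lift s t).left ≫ (X ⊗ X).hom) := by
    rw [Over.w (lift s t)]; infer_instance
  haveI : QuasiCompact ((lift s t).left ≫ (X ⊗ X).hom) := by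
    rw [Over.w (lift s t)]; infer_instance
  haveI : QuasiSeparated ((lift s t).left ≫ (X ⊗ X).hom) := by
    rw [Over.w (lift s t)]; infer_instance
  haveI : LocallyOfFinitePresentation (lift s t).left :=
    Groth.Agent.H49.SmoothFibreMap.lfp_of_comp_of_lft (lift s t).left (X ⊗ X).hom
      inferInstance inferInstance
  haveI : QuasiCompact (lift s t).left := QuasiCompact.of_comp (lift s t).left (X ⊗ X).hom
  haveI : QuasiSeparated (lift s t).left := QuasiSeparated.of_comp (lift s t).left (X ⊗ X).hom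
  have hinj : InjOn (c.π.app i₀) (lift s t) := (mono_iff_injOn _ _).1 inferInstance
  have s1 := exists_stage_flat D c hc i₀ p h1
  have s2 := exists_stage_surjective D c hc i₀ p h2
  have s3 : ∃ (i : I) (φ : i ⟶ i₀), Fact (D.map φ) (eqι (s ≫ p) (t ≫ p)) (𝟙 R) := by
    obtain ⟨i, φ, h⟩ := exists_stage_eq D c hc i₀ (s ≫ p) (t ≫ p) hE
    exact ⟨i, φ, (eqOn_iff_fact _ _ _).1 h⟩
  have s4 := exists_stage' D c hc i₀ (lift s t) hinj (eqι (fst X X ≫ p) (snd X X ≫ p)) hF
  have s12 := exists_common i₀ (fun i φ => Flat ((Over.pullback (D.map φ)).map p).left)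
    (fun i φ => Surjective ((Over.pullback (D.map φ)).map p).left)
    (fun φ b h => by
      rw [D.map_comp]; exact prop_restage (D.map φ) (D.map b) @Flat p h)
    (fun φ b h => by
      rw [D.map_comp]; exact prop_restage (D.map φ) (D.map b) @Surjective p h) s1 s2
  have s34 := exists_common i₀ (fun i φ => Fact (D.map φ) (eqι (s ≫ p) (t ≫ p)) (𝟙 R))
    (fun i φ => Fact (D.map φ) (lift s t) (eqι (fst X X ≫ p) (snd X X ≫ p)))
    (fun φ b h => Fact.restage D i₀ _ h b) (fun φ b h => Fact.restage D i₀ _ h b) s3 s4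
  obtain ⟨i, φ, ⟨r1, r2⟩, ⟨r3, r4⟩⟩ := exists_common i₀
    (fun i φ => Flat ((Over.pullback (D.map φ)).map p).left ∧
      Surjective ((Over.pullback (D.map φ)).map p).left)
    (fun i φ => Fact (D.map φ) (eqι (s ≫ p) (t ≫ p)) (𝟙 R) ∧
      Fact (D.map φ) (lift s t) (eqι (fst X X ≫ p) (snd X X ≫ p)))
    (fun φ b h => by
      rw [D.map_comp]
      exact ⟨prop_restage (D.map φ) (D.map b) @Flat p h.1,
        prop_restage (D.map φ) (D.map b) @Surjective p h.2⟩)
    (fun φ b h => ⟨Fact.restage D i₀ _ h.1 b, Fact.restage D i₀ _ h.2 b⟩) s12 s34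
  exact ⟨i, φ, r1, r2, (isPullback_iff (D.map φ) s t p).2 ⟨(eqOn_iff_fact _ _ _).2 r3, r4⟩⟩

end core

section rep
variable {S₀ S' : Scheme.{u}}

/-- the quotient of the base change of `X` by the base change of `R ⇉ X` is representable -/
def Rep (k : S' ⟶ S₀) {X R : Over S₀} (s t : R ⟶ X) : Prop :=
  ∃ (Y : Over S') (p : Red.bc k X ⟶ Y), Flat p.left ∧ Surjective p.left ∧
    LocallyOfFinitePresentation p.left ∧
    IsPullback ((Over.pullback k).map s) ((Over.pullback k).map t) p p

theorem mono_lift_map (k : S' ⟶ S₀) {X R : Over S₀} (s t : R ⟶ X) [Mono (lift s t)] :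
    Mono (lift ((Over.pullback k).map s) ((Over.pullback k).map t)) := by
  constructor
  intro T a b hab
  have hs := congrArg (fun m => m ≫ fst _ _) hab
  have ht := congrArg (fun m => m ≫ snd _ _) hab
  simp only [Category.assoc, lift_fst, lift_snd] at hs ht
  apply under_injective k
  rw [← cancel_mono (lift s t)]
  apply CartesianMonoidalCategory.hom_ext
  · rw [Category.assoc, Category.assoc, lift_fst, ← under_map, ← under_map, hs]
  · rw [Category.assoc, Category.assoc, lift_snd, ← under_map, ← under_map, ht]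

theorem Rep.precomp {k : S' ⟶ S₀} {X R : Over S₀} {s t : R ⟶ X} (h : Rep k s t)
    {S'' : Scheme.{u}} (k' : S'' ⟶ S') : Rep (k' ≫ k) s t := by
  obtain ⟨Y, p, h1, h2, h3, h4⟩ := h
  refine ⟨(Over.pullback k').obj Y, (ActBC.bcCompIso k' k X rfl).inv ≫ (Over.pullback k').map p,
    ?_, ?_, ?_, ?_⟩
  · rw [Over.comp_left]
    exact (MorphismProperty.cancel_left_of_respectsIso @Flat _ _).2
      (prop_map_left k' @Flat p h1)
  · rw [Over.comp_left]
    exact (MorphismProperty.cancel_left_of_respectsIso @Surjective _ _).2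
      (prop_map_left k' @Surjective p h2)
  · rw [Over.comp_left]
    exact (MorphismProperty.cancel_left_of_respectsIso @LocallyOfFinitePresentation _ _).2
      (prop_map_left k' @LocallyOfFinitePresentation p h3)
  · have hk := h4.map (Over.pullback k')
    refine IsPullback.of_iso hk (ActBC.bcCompIso k' k R rfl) (ActBC.bcCompIso k' k X rfl)
      (ActBC.bcCompIso k' k X rfl) (Iso.refl _) ?_ ?_ ?_ ?_
    · exact ActBC.bcCompIso_hom_naturality k' k rfl s
    · exact ActBC.bcCompIso_hom_naturality k' k rfl t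
    · simp
    · simp

/-- passing from a base change `k₀^*` of the data to the data itself -/
theorem Rep.comp {S₁ : Scheme.{u}} {k : S' ⟶ S₁} {k₀ : S₁ ⟶ S₀} {X R : Over S₀} {s t : R ⟶ X}
    (h : Rep k ((Over.pullback k₀).map s) ((Over.pullback k₀).map t)) : Rep (k ≫ k₀) s t := by
  obtain ⟨Y, p, h1, h2, h3, h4⟩ := h
  refine ⟨Y, (ActBC.bcCompIso k k₀ X rfl).inv ≫ p, ?_, ?_, ?_, ?_⟩
  · rw [Over.comp_left]
    exact (MorphismProperty.cancel_left_of_respectsIso @Flat _ _).2 h1
  · rw [Over.comp_left]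
    exact (MorphismProperty.cancel_left_of_respectsIso @Surjective _ _).2 h2
  · rw [Over.comp_left]
    exact (MorphismProperty.cancel_left_of_respectsIso @LocallyOfFinitePresentation _ _).2 h3
  · refine IsPullback.of_iso h4 (ActBC.bcCompIso k k₀ R rfl) (ActBC.bcCompIso k k₀ X rfl)
      (ActBC.bcCompIso k k₀ X rfl) (Iso.refl _) ?_ ?_ ?_ ?_
    · exact ActBC.bcCompIso_hom_naturality k k₀ rfl s
    · exact ActBC.bcCompIso_hom_naturality k k₀ rfl t
    · simp
    · simp

/-- the quotient is of finite presentation -/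
theorem fp_of_quotient {X R Y : Over S'} (s t : R ⟶ X) (p : X ⟶ Y)
    [LocallyOfFinitePresentation X.hom] [QuasiCompact X.hom] [QuasiSeparated X.hom]
    [QuasiCompact R.hom]
    (h1 : Flat p.left) (h2 : Surjective p.left) (h3 : LocallyOfFinitePresentation p.left)
    (h4 : IsPullback s t p p) :
    LocallyOfFinitePresentation Y.hom ∧ QuasiCompact Y.hom ∧ QuasiSeparated Y.hom := by
  haveI := h1
  haveI := h2
  haveI := h3
  have h4' : IsPullback s.left t.left p.left p.left := h4.map (Over.forget _)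
  haveI : QuasiCompact (s.left ≫ X.hom) := by rw [Over.w s]; infer_instance
  have hs : QuasiCompact s.left := QuasiCompact.of_comp s.left X.hom
  haveI := Groth.Agent.H52.quasiCompact_descendsAlong_fppf.{u}
  have hp : QuasiCompact p.left :=
    MorphismProperty.of_isPullback_of_descendsAlong (P := @QuasiCompact)
      (Q := Groth.Agent.H50.fppfProp) h4' ⟨⟨h2, h1⟩, h3⟩ hs
  haveI := hp
  haveI : LocallyOfFinitePresentation (p.left ≫ Y.hom) := by rw [Over.w p]; infer_instance
  haveI : QuasiCompact (p.left ≫ Y.hom) := by rw [Over.w p]; infer_instance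
  haveI : QuasiSeparated (p.left ≫ Y.hom) := by rw [Over.w p]; infer_instance
  exact ⟨Groth.Agent.H48.FppfSource.locallyOfFinitePresentation_of_comp_fppf p.left Y.hom,
    Groth.Agent.H48.FppfSource.quasiCompact_of_comp_surjective p.left Y.hom,
    Groth.Agent.H48.FppfSource.quasiSeparated_of_comp_surjective p.left Y.hom⟩

end rep

section main
open Groth.Agent.S6085

theorem prop_conj {S' : Scheme.{u}} (P : MorphismProperty Scheme.{u}) [P.RespectsIso]
    {X X' Y Y' : Over S'} (a : X' ≅ X) (b : Y ≅ Y') (p : X ⟶ Y) (h : P p.left) :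
    P (a.hom ≫ p ≫ b.hom).left := by
  rw [Over.comp_left, Over.comp_left]
  exact (P.cancel_left_of_respectsIso _ _).2 ((P.cancel_right_of_respectsIso _ _).2 h)

variable {I : Type u} [SmallCategory I] [IsCofiltered I]
  (D : I ⥤ Scheme.{u}) (c : Limits.Cone D) (hc : Limits.IsLimit c)
  [∀ (i j : I) (a : i ⟶ j), IsAffineHom (D.map a)]
  [∀ i, CompactSpace (D.obj i)] [∀ i, QuasiSeparatedSpace (D.obj i)]

omit [IsCofiltered I] [∀ (i j : I) (a : i ⟶ j), IsAffineHom (D.map a)]
  [∀ i, CompactSpace (D.obj i)] [∀ i, QuasiSeparatedSpace (D.obj i)] in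
/-- transport of a cartesian square over the limit through `bcCompIso` -/
theorem isPullback_transport {i j : I} (f : i ⟶ j) {X R : Over (D.obj j)} (s t : R ⟶ X)
    {Z Z' : Over c.pt} (p : Red.bc (c.π.app j) X ⟶ Z) (e : Z ≅ Z')
    (h : IsPullback ((Over.pullback (c.π.app j)).map s) ((Over.pullback (c.π.app j)).map t) p p) :
    IsPullback ((Over.pullback (c.π.app i)).map ((Over.pullback (D.map f)).map s))
      ((Over.pullback (c.π.app i)).map ((Over.pullback (D.map f)).map t))
      ((ActBC.bcCompIso (c.π.app i) (D.map f) X (c.w f)).hom ≫ p ≫ e.hom)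
      ((ActBC.bcCompIso (c.π.app i) (D.map f) X (c.w f)).hom ≫ p ≫ e.hom) := by
  refine IsPullback.of_iso h (ActBC.bcCompIso (c.π.app i) (D.map f) R (c.w f)).symm
    (ActBC.bcCompIso (c.π.app i) (D.map f) X (c.w f)).symm
    (ActBC.bcCompIso (c.π.app i) (D.map f) X (c.w f)).symm e ?_ ?_ ?_ ?_
  · simp only [Iso.symm_hom]
    rw [Iso.comp_inv_eq, Category.assoc, Iso.eq_inv_comp]
    exact (ActBC.bcCompIso_hom_naturality (c.π.app i) (D.map f) (c.w f) s).symm
  · simp only [Iso.symm_hom]
    rw [Iso.comp_inv_eq, Category.assoc, Iso.eq_inv_comp]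
    exact (ActBC.bcCompIso_hom_naturality (c.π.app i) (D.map f) (c.w f) t).symm
  · simp
  · simp

include hc in
theorem rep_stage (i₂ : I) {X₂ R₂ Y₂ : Over (D.obj i₂)} (s₂ t₂ : R₂ ⟶ X₂) [Mono (lift s₂ t₂)]
    [LocallyOfFinitePresentation X₂.hom] [QuasiCompact X₂.hom] [QuasiSeparated X₂.hom]
    [LocallyOfFinitePresentation R₂.hom] [QuasiCompact R₂.hom] [QuasiSeparated R₂.hom]
    [LocallyOfFinitePresentation Y₂.hom] [QuasiCompact Y₂.hom] [QuasiSeparated Y₂.hom]
    (u : Red.bc (c.π.app i₂) X₂ ⟶ Red.bc (c.π.app i₂) Y₂)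
    (h1 : Flat u.left) (h2 : Surjective u.left)
    (h4 : IsPullback ((Over.pullback (c.π.app i₂)).map s₂) ((Over.pullback (c.π.app i₂)).map t₂)
      u u) :
    ∃ (i : I) (f : i ⟶ i₂), Rep (D.map f) s₂ t₂ := by
  obtain ⟨i₃, f₃, u₃, hC⟩ := exists_hom_stage D c i₂ X₂ Y₂ hc u
  have e := hC.eq
  haveI : LocallyOfFinitePresentation (Red.bc (D.map f₃) X₂).hom :=
    inferInstanceAs (LocallyOfFinitePresentation (pullback.snd X₂.hom (D.map f₃)))
  haveI : QuasiCompact (Red.bc (D.map f₃) X₂).hom :=
    inferInstanceAs (QuasiCompact (pullback.snd X₂.hom (D.map f₃)))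
  haveI : QuasiSeparated (Red.bc (D.map f₃) X₂).hom :=
    inferInstanceAs (QuasiSeparated (pullback.snd X₂.hom (D.map f₃)))
  haveI : LocallyOfFinitePresentation (Red.bc (D.map f₃) R₂).hom :=
    inferInstanceAs (LocallyOfFinitePresentation (pullback.snd R₂.hom (D.map f₃)))
  haveI : QuasiCompact (Red.bc (D.map f₃) R₂).hom :=
    inferInstanceAs (QuasiCompact (pullback.snd R₂.hom (D.map f₃)))
  haveI : QuasiSeparated (Red.bc (D.map f₃) R₂).hom :=
    inferInstanceAs (QuasiSeparated (pullback.snd R₂.hom (D.map f₃)))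
  haveI : LocallyOfFinitePresentation (Red.bc (D.map f₃) Y₂).hom :=
    inferInstanceAs (LocallyOfFinitePresentation (pullback.snd Y₂.hom (D.map f₃)))
  haveI : QuasiCompact (Red.bc (D.map f₃) Y₂).hom :=
    inferInstanceAs (QuasiCompact (pullback.snd Y₂.hom (D.map f₃)))
  haveI : QuasiSeparated (Red.bc (D.map f₃) Y₂).hom :=
    inferInstanceAs (QuasiSeparated (pullback.snd Y₂.hom (D.map f₃)))
  haveI : Mono (lift ((Over.pullback (D.map f₃)).map s₂) ((Over.pullback (D.map f₃)).map t₂)) :=
    mono_lift_map _ s₂ t₂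
  have k1 : Flat ((Over.pullback (c.π.app i₃)).map u₃).left := by
    rw [e]
    exact prop_conj @Flat (ActBC.bcCompIso (c.π.app i₃) (D.map f₃) X₂ (c.w f₃))
      (ActBC.bcCompIso (c.π.app i₃) (D.map f₃) Y₂ (c.w f₃)).symm u h1
  have k2 : Surjective ((Over.pullback (c.π.app i₃)).map u₃).left := by
    rw [e]
    exact prop_conj @Surjective (ActBC.bcCompIso (c.π.app i₃) (D.map f₃) X₂ (c.w f₃))
      (ActBC.bcCompIso (c.π.app i₃) (D.map f₃) Y₂ (c.w f₃)).symm u h2
  have k3 : IsPullback
      ((Over.pullback (c.π.app i₃)).map ((Over.pullback (D.map f₃)).map s₂))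
      ((Over.pullback (c.π.app i₃)).map ((Over.pullback (D.map f₃)).map t₂))
      ((Over.pullback (c.π.app i₃)).map u₃) ((Over.pullback (c.π.app i₃)).map u₃) := by
    rw [e]
    exact isPullback_transport D c f₃ s₂ t₂ u
      (ActBC.bcCompIso (c.π.app i₃) (D.map f₃) Y₂ (c.w f₃)).symm h4
  obtain ⟨i₄, φ, r1, r2, r3⟩ := core D c hc i₃ _ _ u₃ k1 k2 k3
  haveI : LocallyOfFinitePresentation (u₃.left ≫ (Red.bc (D.map f₃) Y₂).hom) := by
    rw [Over.w u₃]; infer_instance
  have hl : LocallyOfFinitePresentation u₃.left :=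
    Groth.Agent.H49.SmoothFibreMap.lfp_of_comp_of_lft u₃.left (Red.bc (D.map f₃) Y₂).hom
      inferInstance inferInstance
  have hrep : Rep (D.map φ) ((Over.pullback (D.map f₃)).map s₂)
      ((Over.pullback (D.map f₃)).map t₂) :=
    ⟨_, (Over.pullback (D.map φ)).map u₃, r1, r2,
      prop_map_left (D.map φ) @LocallyOfFinitePresentation u₃ hl, r3⟩
  have hrep' := hrep.comp
  rw [← D.map_comp] at hrep'
  exact ⟨i₄, φ ≫ f₃, hrep'⟩

variable (j : I) {Xj Rj : Over (D.obj j)}
  [LocallyOfFinitePresentation Xj.hom] [QuasiCompact Xj.hom] [QuasiSeparated Xj.hom]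
  [LocallyOfFinitePresentation Rj.hom] [QuasiCompact Rj.hom] [QuasiSeparated Rj.hom]
  (sj tj : Rj ⟶ Xj) [Mono (lift sj tj)]

include hc in
theorem rep_iff : Rep (c.π.app j) sj tj ↔ ∃ (i : I) (f : i ⟶ j), Rep (D.map f) sj tj := by
  constructor
  · rintro ⟨Y, p, h1, h2, h3, h4⟩
    haveI hAff : ∀ {i j : I} (f : i ⟶ j), IsAffineHom (D.map f) := fun f => inferInstance
    haveI : LocallyOfFinitePresentation (Red.bc (c.π.app j) Xj).hom :=
      inferInstanceAs (LocallyOfFinitePresentation (pullback.snd Xj.hom (c.π.app j)))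
    haveI : QuasiCompact (Red.bc (c.π.app j) Xj).hom :=
      inferInstanceAs (QuasiCompact (pullback.snd Xj.hom (c.π.app j)))
    haveI : QuasiSeparated (Red.bc (c.π.app j) Xj).hom :=
      inferInstanceAs (QuasiSeparated (pullback.snd Xj.hom (c.π.app j)))
    haveI : QuasiCompact (Red.bc (c.π.app j) Rj).hom :=
      inferInstanceAs (QuasiCompact (pullback.snd Rj.hom (c.π.app j)))
    obtain ⟨y1, y2, y3⟩ := fp_of_quotient _ _ p h1 h2 h3 h4
    haveI := y1
    haveI := y2
    haveI := y3
    obtain ⟨i₁, Z₁, hh₁, g₁, fp1, fp2, fp3, sq⟩ :=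
      Groth.Agent.H24.desc_of_finitePresentation hc Y.hom
    obtain ⟨Y₁, hY₁⟩ : ∃ Y₁ : Over (D.obj i₁), Y₁ = Over.mk hh₁ := ⟨_, rfl⟩
    haveI : LocallyOfFinitePresentation Y₁.hom := by rw [hY₁]; exact fp1
    haveI : QuasiCompact Y₁.hom := by rw [hY₁]; exact fp2
    haveI : QuasiSeparated Y₁.hom := by rw [hY₁]; exact fp3
    obtain ⟨θ⟩ : Nonempty (Y ≅ Red.bc (c.π.app i₁) Y₁) := by
      rw [hY₁]
      exact ⟨Over.isoMk sq.isoPullback (by
        show sq.isoPullback.hom ≫ pullback.snd hh₁ (c.π.app i₁) = Y.hom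
        exact sq.isoPullback_hom_snd)⟩
    -- a common index
    obtain ⟨i₂, a, b, -⟩ : ∃ (i₂ : I) (a : i₂ ⟶ i₁) (b : i₂ ⟶ j), True :=
      ⟨IsCofiltered.min i₁ j, IsCofiltered.minToLeft i₁ j, IsCofiltered.minToRight i₁ j, trivial⟩
    haveI : LocallyOfFinitePresentation (Red.bc (D.map b) Xj).hom :=
      inferInstanceAs (LocallyOfFinitePresentation (pullback.snd Xj.hom (D.map b)))
    haveI : QuasiCompact (Red.bc (D.map b) Xj).hom :=
      inferInstanceAs (QuasiCompact (pullback.snd Xj.hom (D.map b)))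
    haveI : QuasiSeparated (Red.bc (D.map b) Xj).hom :=
      inferInstanceAs (QuasiSeparated (pullback.snd Xj.hom (D.map b)))
    haveI : LocallyOfFinitePresentation (Red.bc (D.map b) Rj).hom :=
      inferInstanceAs (LocallyOfFinitePresentation (pullback.snd Rj.hom (D.map b)))
    haveI : QuasiCompact (Red.bc (D.map b) Rj).hom :=
      inferInstanceAs (QuasiCompact (pullback.snd Rj.hom (D.map b)))
    haveI : QuasiSeparated (Red.bc (D.map b) Rj).hom :=
      inferInstanceAs (QuasiSeparated (pullback.snd Rj.hom (D.map b)))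
    haveI : LocallyOfFinitePresentation (Red.bc (D.map a) Y₁).hom :=
      inferInstanceAs (LocallyOfFinitePresentation (pullback.snd Y₁.hom (D.map a)))
    haveI : QuasiCompact (Red.bc (D.map a) Y₁).hom :=
      inferInstanceAs (QuasiCompact (pullback.snd Y₁.hom (D.map a)))
    haveI : QuasiSeparated (Red.bc (D.map a) Y₁).hom :=
      inferInstanceAs (QuasiSeparated (pullback.snd Y₁.hom (D.map a)))
    haveI : Mono (lift ((Over.pullback (D.map b)).map sj) ((Over.pullback (D.map b)).map tj)) :=
      mono_lift_map _ sj tj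
    obtain ⟨e4, he4⟩ : ∃ e4 : Y ≅ Red.bc (c.π.app i₂) (Red.bc (D.map a) Y₁),
        e4 = θ ≪≫ (ActBC.bcCompIso (c.π.app i₂) (D.map a) Y₁ (c.w a)).symm := ⟨_, rfl⟩
    have k1 : Flat ((ActBC.bcCompIso (c.π.app i₂) (D.map b) Xj (c.w b)).hom ≫ p ≫ e4.hom).left :=
      prop_conj @Flat _ e4 p h1
    have k2 : Surjective
        ((ActBC.bcCompIso (c.π.app i₂) (D.map b) Xj (c.w b)).hom ≫ p ≫ e4.hom).left :=
      prop_conj @Surjective _ e4 p h2
    have k3 := isPullback_transport D c b sj tj p e4 h4
    obtain ⟨i, f, hrep⟩ := rep_stage D c hc i₂ _ _ _ k1 k2 k3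
    have hrep' := hrep.comp
    rw [← D.map_comp] at hrep'
    exact ⟨i, f ≫ b, hrep'⟩
  · rintro ⟨i, f, h⟩
    have h' := h.precomp (c.π.app i)
    rwa [c.w f] at h'

end main

end Groth.Agent.H40.LimQuot
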