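import Groth.Agent.H40.ExactDesc
import Groth.Prelude.Def_W4bk4git07Quot

/-!
# Descent along a morphism with fpqc-local sections (helper40)

For `v : E ⟶ P` in `Over S` with `NonAbH1.IsLocallyTrivialFor fpqc (Over.mk v.left)`:
* `desc_of_const`, `desc_of_const'`: a morphism out of `E ⊗ Y` (resp. `E`) which is constant on the fibres of `v` (on points)
  factors through `v ▷ Y` (resp. `v`);
* `cancel_whiskerLeft`: `A ◁ v` is an epimorphism;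
* `sq_desc`: a torsor in cartesian-square form is a categorical quotient; `sq_isCatQuot`.
-/

set_option autoImplicit false
universe u
open CategoryTheory CategoryTheory.Limits AlgebraicGeometry MonoidalCategory CartesianMonoidalCategory
open MonObj

namespace Groth.Agent.H40.FpqcFam

variable {S : Scheme.{u}} {E P : Over S} {v : E ⟶ P}

theorem desc_of_const
    (hloc : NonAbH1.IsLocallyTrivialFor Scheme.fpqcPrecoverage (Over.mk v.left : Over P.left))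
    {Y₀ Z₀ : Over S} (ψ : E ⊗ Y₀ ⟶ Z₀)
    (hconst : ∀ (T : Over S) (x x' : T ⟶ E) (y : T ⟶ Y₀), x ≫ v = x' ≫ v →
      lift x y ≫ ψ = lift x' y ≫ ψ) :
    ∃ φ : P ⊗ Y₀ ⟶ Z₀, (v ▷ Y₀) ≫ φ = ψ := by
  obtain ⟨R', hR', hσ⟩ := exact_cover_sections hloc (fst P Y₀)
  choose σ hσv using hσ
  obtain ⟨φ₀, hφ₀⟩ := exists_glue hR'
    (fun T' π hπ => (lift (σ π hπ) (ovHom (P ⊗ Y₀) π ≫ snd P Y₀) ≫ ψ).left) (by
    intro T₁ T₂ W g₁ g₂ π₁ π₂ h₁ h₂ e
    let W₁ : Over S := Over.mk (g₁ ≫ π₁ ≫ (P ⊗ Y₀).hom)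
    let γ₁ : W₁ ⟶ ov (P ⊗ Y₀) π₁ := Over.homMk g₁ rfl
    let γ₂ : W₁ ⟶ ov (P ⊗ Y₀) π₂ := Over.homMk g₂ (by
      change g₂ ≫ π₂ ≫ (P ⊗ Y₀).hom = g₁ ≫ π₁ ≫ (P ⊗ Y₀).hom
      rw [← Category.assoc, ← e, Category.assoc])
    have e' : γ₁ ≫ ovHom (P ⊗ Y₀) π₁ = γ₂ ≫ ovHom (P ⊗ Y₀) π₂ := Over.OverMorphism.ext e
    have h3 : γ₁ ≫ lift (σ π₁ h₁) (ovHom (P ⊗ Y₀) π₁ ≫ snd P Y₀) ≫ ψ =
        γ₂ ≫ lift (σ π₂ h₂) (ovHom (P ⊗ Y₀) π₂ ≫ snd P Y₀) ≫ ψ := by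
      rw [← Category.assoc, ← Category.assoc, comp_lift, comp_lift, ← Category.assoc,
        ← Category.assoc, ← e']
      apply hconst
      rw [Category.assoc, Category.assoc, hσv, hσv, ← Category.assoc, ← Category.assoc, e']
    exact congrArg (fun m => m.left) h3)
  have hφZ : φ₀ ≫ Z₀.hom = (P ⊗ Y₀).hom := by
    refine hom_ext hR' _ _ fun T' π hπ => ?_
    rw [← Category.assoc, hφ₀ π hπ, Over.w]
    rfl
  let φ : P ⊗ Y₀ ⟶ Z₀ := Over.homMk φ₀ hφZ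
  have hφ : ∀ ⦃T' : Scheme.{u}⦄ (π : T' ⟶ (P ⊗ Y₀).left) (hπ : R' π),
      ovHom (P ⊗ Y₀) π ≫ φ = lift (σ π hπ) (ovHom (P ⊗ Y₀) π ≫ snd P Y₀) ≫ ψ := fun T' π hπ =>
    Over.OverMorphism.ext (hφ₀ π hπ)
  refine ⟨φ, ?_⟩
  apply AlgGrp.Action.hom_ext_lift₂
  intro T x y
  rw [lift_whiskerRight_assoc]
  refine over_hom_ext (Precoverage.pullbackArrows_mem (lift (x ≫ v) y).left hR') _ _ ?_
  rintro T'' π' ⟨Z₀', p, hp⟩
  let β : ov T (pullback.snd p (lift (x ≫ v) y).left) ⟶ ov (P ⊗ Y₀) p :=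
    Over.homMk (pullback.fst p (lift (x ≫ v) y).left) (by
      change pullback.fst p (lift (x ≫ v) y).left ≫ p ≫ (P ⊗ Y₀).hom =
        pullback.snd p (lift (x ≫ v) y).left ≫ T.hom
      rw [← Category.assoc, pullback.condition, Category.assoc, Over.w (lift (x ≫ v) y)])
  have hβ : β ≫ ovHom (P ⊗ Y₀) p =
      ovHom T (pullback.snd p (lift (x ≫ v) y).left) ≫ lift (x ≫ v) y :=
    Over.OverMorphism.ext pullback.condition
  rw [← Category.assoc, ← hβ, Category.assoc, hφ p hp, ← Category.assoc, comp_lift,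
    ← Category.assoc β, hβ, Category.assoc, lift_snd, ← Category.assoc, comp_lift]
  apply hconst
  rw [Category.assoc, hσv, ← Category.assoc, hβ, Category.assoc, lift_fst, Category.assoc]

theorem desc_of_const'
    (hloc : NonAbH1.IsLocallyTrivialFor Scheme.fpqcPrecoverage (Over.mk v.left : Over P.left))
    {Z₀ : Over S} (ψ : E ⟶ Z₀)
    (hconst : ∀ (T : Over S) (x x' : T ⟶ E), x ≫ v = x' ≫ v → x ≫ ψ = x' ≫ ψ) :
    ∃ φ : P ⟶ Z₀, v ≫ φ = ψ := by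
  obtain ⟨φ', hφ'⟩ := desc_of_const hloc (Y₀ := 𝟙_ (Over S)) (fst E (𝟙_ (Over S)) ≫ ψ) (by
    intro T x x' y h
    rw [lift_fst_assoc, lift_fst_assoc]
    exact hconst T x x' h)
  refine ⟨lift (𝟙 P) (toUnit P) ≫ φ', ?_⟩
  have e : v ≫ lift (𝟙 P) (toUnit P) = lift (𝟙 E) (toUnit E) ≫ (v ▷ 𝟙_ (Over S)) := by
    rw [lift_whiskerRight, comp_lift, Category.comp_id, Category.id_comp,
      toUnit_unique (v ≫ toUnit P) (toUnit E)]
  rw [← Category.assoc, e, Category.assoc, hφ', lift_fst_assoc, Category.id_comp]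

theorem cancel_whiskerLeft
    (hloc : NonAbH1.IsLocallyTrivialFor Scheme.fpqcPrecoverage (Over.mk v.left : Over P.left))
    {A Z₀ : Over S} (φ φ' : A ⊗ P ⟶ Z₀) (h : (A ◁ v) ≫ φ = (A ◁ v) ≫ φ') : φ = φ' := by
  obtain ⟨R', hR', hσ⟩ := exact_cover_sections hloc (snd A P)
  refine over_hom_ext hR' φ φ' fun T' π hπ => ?_
  obtain ⟨σ, hσv⟩ := hσ π hπ
  have e : ovHom (A ⊗ P) π = lift (ovHom (A ⊗ P) π ≫ fst A P) σ ≫ (A ◁ v) := by
    rw [lift_whiskerLeft, hσv]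
    apply CartesianMonoidalCategory.hom_ext
    · rw [lift_fst]
    · rw [lift_snd]
  rw [e, Category.assoc, Category.assoc, h]

section Sq

variable {G X Y : Over S} [GrpObj G] {a : AlgGrp.Action G X} {ψ : X ⟶ Y}

/-- invariant morphisms descend along a torsor given in cartesian-square form. -/
theorem sq_desc (hsq : IsPullback a.act (snd G X) ψ ψ)
    (hloc : NonAbH1.IsLocallyTrivialFor Scheme.fpqcPrecoverage (Over.mk ψ.left : Over Y.left))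
    {Z₀ : Over S} (θ : X ⟶ Z₀) (hθ : a.act ≫ θ = snd G X ≫ θ) : ∃ θ' : Y ⟶ Z₀, ψ ≫ θ' = θ := by
  refine desc_of_const' hloc θ fun T x x' h => ?_
  obtain ⟨g, hg⟩ := sq_exists hsq x x' h
  rw [← hg, Category.assoc, hθ, lift_snd_assoc]

theorem sq_isCatQuot (hsq : IsPullback a.act (snd G X) ψ ψ)
    (hloc : NonAbH1.IsLocallyTrivialFor Scheme.fpqcPrecoverage (Over.mk ψ.left : Over Y.left)) :
    GIT.IsCatQuot a ψ := by
  refine ⟨hsq.w, fun Z₀ θ hθ => ?_⟩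
  obtain ⟨θ', hθ'⟩ := sq_desc hsq hloc θ hθ
  exact ⟨θ', hθ', fun χ hχ => exact_cancel' hloc _ _ (hχ.trans hθ'.symm)⟩

end Sq

end Groth.Agent.H40.FpqcFam
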