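import Groth.Agent.H40.PtLocus

/-!
# Homogeneity of loci of a homomorphism of group schemes with flat, finitely presented source
(helper40)

If `G` is flat and locally of finite presentation over `S` and `u : G ⟶ H` has a property `P`
(descending pointwise along fppf base change) on an open `W`, then it has `P` near every point of
`G` lying over the image of `W` in `S`.
-/

set_option autoImplicit false
universe u
open CategoryTheory CategoryTheory.Limits AlgebraicGeometry MorphismProperty MonoidalCategory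
  CartesianMonoidalCategory MonObj

namespace Groth.Agent.H40.LocusTop

open Groth.Agent.H40.SubgrpLocus

section Sch

/-- source descent of "locally of finite presentation" along a flat, locally finitely
presented morphism, onto its (open) range -/
theorem exists_open_lfp {Z X Y : Scheme.{u}} (M : Z ⟶ X) (q : X ⟶ Y) [Flat M]
    [LocallyOfFinitePresentation M] (h' : LocallyOfFinitePresentation (M ≫ q)) :
    ∃ R : X.Opens, (∀ z, M.base z ∈ R) ∧ LocallyOfFinitePresentation (R.ι ≫ q) := by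
  let R : X.Opens := ⟨Set.range M.base, M.isOpenMap.isOpen_range⟩
  have hr : Set.range M.base ⊆ Set.range R.ι.base := by
    rw [Scheme.Opens.range_ι]
    exact subset_rfl
  have hfac : IsOpenImmersion.lift R.ι M hr ≫ R.ι = M := IsOpenImmersion.lift_fac _ _ _
  have hsurj : Surjective (IsOpenImmersion.lift R.ι M hr) := by
    refine ⟨fun a => ?_⟩
    obtain ⟨z₀, hz₀⟩ := a.2
    refine ⟨z₀, ?_⟩
    apply R.ι.injective
    have := congrArg (fun m => m.base z₀) hfac
    simp only [Scheme.Hom.comp_base, TopCat.hom_comp, ContinuousMap.comp_apply] at this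
    rw [this]
    exact hz₀
  have hfl : Flat (IsOpenImmersion.lift R.ι M hr) := by
    have : Flat (IsOpenImmersion.lift R.ι M hr ≫ R.ι) := by rw [hfac]; infer_instance
    exact MorphismProperty.of_postcomp (W := @Flat) (W' := @IsOpenImmersion) _ R.ι
      inferInstance this
  have hlfp : LocallyOfFinitePresentation (IsOpenImmersion.lift R.ι M hr) := by
    have : LocallyOfFinitePresentation (IsOpenImmersion.lift R.ι M hr ≫ R.ι) := by
      rw [hfac]; infer_instance
    exact MorphismProperty.of_postcomp (W := @LocallyOfFinitePresentation)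
      (W' := @IsOpenImmersion) _ R.ι inferInstance this
  have h5 : LocallyOfFinitePresentation (IsOpenImmersion.lift R.ι M hr ≫ R.ι ≫ q) := by
    rw [← Category.assoc, hfac]
    exact h'
  refine ⟨R, fun z => ⟨z, rfl⟩, ?_⟩
  exact Groth.Agent.H48.FppfSource.locallyOfFinitePresentation_of_comp_fppf
    (IsOpenImmersion.lift R.ι M hr) (R.ι ≫ q)

variable {X Y X' Y' : Scheme.{u}} {a : X' ⟶ X} {u' : X' ⟶ Y'} {u₀ : X ⟶ Y} {b : Y' ⟶ Y}

/-- pointwise descent of "lfp" along an fppf base change -/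
theorem pd_lfp (H : IsPullback a u' u₀ b) [Flat b] [LocallyOfFinitePresentation b] (x' : X')
    (U' : X'.Opens) (hx : x' ∈ U') (h2 : LocallyOfFinitePresentation (U'.ι ≫ u')) :
    ∃ U : X.Opens, a.base x' ∈ U ∧ LocallyOfFinitePresentation (U.ι ≫ u₀) := by
  have ha1 : Flat a := MorphismProperty.of_isPullback (P := @Flat) H.flip inferInstance
  have ha2 : LocallyOfFinitePresentation a :=
    MorphismProperty.of_isPullback (P := @LocallyOfFinitePresentation) H.flip inferInstance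
  have e : (U'.ι ≫ a) ≫ u₀ = (U'.ι ≫ u') ≫ b := by
    rw [Category.assoc, H.w, Category.assoc]
  have h4 : LocallyOfFinitePresentation ((U'.ι ≫ a) ≫ u₀) := by rw [e]; infer_instance
  obtain ⟨R, hR, hRp⟩ := exists_open_lfp (U'.ι ≫ a) u₀ h4
  exact ⟨R, hR ⟨x', hx⟩, hRp⟩

/-- a property local at the source holds as soon as it holds near every point -/
theorem of_forall_nhd (P : MorphismProperty Scheme.{u}) [IsZariskiLocalAtSource P]
    {X Y : Scheme.{u}} (f : X ⟶ Y) (h : ∀ x : X, ∃ U : X.Opens, x ∈ U ∧ P (U.ι ≫ f)) : P f := by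
  choose W hxW hW using h
  refine IsZariskiLocalAtSource.of_iSup_eq_top (P := P) W ?_ hW
  rw [eq_top_iff]
  intro x _
  exact TopologicalSpace.Opens.mem_iSup.mpr ⟨x, hxW x⟩

end Sch

section Grp

variable {S : Scheme.{u}} {G H : Over S} [GrpObj G] [GrpObj H] (u : G ⟶ H) [IsMonHom u]

/-- **Translation step, neighbourhood form.** -/
theorem translate_nhd (P : MorphismProperty Scheme.{u}) [P.RespectsIso]
    [P.IsStableUnderBaseChange] (T : Over S)
    (hD : ∀ (x' : (T ⊗ G).left) (U' : (T ⊗ G).left.Opens), x' ∈ U' →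
      P (U'.ι ≫ (T ◁ u).left) →
      ∃ U : G.left.Opens, (snd T G).left.base x' ∈ U ∧ P (U.ι ≫ u.left))
    (g : T ⟶ G) (z : (T ⊗ G).left) (V : G.left.Opens) (hV : P (V.ι ≫ u.left))
    (hz : (snd T G).left.base z ∈ V) :
    ∃ U : G.left.Opens, ((fst T G ≫ g) * snd T G).left.base z ∈ U ∧ P (U.ι ≫ u.left) := by
  have pt : ∀ {A B C : Over S} (a : A ⟶ B) (b : B ⟶ C) (c : A ⟶ C) (_ : a ≫ b = c) (z : A.left),
      b.left.base (a.left.base z) = c.left.base z := by
    intro A B C a b c h z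
    subst h
    rfl
  have H0 : IsPullback (snd T G).left (T ◁ u).left u.left (snd T H).left :=
    (Groth.Agent.H40.MaxOpen.sq_snd' (G := T) u).map (Over.forget S)
  obtain ⟨a, hadef⟩ : ∃ a, a = (snd T G).left := ⟨_, rfl⟩
  obtain ⟨u', hu'def⟩ : ∃ u', u' = (T ◁ u).left := ⟨_, rfl⟩
  obtain ⟨τ, hτdef⟩ : ∃ τ : T ⊗ G ≅ T ⊗ G, τ = trans g := ⟨_, rfl⟩
  obtain ⟨σ, hσdef⟩ : ∃ σ : T ⊗ H ≅ T ⊗ H, σ = trans (g ≫ u) := ⟨_, rfl⟩
  have hτσ : τ.hom.left ≫ u' = u' ≫ σ.hom.left := by
    rw [hu'def, hτdef, hσdef, ← Over.comp_left, ← Over.comp_left, trans_whisker]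
  have hτsnd : τ.hom ≫ snd T G = (fst T G ≫ g) * snd T G := by rw [hτdef]; exact trans_hom_snd g
  have hinvhom : τ.inv.left ≫ τ.hom.left = 𝟙 _ := by
    rw [← Over.comp_left, τ.inv_hom_id]; rfl
  have hτiso : IsIso τ.inv.left := inferInstanceAs (IsIso ((Over.forget S).map τ.inv))
  have hσiso : IsIso σ.hom.left := inferInstanceAs (IsIso ((Over.forget S).map σ.hom))
  rw [← hadef, ← hu'def] at H0
  rw [← hadef] at hz
  have H' : IsPullback (a ∣_ V) ((a ⁻¹ᵁ V).ι ≫ u') (V.ι ≫ u.left) (snd T H).left :=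
    (isPullback_morphismRestrict a V).paste_vert H0
  have hP1 : P ((a ⁻¹ᵁ V).ι ≫ u') := MorphismProperty.of_isPullback (P := P) H' hV
  have hP2 : P ((τ.inv.left ⁻¹ᵁ (a ⁻¹ᵁ V)).ι ≫ u') := by
    have e : (τ.inv.left ⁻¹ᵁ (a ⁻¹ᵁ V)).ι ≫ u' =
        (τ.inv.left ∣_ (a ⁻¹ᵁ V)) ≫ ((a ⁻¹ᵁ V).ι ≫ u') ≫ σ.hom.left := by
      calc (τ.inv.left ⁻¹ᵁ (a ⁻¹ᵁ V)).ι ≫ u'
          = (τ.inv.left ⁻¹ᵁ (a ⁻¹ᵁ V)).ι ≫ (τ.inv.left ≫ τ.hom.left) ≫ u' := by
            rw [hinvhom, Category.id_comp]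
        _ = ((τ.inv.left ⁻¹ᵁ (a ⁻¹ᵁ V)).ι ≫ τ.inv.left) ≫ τ.hom.left ≫ u' := by
            simp only [Category.assoc]
        _ = ((τ.inv.left ∣_ (a ⁻¹ᵁ V)) ≫ (a ⁻¹ᵁ V).ι) ≫ u' ≫ σ.hom.left := by
            rw [morphismRestrict_ι, hτσ]
        _ = _ := by simp only [Category.assoc]
    rw [e, P.cancel_left_of_respectsIso, P.cancel_right_of_respectsIso]
    exact hP1
  have hmem : τ.hom.left.base z ∈ τ.inv.left ⁻¹ᵁ (a ⁻¹ᵁ V) := by
    show a.base (τ.inv.left.base (τ.hom.left.base z)) ∈ V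
    have : τ.inv.left.base (τ.hom.left.base z) = z := by
      rw [pt τ.hom τ.inv (𝟙 _) τ.hom_inv_id]
      rfl
    rw [this]
    exact hz
  obtain ⟨U, hU1, hU2⟩ := hD (τ.hom.left.base z) _ hmem (hu'def ▸ hP2)
  rw [pt _ _ _ hτsnd] at hU1
  exact ⟨U, hU1, hU2⟩

/-- **Homogeneity**: `G` flat and lfp over `S`; if `u` has `P` on an open `W`, then `u` has `P`
near every point of `G` with the same image in `S` as some point of `W`. -/
theorem nhd_of_mem_fibre [Flat G.hom] [LocallyOfFinitePresentation G.hom]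
    (P : MorphismProperty Scheme.{u}) [P.RespectsIso] [P.IsStableUnderBaseChange]
    (hPD : ∀ {X Y X' Y' : Scheme.{u}} {a : X' ⟶ X} {u' : X' ⟶ Y'} {u₀ : X ⟶ Y} {b : Y' ⟶ Y}
      (_ : IsPullback a u' u₀ b) [Flat b] [LocallyOfFinitePresentation b] (x' : X')
      (U' : X'.Opens), x' ∈ U' → P (U'.ι ≫ u') → ∃ U : X.Opens, a.base x' ∈ U ∧ P (U.ι ≫ u₀))
    (W : G.left.Opens) (hW : P (W.ι ≫ u.left)) (x v : G.left) (hv : v ∈ W)
    (hxv : G.hom.base x = G.hom.base v) :
    ∃ U : G.left.Opens, x ∈ U ∧ P (U.ι ≫ u.left) := by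
  have pt : ∀ {A B C : Over S} (a : A ⟶ B) (b : B ⟶ C) (c : A ⟶ C) (_ : a ≫ b = c) (z : A.left),
      b.left.base (a.left.base z) = c.left.base z := by
    intro A B C a b c h z
    subst h
    rfl
  have H0 : IsPullback (snd G G).left (G ◁ u).left u.left (snd G H).left :=
    (Groth.Agent.H40.MaxOpen.sq_snd' (G := G) u).map (Over.forget S)
  have hb1 : Flat (snd G H).left := by
    rw [Over.snd_left]
    infer_instance
  have hb2 : LocallyOfFinitePresentation (snd G H).left := by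
    rw [Over.snd_left]
    infer_instance
  obtain ⟨z₁, hz1, hz2⟩ :=
    Scheme.Pullback.exists_preimage_pullback (f := G.hom) (g := G.hom) x v hxv
  have e1 : lift ((fst G G) * (snd G G)⁻¹) (snd G G) ≫ snd G G = snd G G := lift_snd _ _
  have e2 : lift ((fst G G) * (snd G G)⁻¹) (snd G G) ≫ ((fst G G ≫ 𝟙 G) * snd G G) =
      fst G G := by
    rw [MonObj.comp_mul, ← Category.assoc, lift_fst, lift_snd, Category.comp_id]
    group
  obtain ⟨U, hU1, hU2⟩ := translate_nhd u P G (fun x' U' hx' hU' => hPD H0 x' U' hx' hU')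
    (𝟙 G) ((lift ((fst G G) * (snd G G)⁻¹) (snd G G)).left.base z₁) W hW (by
      rw [pt _ _ _ e1]
      show (pullback.snd G.hom G.hom).base z₁ ∈ W
      rw [hz2]
      exact hv)
  rw [pt _ _ _ e2] at hU1
  have hx : (fst G G).left.base z₁ = x := hz1
  rw [hx] at hU1
  exact ⟨U, hU1, hU2⟩

end Grp

end Groth.Agent.H40.LocusTop
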