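import Mathlib

/-!
# Largest open over which a morphism has an fpqc-local property: flat open base change (helper40)

`P` is stable under base change, Zariski-local on the target and descends along flat surjective quasi-compact
morphisms.  `P (pullback.snd f c)` is "the base change of `f` along `c` has `P`".
-/

set_option autoImplicit false
universe u
open CategoryTheory CategoryTheory.Limits AlgebraicGeometry MorphismProperty

namespace Groth.Agent.H40.MaxOpen

variable {P : MorphismProperty Scheme.{u}}

section
variable [P.RespectsIso]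

/-- any cartesian square computes "the base change of `f` along `c` has `P`". -/
theorem bc_iff {A X Y B : Scheme.{u}} {a : A ⟶ X} {b : A ⟶ B} {f : X ⟶ Y} {c : B ⟶ Y}
    (sq : IsPullback a b f c) : P b ↔ P (pullback.snd f c) := by
  rw [← sq.isoPullback_hom_snd, P.cancel_left_of_respectsIso]

theorem restrict_iff {X Y : Scheme.{u}} (f : X ⟶ Y) (U : Y.Opens) :
    P (f ∣_ U) ↔ P (pullback.snd f U.ι) :=
  bc_iff (isPullback_morphismRestrict f U).flip

/-- base change in stages. -/
theorem bc_comp_iff {A X Y B D : Scheme.{u}} {a : A ⟶ X} {b : A ⟶ B} {f : X ⟶ Y} {c : B ⟶ Y}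
    (sq : IsPullback a b f c) (d : D ⟶ B) :
    P (pullback.snd b d) ↔ P (pullback.snd f (d ≫ c)) :=
  bc_iff ((IsPullback.of_hasPullback b d).paste_horiz sq)

end

section
variable [P.IsStableUnderBaseChange]

theorem bc_comp {X Y B D : Scheme.{u}} {f : X ⟶ Y} {c : B ⟶ Y} (h : P (pullback.snd f c))
    (d : D ⟶ B) : P (pullback.snd f (d ≫ c)) :=
  (bc_comp_iff (IsPullback.of_hasPullback f c) d).mp (P.pullback_snd _ _ h)

variable [P.DescendsAlong (@Flat ⊓ @Surjective ⊓ @QuasiCompact)]

/-- descent along a flat surjective quasi-compact morphism, in stages. -/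
theorem bc_desc {X Y B D : Scheme.{u}} {f : X ⟶ Y} {c : B ⟶ Y} (d : D ⟶ B) [Flat d] [Surjective d]
    [QuasiCompact d] (h : P (pullback.snd f (d ≫ c))) : P (pullback.snd f c) := by
  have h1 : P (pullback.snd (pullback.snd f c) d) :=
    (bc_comp_iff (IsPullback.of_hasPullback f c) d).mpr h
  exact MorphismProperty.of_isPullback_of_descendsAlong
    (Q := (@Flat ⊓ @Surjective ⊓ @QuasiCompact : MorphismProperty Scheme.{u}))
    (IsPullback.of_hasPullback (pullback.snd f c) d).flip ⟨⟨‹_›, ‹_›⟩, ‹_›⟩ h1

/-- if the base change of `f` along a flat morphism `c` with open underlying map has `P`, so does the base change of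
`f` along any open immersion from a compact, quasi-separated scheme whose range is contained in the range of `c`. -/
theorem bc_of_range_subset {X Y B A₀ : Scheme.{u}} {f : X ⟶ Y} (c : B ⟶ Y) [Flat c]
    (hc : IsOpenMap c.base) (h : P (pullback.snd f c)) (e : A₀ ⟶ Y) [IsOpenImmersion e]
    [CompactSpace A₀] [QuasiSeparatedSpace A₀] (he : Set.range e.base ⊆ Set.range c.base) :
    P (pullback.snd f e) := by
  obtain ⟨V, hVc, hVU⟩ : ∃ V : B.Opens, IsCompact (V : Set B) ∧
      c.base '' (V : Set B) = Set.range e.base :=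
    hc.exists_opens_image_eq_of_prespectralSpace c.continuous he
      e.isOpenEmbedding.isOpen_range (isCompact_range e.continuous)
  have hr : Set.range (V.ι ≫ c).base ⊆ Set.range e.base := by
    rintro _ ⟨v, rfl⟩
    rw [← hVU]
    exact ⟨v.1, v.2, rfl⟩
  have hfac : IsOpenImmersion.lift e (V.ι ≫ c) hr ≫ e = V.ι ≫ c := IsOpenImmersion.lift_fac _ _ _
  have : Flat (IsOpenImmersion.lift e (V.ι ≫ c) hr) := by
    have : Flat (IsOpenImmersion.lift e (V.ι ≫ c) hr ≫ e) := by rw [hfac]; infer_instance
    exact MorphismProperty.of_postcomp (W := @Flat) _ e (inferInstance : IsOpenImmersion e) this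
  have : Surjective (IsOpenImmersion.lift e (V.ι ≫ c) hr) := by
    refine ⟨fun a => ?_⟩
    have ha : e.base a ∈ c.base '' (V : Set B) := by rw [hVU]; exact ⟨a, rfl⟩
    obtain ⟨v, hv, hva⟩ := ha
    refine ⟨⟨v, hv⟩, ?_⟩
    apply e.injective
    have := congrArg (fun m => m.base ⟨v, hv⟩) hfac
    simp only [Scheme.Hom.comp_base, TopCat.hom_comp, ContinuousMap.comp_apply] at this
    rw [this]
    exact hva
  have hVcs : CompactSpace (V : Scheme.{u}) := isCompact_iff_compactSpace.mp hVc
  have : QuasiCompact (IsOpenImmersion.lift e (V.ι ≫ c) hr) :=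
    (quasiCompact_iff_compactSpace _).mpr hVcs
  refine bc_desc (IsOpenImmersion.lift e (V.ι ≫ c) hr) ?_
  rw [hfac]
  exact bc_comp h V.ι

variable [IsZariskiLocalAtTarget P]

/-- **Key lemma**: if the base change of `f` along a flat morphism `c` with open underlying map has `P`, then `f` has
`P` over every open contained in the image of `c`. -/
theorem restrict_of_flat_open {X Y B : Scheme.{u}} {f : X ⟶ Y} (c : B ⟶ Y) [Flat c]
    (hc : IsOpenMap c.base) (h : P (pullback.snd f c)) (W' : Y.Opens)
    (hW' : (W' : Set Y) ⊆ Set.range c.base) : P (f ∣_ W') := by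
  rw [IsZariskiLocalAtTarget.iff_of_openCover (P := P) W'.toScheme.affineCover]
  intro i
  change P (pullback.snd (f ∣_ W') (W'.toScheme.affineCover.f i))
  rw [bc_comp_iff (P := P) (isPullback_morphismRestrict f W').flip]
  refine bc_of_range_subset c hc h _ ?_
  rintro _ ⟨a, rfl⟩
  apply hW'
  simp only [Scheme.Hom.comp_base, TopCat.hom_comp, ContinuousMap.comp_apply]
  exact ((W'.toScheme.affineCover.f i).base a).2

end

end Groth.Agent.H40.MaxOpen
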