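import Groth.Agent.H40.MaxOpen
import Groth.Agent.H40.TorsorSq
import Groth.Prelude.Def_ChGrp

/-!
# Largest open over which a morphism has a property descending along flat surjective universally open maps;
equivariant morphisms (helper40)
-/

set_option autoImplicit false
universe u
open CategoryTheory CategoryTheory.Limits AlgebraicGeometry MorphismProperty MonoidalCategory
  CartesianMonoidalCategory MonObj

namespace Groth.Agent.H40.MaxOpen

variable {P : MorphismProperty Scheme.{u}} [P.IsStableUnderBaseChange] [IsZariskiLocalAtTarget P]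

/-- a Zariski-local property has a largest open over which a given morphism has it. -/
theorem exists_largest_open {X Y : Scheme.{u}} (f : X ⟶ Y) :
    ∃ W : Y.Opens, P (f ∣_ W) ∧ ∀ W₀ : Y.Opens, P (f ∣_ W₀) → W₀ ≤ W := by
  let S : Set Y.Opens := {W₀ | P (f ∣_ W₀)}
  have hmax : ∀ W₀ : Y.Opens, P (f ∣_ W₀) → W₀ ≤ sSup S := fun W₀ h => le_sSup h
  have hW : P (f ∣_ sSup S) := by
    have hcov : ⨆ s : S, (sSup S).ι ⁻¹ᵁ s.1 = ⊤ := by
      rw [eq_top_iff]
      intro x _
      have hx : x.1 ∈ sSup S := x.2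
      rw [TopologicalSpace.Opens.mem_sSup] at hx
      obtain ⟨s, hs, hxs⟩ := hx
      rw [TopologicalSpace.Opens.mem_iSup]
      exact ⟨⟨s, hs⟩, hxs⟩
    rw [IsZariskiLocalAtTarget.iff_of_iSup_eq_top (P := P) (fun s : S => (sSup S).ι ⁻¹ᵁ s.1) hcov]
    intro s
    rw [P.arrow_mk_iso_iff (morphismRestrictRestrict f (sSup S) _)]
    have : (sSup S).ι ''ᵁ ((sSup S).ι ⁻¹ᵁ s.1) = s.1 := by
      rw [Scheme.Hom.image_preimage_eq_opensRange_inf, Scheme.Opens.opensRange_ι]
      exact inf_eq_right.mpr (le_sSup s.2)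
    rw [this]
    exact s.2
  exact ⟨sSup S, hW, hmax⟩

variable [P.DescendsAlong (@Flat ⊓ @Surjective ⊓ @UniversallyOpen)]

theorem bc_desc' {X Y B D : Scheme.{u}} {f : X ⟶ Y} {c : B ⟶ Y} (d : D ⟶ B) [Flat d] [Surjective d]
    [UniversallyOpen d] (h : P (pullback.snd f (d ≫ c))) : P (pullback.snd f c) := by
  have h1 : P (pullback.snd (pullback.snd f c) d) :=
    (bc_comp_iff (IsPullback.of_hasPullback f c) d).mpr h
  exact MorphismProperty.of_isPullback_of_descendsAlong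
    (Q := (@Flat ⊓ @Surjective ⊓ @UniversallyOpen : MorphismProperty Scheme.{u}))
    (IsPullback.of_hasPullback (pullback.snd f c) d).flip ⟨⟨‹_›, ‹_›⟩, ‹_›⟩ h1

/-- if the base change of `f` along a flat universally open `c` has `P`, then `f` has `P` over the (open) range of
`c`. -/
theorem restrict_of_flat_univOpen {X Y B : Scheme.{u}} {f : X ⟶ Y} (c : B ⟶ Y) [Flat c]
    [UniversallyOpen c] (h : P (pullback.snd f c)) (W' : Y.Opens)
    (hW' : (W' : Set Y) = Set.range c.base) : P (f ∣_ W') := by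
  have hr : Set.range c.base ⊆ Set.range W'.ι.base := by
    rw [Scheme.Opens.range_ι, hW']
  have hfac : IsOpenImmersion.lift W'.ι c hr ≫ W'.ι = c := IsOpenImmersion.lift_fac _ _ _
  have : Flat (IsOpenImmersion.lift W'.ι c hr) := by
    have : Flat (IsOpenImmersion.lift W'.ι c hr ≫ W'.ι) := by rw [hfac]; infer_instance
    exact MorphismProperty.of_postcomp (W := @Flat) _ W'.ι
      (inferInstance : IsOpenImmersion W'.ι) this
  have : UniversallyOpen (IsOpenImmersion.lift W'.ι c hr) := by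
    have : UniversallyOpen (IsOpenImmersion.lift W'.ι c hr ≫ W'.ι) := by rw [hfac]; infer_instance
    exact MorphismProperty.of_postcomp (W := @UniversallyOpen) _ W'.ι
      (inferInstance : IsOpenImmersion W'.ι) this
  have : Surjective (IsOpenImmersion.lift W'.ι c hr) := by
    refine ⟨fun a => ?_⟩
    have ha : W'.ι.base a ∈ Set.range c.base := by
      rw [← hW', ← Scheme.Opens.range_ι]
      exact ⟨a, rfl⟩
    obtain ⟨v, hv⟩ := ha
    refine ⟨v, ?_⟩
    apply W'.ι.injective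
    have := congrArg (fun m => m.base v) hfac
    simp only [Scheme.Hom.comp_base, TopCat.hom_comp, ContinuousMap.comp_apply] at this
    rw [this]
    exact hv
  rw [restrict_iff (P := P)]
  refine bc_desc' (IsOpenImmersion.lift W'.ι c hr) ?_
  rw [hfac]
  exact h

/-- if `b` is the base change of `f` along `c₁` and also along `c₂` (flat, universally open), and `W` is the largest
open over which `f` has `P`, then `c₁ ζ ∈ W → c₂ ζ ∈ W`. -/
theorem mem_of_mem' {X Y B A : Scheme.{u}} {f : X ⟶ Y} {b : A ⟶ B} {a₁ a₂ : A ⟶ X} {c₁ c₂ : B ⟶ Y}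
    (sq₁ : IsPullback a₁ b f c₁) (sq₂ : IsPullback a₂ b f c₂) [Flat c₂] [UniversallyOpen c₂]
    (W : Y.Opens) (hW : P (f ∣_ W)) (hmax : ∀ W' : Y.Opens, P (f ∣_ W') → W' ≤ W) (ζ : B)
    (hζ : c₁.base ζ ∈ W) : c₂.base ζ ∈ W := by
  have h0 : P (pullback.snd f W.ι) := (restrict_iff f W).mp hW
  have hA : P (pullback.snd f ((c₁ ⁻¹ᵁ W).ι ≫ c₁)) := by
    rw [← morphismRestrict_ι]
    exact bc_comp h0 (c₁ ∣_ W)
  have hB : P (pullback.snd b (c₁ ⁻¹ᵁ W).ι) := (bc_comp_iff sq₁ _).mpr hA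
  have hC : P (pullback.snd f ((c₁ ⁻¹ᵁ W).ι ≫ c₂)) := (bc_comp_iff sq₂ _).mp hB
  have hD : P (f ∣_ (⟨Set.range ((c₁ ⁻¹ᵁ W).ι ≫ c₂).base,
      ((c₁ ⁻¹ᵁ W).ι ≫ c₂).isOpenMap.isOpen_range⟩ : Y.Opens)) :=
    restrict_of_flat_univOpen ((c₁ ⁻¹ᵁ W).ι ≫ c₂) hC _ rfl
  exact hmax _ hD ⟨⟨ζ, hζ⟩, rfl⟩

variable {S : Scheme.{u}} {G X Y : Over S}

omit [P.IsStableUnderBaseChange] [IsZariskiLocalAtTarget P]
  [P.DescendsAlong (@Flat ⊓ @Surjective ⊓ @UniversallyOpen)] in
theorem sq_snd' (f : X ⟶ Y) : IsPullback (snd G X) (G ◁ f) f (snd G Y) := by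
  refine Groth.Agent.H40.FpqcFam.isPullback_of_pts (whiskerLeft_snd _ _).symm ?_
  intro T x y hxy
  refine ⟨lift (y ≫ fst G Y) x, ⟨lift_snd _ _, ?_⟩, ?_⟩
  · rw [lift_whiskerLeft, hxy]
    apply CartesianMonoidalCategory.hom_ext
    · rw [lift_fst]
    · rw [lift_snd]
  · rintro q ⟨hq1, hq2⟩
    apply CartesianMonoidalCategory.hom_ext
    · rw [lift_fst, ← hq2, Category.assoc, whiskerLeft_fst]
    · rw [lift_snd, hq1]

variable [GrpObj G]

omit [P.IsStableUnderBaseChange] [IsZariskiLocalAtTarget P]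
  [P.DescendsAlong (@Flat ⊓ @Surjective ⊓ @UniversallyOpen)] in
/-- the action map is the second projection of another product structure on `G ⊗ Y`. -/
theorem sq_act_prod (aY : AlgGrp.Action G Y) :
    IsPullback (fst G Y) aY.act (toUnit G) (toUnit Y) := by
  refine Groth.Agent.H40.FpqcFam.isPullback_of_pts (toUnit_unique _ _) ?_
  intro T g y _
  refine ⟨lift g (lift g⁻¹ y ≫ aY.act), ⟨lift_fst _ _, ?_⟩, ?_⟩
  · rw [← AlgGrp.Action.lift_mul_act, mul_inv_cancel, AlgGrp.Action.lift_one_act]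
  · rintro q ⟨hq1, hq2⟩
    have hq : q = lift (q ≫ fst G Y) (q ≫ snd G Y) := by
      apply CartesianMonoidalCategory.hom_ext
      · rw [lift_fst]
      · rw [lift_snd]
    apply CartesianMonoidalCategory.hom_ext
    · rw [lift_fst, hq1]
    · have hy : lift g (q ≫ snd G Y) ≫ aY.act = y := by rw [← hq1, ← hq, hq2]
      rw [lift_snd, ← hy, ← AlgGrp.Action.lift_mul_act, inv_mul_cancel,
        AlgGrp.Action.lift_one_act]

omit [P.IsStableUnderBaseChange] [IsZariskiLocalAtTarget P]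
  [P.DescendsAlong (@Flat ⊓ @Surjective ⊓ @UniversallyOpen)] in
/-- an equivariant morphism is the base change of itself along the action map. -/
theorem sq_act (aX : AlgGrp.Action G X) (aY : AlgGrp.Action G Y) (f : X ⟶ Y)
    (hf : (G ◁ f) ≫ aY.act = aX.act ≫ f) : IsPullback aX.act (G ◁ f) f aY.act := by
  have hfp : ∀ {T : Over S} (g : T ⟶ G) (x : T ⟶ X),
      (lift g x ≫ aX.act) ≫ f = lift g (x ≫ f) ≫ aY.act := by
    intro T g x
    rw [Category.assoc, ← hf, lift_whiskerLeft_assoc]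
  refine Groth.Agent.H40.FpqcFam.isPullback_of_pts hf.symm ?_
  intro T x y hxy
  have hy : y = lift (y ≫ fst G Y) (y ≫ snd G Y) := by
    apply CartesianMonoidalCategory.hom_ext
    · rw [lift_fst]
    · rw [lift_snd]
  have hxy' : x ≫ f = lift (y ≫ fst G Y) (y ≫ snd G Y) ≫ aY.act := by
    rw [← hy]
    exact hxy
  refine ⟨lift (y ≫ fst G Y) (lift (y ≫ fst G Y)⁻¹ x ≫ aX.act), ⟨?_, ?_⟩, ?_⟩
  · rw [← AlgGrp.Action.lift_mul_act, mul_inv_cancel, AlgGrp.Action.lift_one_act]
  · rw [lift_whiskerLeft, hfp, hxy', ← AlgGrp.Action.lift_mul_act, inv_mul_cancel,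
      AlgGrp.Action.lift_one_act, ← hy]
  · rintro q ⟨hq1, hq2⟩
    have hq : q = lift (q ≫ fst G X) (q ≫ snd G X) := by
      apply CartesianMonoidalCategory.hom_ext
      · rw [lift_fst]
      · rw [lift_snd]
    have hqf : q ≫ fst G X = y ≫ fst G Y := by
      rw [← hq2, Category.assoc, whiskerLeft_fst]
    apply CartesianMonoidalCategory.hom_ext
    · rw [lift_fst, hqf]
    · have hx : lift (y ≫ fst G Y) (q ≫ snd G X) ≫ aX.act = x := by rw [← hqf, ← hq, hq1]
      rw [lift_snd, ← hx, ← AlgGrp.Action.lift_mul_act, inv_mul_cancel,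
        AlgGrp.Action.lift_one_act]

end Groth.Agent.H40.MaxOpen
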