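import Mathlib
import Groth.Prelude.Def_Neron

/-!
# The generic point of a finite étale extension of Dedekind domains is the base change of the generic point (helper40)
-/

set_option autoImplicit false
universe u
open CategoryTheory CategoryTheory.Limits AlgebraicGeometry
open scoped nonZeroDivisors

namespace Groth.Agent.H40.NeronFinEt

theorem algebraMap_injective_of_flat (R R' : Type u) [CommRing R] [IsDomain R] [CommRing R']
    [Nontrivial R'] [Algebra R R'] [Module.Flat R R'] : Function.Injective (algebraMap R R') := by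
  rw [injective_iff_map_eq_zero]
  intro r hr
  by_contra hne
  have hreg : IsSMulRegular R' r :=
    Module.Flat.isSMulRegular_of_isRegular (IsRegular.of_ne_zero hne)
  have h1 : r • (1 : R') = r • (0 : R') := by
    rw [Algebra.smul_def, mul_one, hr, smul_zero]
  exact one_ne_zero (hreg h1)

/-- the square of spectra of `R → R'`, `K → K'` is cartesian. -/
theorem exists_isPullback_genPt (R R' : Type u) [CommRing R] [IsDomain R] [CommRing R'] [IsDomain R']
    [Algebra R R'] [Module.Flat R R'] [Algebra.IsIntegral R R'] :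
    ∃ γ : Spec (CommRingCat.of (FractionRing R')) ⟶ Spec (CommRingCat.of (FractionRing R)),
      IsPullback (Neron.genPt R') γ (Spec.map (CommRingCat.ofHom (algebraMap R R'))) (Neron.genPt R) := by
  have hinj := algebraMap_injective_of_flat R R'
  have : FaithfulSMul R R' := (faithfulSMul_iff_algebraMap_injective R R').mpr hinj
  have hloc : IsLocalization (Algebra.algebraMapSubmonoid R' R⁰) (FractionRing R') := inferInstance
  have hle : R⁰ ≤ (R'⁰).comap (algebraMap R R') := by
    intro r hr
    rw [Submonoid.mem_comap]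
    exact mem_nonZeroDivisors_of_ne_zero
      (fun h0 => nonZeroDivisors.ne_zero hr (hinj (h0.trans (map_zero _).symm)))
  let fm : FractionRing R →+* FractionRing R' :=
    IsLocalization.map (FractionRing R') (algebraMap R R') hle
  have H : fm.comp (algebraMap R (FractionRing R)) =
      (algebraMap R' (FractionRing R')).comp (algebraMap R R') := IsLocalization.map_comp hle
  have hloc' : IsLocalization (R⁰.map (algebraMap R R')) (FractionRing R') := hloc
  have hpo := CommRingCat.isPushout_of_isLocalization (algebraMap R R') fm H R⁰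
  exact ⟨Spec.map (CommRingCat.ofHom fm), isPullback_SpecMap_of_isPushout _ _ _ _ hpo⟩


/-- the Néron mapping property passes to a smooth base change `g` when the square of "generic points" is cartesian. -/
theorem nmp_baseChange {S S' T T' : Scheme.{u}} (g : S' ⟶ S) (η : T ⟶ S) (η' : T' ⟶ S') (γ : T' ⟶ T)
    (hsq : IsPullback η' γ g η) (N : Over S)
    (hN : ∀ Y : Over S, Smooth Y.hom →
      Function.Bijective (fun u : Y ⟶ N => (Over.pullback η).map u))
    [Smooth g] (Y' : Over S') [Smooth Y'.hom] :
    Function.Bijective (fun u : Y' ⟶ (Over.pullback g).obj N => (Over.pullback η').map u) := by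
  have hYsm : Smooth (Over.mk (Y'.hom ≫ g)).hom := by
    change Smooth (Y'.hom ≫ g)
    infer_instance
  obtain ⟨hinjN, hsurjN⟩ := hN (Over.mk (Y'.hom ≫ g)) hYsm
  -- the comparison isomorphism for `Y'`
  have hpaste : IsPullback (pullback.fst Y'.hom η') (pullback.snd Y'.hom η' ≫ γ) (Y'.hom ≫ g) η :=
    ((IsPullback.of_hasPullback Y'.hom η').flip.paste_horiz hsq.flip).flip
  obtain ⟨θY, hθY1, hθY2⟩ : ∃ θY : pullback Y'.hom η' ≅ pullback (Y'.hom ≫ g) η,
      θY.hom ≫ pullback.fst (Y'.hom ≫ g) η = pullback.fst Y'.hom η' ∧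
      θY.hom ≫ pullback.snd (Y'.hom ≫ g) η = pullback.snd Y'.hom η' ≫ γ :=
    ⟨hpaste.isoPullback, hpaste.isoPullback_hom_fst, hpaste.isoPullback_hom_snd⟩
  -- the comparison map for `N`
  have hθNw : (pullback.fst (pullback.snd N.hom g) η' ≫ pullback.fst N.hom g) ≫ N.hom =
      (pullback.snd (pullback.snd N.hom g) η' ≫ γ) ≫ η := by
    rw [Category.assoc, pullback.condition, ← Category.assoc, pullback.condition, Category.assoc,
      hsq.w, Category.assoc]
  obtain ⟨θN, hθN1, hθN2⟩ : ∃ θN : pullback (pullback.snd N.hom g) η' ⟶ pullback N.hom η,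
      θN ≫ pullback.fst N.hom η = pullback.fst (pullback.snd N.hom g) η' ≫ pullback.fst N.hom g ∧
      θN ≫ pullback.snd N.hom η = pullback.snd (pullback.snd N.hom g) η' ≫ γ :=
    ⟨pullback.lift _ _ hθNw, pullback.lift_fst _ _ _, pullback.lift_snd _ _ _⟩
  -- joint monicity
  have hJM : ∀ {W : Scheme.{u}} (a b : W ⟶ pullback (pullback.snd N.hom g) η'),
      a ≫ θN = b ≫ θN → a ≫ pullback.snd _ _ = b ≫ pullback.snd _ _ → a = b := by
    intro W a b h1 h2
    apply pullback.hom_ext
    · apply pullback.hom_ext
      · have := congrArg (fun m => m ≫ pullback.fst N.hom η) h1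
        simpa only [Category.assoc, hθN1] using this
      · rw [Category.assoc, Category.assoc, pullback.condition, ← Category.assoc, ← Category.assoc, h2]
    · exact h2
  -- the adjoint morphism
  have hflatw : ∀ u : Y' ⟶ (Over.pullback g).obj N,
      (u.left ≫ pullback.fst N.hom g) ≫ N.hom = Y'.hom ≫ g := by
    intro u
    have := Over.w u
    change u.left ≫ pullback.snd N.hom g = Y'.hom at this
    rw [Category.assoc, pullback.condition, ← Category.assoc, this]
  have hNAT : ∀ (u : Y' ⟶ (Over.pullback g).obj N) (v : Over.mk (Y'.hom ≫ g) ⟶ N),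
      v.left = u.left ≫ pullback.fst N.hom g →
      ((Over.pullback η').map u).left ≫ θN = θY.hom ≫ ((Over.pullback η).map v).left := by
    intro u v hv
    have hmu1 : ((Over.pullback η').map u).left ≫ pullback.fst (pullback.snd N.hom g) η' =
        pullback.fst Y'.hom η' ≫ u.left := by
      simp only [Over.pullback_map_left]
      exact pullback.lift_fst _ _ _
    have hmu2 : ((Over.pullback η').map u).left ≫ pullback.snd (pullback.snd N.hom g) η' =
        pullback.snd Y'.hom η' := by
      simp only [Over.pullback_map_left]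
      exact pullback.lift_snd _ _ _
    have hmv1 : ((Over.pullback η).map v).left ≫ pullback.fst N.hom η =
        pullback.fst (Y'.hom ≫ g) η ≫ v.left := by
      simp only [Over.pullback_map_left]
      exact pullback.lift_fst _ _ _
    have hmv2 : ((Over.pullback η).map v).left ≫ pullback.snd N.hom η =
        pullback.snd (Y'.hom ≫ g) η := by
      simp only [Over.pullback_map_left]
      exact pullback.lift_snd _ _ _
    apply pullback.hom_ext
    · rw [Category.assoc, hθN1, ← Category.assoc, hmu1, Category.assoc, Category.assoc, hmv1,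
        ← Category.assoc θY.hom, hθY1, hv]
    · rw [Category.assoc, hθN2, ← Category.assoc, hmu2, Category.assoc, hmv2, hθY2]
  constructor
  · intro u₁ u₂ h12
    have h12' : (Over.pullback η').map u₁ = (Over.pullback η').map u₂ := h12
    obtain ⟨v₁, hv₁⟩ : ∃ v₁ : Over.mk (Y'.hom ≫ g) ⟶ N, v₁.left = u₁.left ≫ pullback.fst N.hom g :=
      ⟨Over.homMk (u₁.left ≫ pullback.fst N.hom g) (hflatw u₁), rfl⟩
    obtain ⟨v₂, hv₂⟩ : ∃ v₂ : Over.mk (Y'.hom ≫ g) ⟶ N, v₂.left = u₂.left ≫ pullback.fst N.hom g :=
      ⟨Over.homMk (u₂.left ≫ pullback.fst N.hom g) (hflatw u₂), rfl⟩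
    have e1 := hNAT u₁ v₁ hv₁
    have e2 := hNAT u₂ v₂ hv₂
    rw [h12'] at e1
    have e3 : ((Over.pullback η).map v₁).left = ((Over.pullback η).map v₂).left := by
      rw [← cancel_epi θY.hom, ← e1, ← e2]
    have e4 : v₁ = v₂ := hinjN (Over.OverMorphism.ext e3)
    apply Over.OverMorphism.ext
    apply pullback.hom_ext
    · rw [← hv₁, ← hv₂, e4]
    · have w1 := Over.w u₁
      have w2 := Over.w u₂
      change u₁.left ≫ pullback.snd N.hom g = Y'.hom at w1
      change u₂.left ≫ pullback.snd N.hom g = Y'.hom at w2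
      rw [w1, w2]
  · intro φ'
    have hφ'w : φ'.left ≫ pullback.snd (pullback.snd N.hom g) η' = pullback.snd Y'.hom η' := Over.w φ'
    obtain ⟨φ, hφdef⟩ : ∃ φ : (Over.pullback η).obj (Over.mk (Y'.hom ≫ g)) ⟶ (Over.pullback η).obj N,
        φ.left = θY.inv ≫ φ'.left ≫ θN :=
      ⟨Over.homMk (θY.inv ≫ φ'.left ≫ θN) (by
        change (θY.inv ≫ φ'.left ≫ θN) ≫ pullback.snd N.hom η = pullback.snd (Y'.hom ≫ g) η
        rw [Category.assoc, Category.assoc, hθN2, ← Category.assoc φ'.left, hφ'w, ← hθY2,
          Iso.inv_hom_id_assoc]), rfl⟩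
    obtain ⟨v, hv⟩ := hsurjN φ
    have hv' : (Over.pullback η).map v = φ := hv
    have hvw : v.left ≫ N.hom = Y'.hom ≫ g := Over.w v
    obtain ⟨u, hudef⟩ : ∃ u : Y' ⟶ (Over.pullback g).obj N,
        u.left = pullback.lift v.left Y'.hom hvw :=
      ⟨Over.homMk (pullback.lift v.left Y'.hom hvw) (pullback.lift_snd _ _ _), rfl⟩
    refine ⟨u, ?_⟩
    change (Over.pullback η').map u = φ'
    apply Over.OverMorphism.ext
    apply hJM
    · rw [hNAT u v (by rw [hudef, pullback.lift_fst]), hv', hφdef, Iso.hom_inv_id_assoc]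
    · have := Over.w ((Over.pullback η').map u)
      change ((Over.pullback η').map u).left ≫ pullback.snd (pullback.snd N.hom g) η' =
        pullback.snd Y'.hom η' at this
      rw [this, hφ'w]

end Groth.Agent.H40.NeronFinEt
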