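import Groth.Agent.H40.TorsorSq

/-!
# Formal consequences of Néron-type mapping properties (helper40)

`F : Over S ⥤ D` preserves pullbacks; an object `X` has the mapping property when `g ↦ F.map g` is bijective on
morphisms from smooth `S`-schemes.
-/

set_option autoImplicit false
universe u v w
open CategoryTheory CategoryTheory.Limits AlgebraicGeometry MonoidalCategory CartesianMonoidalCategory

namespace Groth.Agent.H40.NeronFormal

variable {S : Scheme.{u}}

theorem sq_prod (X Y : Over S) : IsPullback (fst X Y) (snd X Y) (toUnit X) (toUnit Y) := by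
  refine Groth.Agent.H40.FpqcFam.isPullback_of_pts (toUnit_unique _ _) ?_
  intro T x y _
  refine ⟨lift x y, ⟨lift_fst _ _, lift_snd _ _⟩, ?_⟩
  rintro p ⟨hp1, hp2⟩
  apply CartesianMonoidalCategory.hom_ext
  · rw [lift_fst, hp1]
  · rw [lift_snd, hp2]

theorem smooth_tensor (X Y : Over S) [Smooth X.hom] [Smooth Y.hom] : Smooth (X ⊗ Y).hom := by
  rw [Over.tensorObj_hom]
  infer_instance

variable {D : Type v} [Category.{w} D] (F : Over S ⥤ D)
  [∀ {A B C : Over S} (f : A ⟶ C) (g : B ⟶ C), PreservesLimit (cospan f g) F]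

/-- the mapping property: bijectivity on morphisms from smooth schemes. -/
def NMP (X : Over S) : Prop :=
  ∀ Z : Over S, Smooth Z.hom → Function.Bijective (fun g : Z ⟶ X => F.map g)

/-- maps into `F.obj (𝟙_)` from objects in the image of `F` need not be unique, but their composites with the two
structure maps of a product agree as soon as they come from `Over S`; we only need joint monicity of
`F.map fst, F.map snd`. -/
theorem hom_ext_prod {X Y : Over S} {T : D} (a b : T ⟶ F.obj (X ⊗ Y))
    (h1 : a ≫ F.map (fst X Y) = b ≫ F.map (fst X Y))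
    (h2 : a ≫ F.map (snd X Y) = b ≫ F.map (snd X Y)) : a = b :=
  ((sq_prod X Y).map F).hom_ext h1 h2

theorem NMP.prod {X Y : Over S} (hX : NMP F X) (hY : NMP F Y) : NMP F (X ⊗ Y) := by
  intro Z hZ
  constructor
  · intro g₁ g₂ h
    have h' : F.map g₁ = F.map g₂ := h
    apply CartesianMonoidalCategory.hom_ext
    · apply (hX Z hZ).1
      change F.map (g₁ ≫ fst X Y) = F.map (g₂ ≫ fst X Y)
      rw [F.map_comp, F.map_comp, h']
    · apply (hY Z hZ).1
      change F.map (g₁ ≫ snd X Y) = F.map (g₂ ≫ snd X Y)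
      rw [F.map_comp, F.map_comp, h']
  · intro φ
    obtain ⟨x, hx⟩ := (hX Z hZ).2 (φ ≫ F.map (fst X Y))
    obtain ⟨y, hy⟩ := (hY Z hZ).2 (φ ≫ F.map (snd X Y))
    have hx' : F.map x = φ ≫ F.map (fst X Y) := hx
    have hy' : F.map y = φ ≫ F.map (snd X Y) := hy
    refine ⟨lift x y, ?_⟩
    change F.map (lift x y) = φ
    apply hom_ext_prod
    · rw [← F.map_comp, lift_fst, hx']
    · rw [← F.map_comp, lift_snd, hy']

/-- a morphism between smooth objects with the mapping property whose image is an isomorphism is an isomorphism. -/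
theorem isIso_of_NMP {X Y : Over S} [Smooth X.hom] [Smooth Y.hom] (hX : NMP F X) (hY : NMP F Y)
    (f : X ⟶ Y) [IsIso (F.map f)] : IsIso f := by
  obtain ⟨σ, hσ⟩ := (hX Y inferInstance).2 (inv (F.map f))
  have hσ' : F.map σ = inv (F.map f) := hσ
  refine ⟨σ, ?_, ?_⟩
  · apply (hX X inferInstance).1
    change F.map (f ≫ σ) = F.map (𝟙 X)
    rw [F.map_comp, hσ', IsIso.hom_inv_id, F.map_id]
  · apply (hY Y inferInstance).1
    change F.map (σ ≫ f) = F.map (𝟙 Y)
    rw [F.map_comp, hσ', IsIso.inv_hom_id, F.map_id]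

end Groth.Agent.H40.NeronFormal
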