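import Groth.Agent.H40.NeronFormal
import Groth.Agent.H40.FpqcDesc3
import Groth.Agent.H40.LocSurj
import Groth.Agent.H27.OverPullback

/-!
# Néron-type mapping properties: descent along smooth surjective covers, products after base change (helper40)
-/

set_option autoImplicit false
universe u
open CategoryTheory CategoryTheory.Limits AlgebraicGeometry MonoidalCategory CartesianMonoidalCategory

namespace Groth.Agent.H40.NeronFormal

open Groth.Agent.H40.FpqcFam

variable {S S' : Scheme.{u}}

/-- a flat surjective morphism locally of finite presentation has fpqc-local sections. -/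
theorem locTriv_of_fppf {X Y : Over S} (p : X ⟶ Y) [Flat p.left] [LocallyOfFinitePresentation p.left]
    [Surjective p.left] :
    NonAbH1.IsLocallyTrivialFor Scheme.fpqcPrecoverage (Over.mk p.left : Over Y.left) := by
  refine locTriv_of_cov p ⟨_, p.left, 𝟙 _, Category.id_comp _, inferInstance, inferInstance, ?_⟩
  intro V hV
  exact p.left.isOpenMap.exists_opens_image_eq_of_prespectralSpace p.left.continuous
    (fun y _ => p.left.surjective y) V.2 hV.isCompact

theorem epi_pullback_map (f : S' ⟶ S) {X Y : Over S} (p : X ⟶ Y) [Flat p.left] [Surjective p.left] :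
    Epi ((Over.pullback f).map p) := by
  have h1 : Flat ((Over.pullback f).map p).left :=
    Groth.Agent.H27.pullback_map_left_of_stable @Flat _ p inferInstance
  have h2 : Surjective ((Over.pullback f).map p).left :=
    Groth.Agent.H27.pullback_map_left_of_stable @Surjective _ p inferInstance
  have : Epi ((Over.pullback f).map p).left := Flat.epi_of_flat_of_surjective _
  exact Over.epi_of_epi_left _

theorem epi_of_flat_surj {X Y : Over S} (p : X ⟶ Y) [Flat p.left] [Surjective p.left] : Epi p := by
  have : Epi p.left := Flat.epi_of_flat_of_surjective _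
  exact Over.epi_of_epi_left _

/-- **descent step**: if `X` has uniqueness in the mapping property, a morphism `F Z ⟶ F X` which extends after a
smooth surjective cover `p : Z' ⟶ Z` extends. -/
theorem exists_of_cover (f : S' ⟶ S) {X Z Z' : Over S}
    (hINJ : ∀ W : Over S, Smooth W.hom → ∀ g₁ g₂ : W ⟶ X,
      (Over.pullback f).map g₁ = (Over.pullback f).map g₂ → g₁ = g₂)
    [Smooth Z.hom] (p : Z' ⟶ Z) [Smooth p.left] [Surjective p.left]
    (φ : (Over.pullback f).obj Z ⟶ (Over.pullback f).obj X) (w : Z' ⟶ X)
    (hw : (Over.pullback f).map w = (Over.pullback f).map p ≫ φ) :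
    ∃ u : Z ⟶ X, (Over.pullback f).map u = φ := by
  have hconst : ∀ (T : Over S) (x x' : T ⟶ Z'), x ≫ p = x' ≫ p → x ≫ w = x' ≫ w := by
    have hP₂sm : Smooth (Limits.pullback p p).hom := by
      have h1 : Smooth (pullback.snd p p).left :=
        MorphismProperty.of_isPullback (P := @Smooth)
          ((IsPullback.of_hasPullback p p).map (Over.forget S)) (‹Smooth p.left›)
      rw [← Over.w (pullback.snd p p), ← Over.w p]
      infer_instance
    have huniv : pullback.fst p p ≫ w = pullback.snd p p ≫ w := by
      apply hINJ _ hP₂sm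
      rw [Functor.map_comp, Functor.map_comp, hw, ← Category.assoc, ← Category.assoc,
        ← Functor.map_comp, ← Functor.map_comp, pullback.condition]
    intro T x x' hxx'
    calc x ≫ w = (pullback.lift x x' hxx' ≫ pullback.fst p p) ≫ w := by rw [pullback.lift_fst]
      _ = pullback.lift x x' hxx' ≫ pullback.snd p p ≫ w := by rw [Category.assoc, huniv]
      _ = x' ≫ w := by rw [← Category.assoc, pullback.lift_snd]
  obtain ⟨u, hu⟩ := desc_of_const' (locTriv_of_fppf p) w hconst
  refine ⟨u, ?_⟩
  have := epi_pullback_map f p
  rw [← cancel_epi ((Over.pullback f).map p), ← Functor.map_comp, hu, hw]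

/-- morphisms into the base change of the unit object are unique. -/
theorem unit_hom_ext (f : S' ⟶ S) {T : Over S'}
    (t₁ t₂ : T ⟶ (Over.pullback f).obj (𝟙_ (Over S))) : t₁ = t₂ := by
  have hiso : IsIso ((Over.pullback f).obj (𝟙_ (Over S))).hom := by
    change IsIso (pullback.snd (𝟙 S) f)
    infer_instance
  apply Over.OverMorphism.ext
  rw [← cancel_mono ((Over.pullback f).obj (𝟙_ (Over S))).hom, Over.w, Over.w]

/-- pairing into the base change of a product. -/
noncomputable def liftProd (f : S' ⟶ S) {X Y : Over S} {T : Over S'}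
    (x : T ⟶ (Over.pullback f).obj X) (y : T ⟶ (Over.pullback f).obj Y) :
    T ⟶ (Over.pullback f).obj (X ⊗ Y) :=
  ((sq_prod X Y).map (Over.pullback f)).lift x y (unit_hom_ext f _ _)

@[reassoc (attr := simp)]
theorem liftProd_fst (f : S' ⟶ S) {X Y : Over S} {T : Over S'}
    (x : T ⟶ (Over.pullback f).obj X) (y : T ⟶ (Over.pullback f).obj Y) :
    liftProd f x y ≫ (Over.pullback f).map (fst X Y) = x :=
  IsPullback.lift_fst _ _ _ _

@[reassoc (attr := simp)]
theorem liftProd_snd (f : S' ⟶ S) {X Y : Over S} {T : Over S'}
    (x : T ⟶ (Over.pullback f).obj X) (y : T ⟶ (Over.pullback f).obj Y) :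
    liftProd f x y ≫ (Over.pullback f).map (snd X Y) = y :=
  IsPullback.lift_snd _ _ _ _

theorem map_lift_eq (f : S' ⟶ S) {X Y T : Over S} (x : T ⟶ X) (y : T ⟶ Y) :
    (Over.pullback f).map (lift x y) =
      liftProd f ((Over.pullback f).map x) ((Over.pullback f).map y) := by
  apply hom_ext_prod
  · rw [liftProd_fst, ← Functor.map_comp, lift_fst]
  · rw [liftProd_snd, ← Functor.map_comp, lift_snd]

theorem smooth_fst (Z N : Over S) [Smooth N.hom] : Smooth (fst Z N).left := by
  rw [Over.fst_left]
  infer_instance

theorem surjective_fst (Z N : Over S) [Surjective N.hom] : Surjective (fst Z N).left := by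
  rw [Over.fst_left]
  exact MorphismProperty.pullback_fst (P := @Surjective) _ _ inferInstance

end Groth.Agent.H40.NeronFormal
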