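import Mathlib
import Groth.Agent.S18063

set_option autoImplicit false
universe u
open CategoryTheory MonoidalCategory CartesianMonoidalCategory MonObj GrpObj AlgebraicGeometry CategoryTheory.Limits
open scoped commutatorElement

namespace Groth.Agent.H40.NilpSolv

variable {S : Scheme.{u}} (G : Over S) [GrpObj G]

/-- precomposition as a group hom -/
def precomp {X Y : Over S} (f : X ⟶ Y) : (Y ⟶ G) →* (X ⟶ G) where
  toFun u := f ≫ u
  map_one' := MonObj.comp_one f
  map_mul' a b := MonObj.comp_mul f a b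

@[simp] theorem precomp_apply {X Y : Over S} (f : X ⟶ Y) (u : Y ⟶ G) : precomp G f u = f ≫ u := rfl

/-- functoriality of a family of subgroups of the groups of points -/
def Func (H : ∀ X : Over S, Subgroup (X ⟶ G)) : Prop :=
  ∀ (X Y : Over S) (f : X ⟶ Y) (u : Y ⟶ G), u ∈ H Y → f ≫ u ∈ H X

/-- every element of the family comes from a flat universal point -/
def Univ (H : ∀ X : Over S, Subgroup (X ⟶ G)) : Prop :=
  ∀ (X : Over S) (x : X ⟶ G), x ∈ H X →
    ∃ (P : Over S) (_ : Flat P.hom) (g : X ⟶ P) (u : P ⟶ G), u ∈ H P ∧ g ≫ u = x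

theorem func_top : Func G (fun _ => ⊤) := fun _ _ _ _ _ => Subgroup.mem_top _

theorem univ_top [Flat G.hom] : Univ G (fun _ => ⊤) := fun _ x _ =>
  ⟨G, inferInstance, x, 𝟙 G, Subgroup.mem_top _, Category.comp_id x⟩

theorem func_comm {H₁ H₂ : ∀ X : Over S, Subgroup (X ⟶ G)} (h₁ : Func G H₁) (h₂ : Func G H₂) :
    Func G (fun X => ⁅H₁ X, H₂ X⁆) := by
  intro X Y f u hu
  have h : Subgroup.map (precomp G f) ⁅H₁ Y, H₂ Y⁆ ≤ ⁅H₁ X, H₂ X⁆ := by
    rw [Subgroup.map_commutator]
    apply Subgroup.commutator_mono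
    · rintro _ ⟨a, ha, rfl⟩
      exact h₁ X Y f a ha
    · rintro _ ⟨a, ha, rfl⟩
      exact h₂ X Y f a ha
  exact h ⟨u, hu, rfl⟩

theorem flat_tensor (P Q : Over S) [Flat P.hom] [Flat Q.hom] : Flat (P ⊗ Q).hom := by
  rw [Over.tensorObj_hom]; infer_instance

theorem univ_comm {H₁ H₂ : ∀ X : Over S, Subgroup (X ⟶ G)} (f₁ : Func G H₁) (f₂ : Func G H₂)
    (h₁ : Univ G H₁) (h₂ : Univ G H₂) [Flat G.hom] :
    Univ G (fun X => ⁅H₁ X, H₂ X⁆) := by
  intro X x hx
  have hx' : x ∈ Subgroup.closure {g | ∃ g₁ ∈ H₁ X, ∃ g₂ ∈ H₂ X, ⁅g₁, g₂⁆ = g} := by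
    rw [← Subgroup.commutator_def]; exact hx
  have hfc := func_comm G f₁ f₂
  induction hx' using Subgroup.closure_induction with
  | mem y hy =>
    obtain ⟨a, ha, b, hb, rfl⟩ := hy
    obtain ⟨P, hP, g, u, hu, rfl⟩ := h₁ X a ha
    obtain ⟨Q, hQ, g', v, hv, rfl⟩ := h₂ X b hb
    refine ⟨P ⊗ Q, flat_tensor P Q, lift g g', ⁅fst P Q ≫ u, snd P Q ≫ v⁆, ?_, ?_⟩
    · exact Subgroup.commutator_mem_commutator (f₁ _ _ _ _ hu) (f₂ _ _ _ _ hv)
    · have := map_commutatorElement (precomp G (lift g g')) (fst P Q ≫ u) (snd P Q ≫ v)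
      simp only [precomp_apply] at this
      rw [this, lift_fst_assoc, lift_snd_assoc]
  | one =>
    exact ⟨G, inferInstance, 1, 1, Subgroup.one_mem _, MonObj.comp_one _⟩
  | mul a b ha hb iha ihb =>
    have ha' : a ∈ ⁅H₁ X, H₂ X⁆ := by rw [Subgroup.commutator_def]; exact ha
    have hb' : b ∈ ⁅H₁ X, H₂ X⁆ := by rw [Subgroup.commutator_def]; exact hb
    obtain ⟨P, hP, g, u, hu, rfl⟩ := iha ha'
    obtain ⟨Q, hQ, g', v, hv, rfl⟩ := ihb hb'
    refine ⟨P ⊗ Q, flat_tensor P Q, lift g g', (fst P Q ≫ u) * (snd P Q ≫ v), ?_, ?_⟩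
    · exact Subgroup.mul_mem _ (hfc _ _ _ _ hu) (hfc _ _ _ _ hv)
    · rw [MonObj.comp_mul, lift_fst_assoc, lift_snd_assoc]
  | inv a ha iha =>
    have ha' : a ∈ ⁅H₁ X, H₂ X⁆ := by rw [Subgroup.commutator_def]; exact ha
    obtain ⟨P, hP, g, u, hu, rfl⟩ := iha ha'
    exact ⟨P, hP, g, u⁻¹, Subgroup.inv_mem _ hu, GrpObj.comp_inv _ _⟩

theorem func_univ_derived [Flat G.hom] (n : ℕ) :
    Func G (fun X => derivedSeries (X ⟶ G) n) ∧ Univ G (fun X => derivedSeries (X ⟶ G) n) := by
  induction n with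
  | zero => exact ⟨func_top G, univ_top G⟩
  | succ n ih => exact ⟨func_comm G ih.1 ih.1, univ_comm G ih.1 ih.1 ih.2 ih.2⟩

theorem func_univ_lcs [Flat G.hom] (n : ℕ) :
    Func G (fun X => Subgroup.lowerCentralSeries (⊤ : Subgroup (X ⟶ G)) n) ∧
      Univ G (fun X => Subgroup.lowerCentralSeries (⊤ : Subgroup (X ⟶ G)) n) := by
  induction n with
  | zero => exact ⟨func_top G, univ_top G⟩
  | succ n ih =>
    exact ⟨func_comm G ih.1 (func_top G), univ_comm G ih.1 (func_top G) ih.2 (univ_top G)⟩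

theorem eq_bot_of_univ {H : ∀ X : Over S, Subgroup (X ⟶ G)} (hU : Univ G H)
    (hflat : ∀ P : Over S, Flat P.hom → H P = ⊥) (X : Over S) : H X = ⊥ := by
  rw [eq_bot_iff]
  intro x hx
  obtain ⟨P, hP, g, u, hu, rfl⟩ := hU X x hx
  rw [hflat P hP, Subgroup.mem_bot] at hu
  rw [Subgroup.mem_bot, hu]
  exact MonObj.comp_one g

theorem lcs_map_le {H K : Type*} [Group H] [Group K] (f : H →* K) (n : ℕ) :
    ((⊤ : Subgroup H).lowerCentralSeries n).map f ≤ (⊤ : Subgroup K).lowerCentralSeries n := by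
  rw [Subgroup.map_lowerCentralSeries]
  exact Subgroup.lowerCentralSeries_mono n le_top

/-- upper central series reaches top iff lower central series reaches bottom -/
theorem lcs_bot_of_ucs_top {H : Type*} [Group H] {n : ℕ}
    (h : Subgroup.upperCentralSeries H n = ⊤) :
    Subgroup.lowerCentralSeries (⊤ : Subgroup H) n = ⊥ := by
  have h1 := Subgroup.is_descending_rev_series_of_is_ascending H h
    (Subgroup.upperCentralSeries_isAscendingCentralSeries H)
  have h2 := Subgroup.descending_central_series_ge_lower _ h1 n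
  simp only [tsub_self, Subgroup.upperCentralSeries_zero] at h2
  exact eq_bot_iff.mpr h2

theorem ucs_top_of_lcs_bot {H : Type*} [Group H] {n : ℕ}
    (h : Subgroup.lowerCentralSeries (⊤ : Subgroup H) n = ⊥) :
    Subgroup.upperCentralSeries H n = ⊤ := by
  have h1 := Subgroup.is_ascending_rev_series_of_is_descending H h
    Subgroup.lowerCentralSeries_isDescendingCentralSeries
  have h2 := Subgroup.ascending_central_series_le_upper _ h1 n
  simp only [tsub_self, Subgroup.lowerCentralSeries_zero] at h2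
  exact eq_top_iff.mpr h2

end Groth.Agent.H40.NilpSolv

namespace Groth.Agent.H40.NilpSolv

open Groth.Agent.S18063

variable {S S' : Scheme.{u}} (j : S' ⟶ S) (G : Over S) [GrpObj G]

/-- base change of points along a schematically dominant morphism is injective on flat sources -/
theorem injective_homMonoidHom [IsSchemeTheoreticallyDominant j] [QuasiCompact j]
    (P : Over S) [Flat P.hom] [IsSeparated G.hom] :
    Function.Injective ((Over.pullback j).homMonoidHom :
      (P ⟶ G) →* ((Over.pullback j).obj P ⟶ (Over.pullback j).obj G)) := by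
  intro a b hab
  exact faithful_of_flat j P G a b hab

/-- the adjunction bijection `G(j_! Y) → G_{S'}(Y)` as a group homomorphism -/
noncomputable def adjHom (Y : Over S') :
    ((Over.map j).obj Y ⟶ G) →* (Y ⟶ (Over.pullback j).obj G) :=
  (precomp ((Over.pullback j).obj G) ((Over.mapPullbackAdj j).unit.app Y)).comp
    ((Over.pullback j).homMonoidHom)

theorem adjHom_surjective (Y : Over S') : Function.Surjective (adjHom j G Y) := by
  intro y
  refine ⟨((Over.mapPullbackAdj j).homEquiv Y G).symm y, ?_⟩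
  have h := ((Over.mapPullbackAdj j).homEquiv Y G).apply_symm_apply y
  rw [Adjunction.homEquiv_unit] at h
  exact h

/-- nilpotency (pointwise, class ≤ n) specialises from a schematically dominant `j` to any `j'` -/
theorem nilp_transfer {S'' : Scheme.{u}} (j' : S'' ⟶ S) [IsSchemeTheoreticallyDominant j]
    [QuasiCompact j] [Flat G.hom] [IsSeparated G.hom] (n : ℕ)
    (h : ∀ X : Over S', Subgroup.upperCentralSeries (X ⟶ (Over.pullback j).obj G) n = ⊤)
    (Y : Over S'') : Subgroup.upperCentralSeries (Y ⟶ (Over.pullback j').obj G) n = ⊤ := by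
  have h1 : ∀ P : Over S, Flat P.hom →
      Subgroup.lowerCentralSeries (⊤ : Subgroup (P ⟶ G)) n = ⊥ := by
    intro P hP
    have h2 := lcs_bot_of_ucs_top (h ((Over.pullback j).obj P))
    have h3 := lcs_map_le ((Over.pullback j).homMonoidHom :
      (P ⟶ G) →* ((Over.pullback j).obj P ⟶ (Over.pullback j).obj G)) n
    rw [h2, le_bot_iff] at h3
    exact (Subgroup.map_eq_bot_iff_of_injective _ (injective_homMonoidHom j G P)).mp h3
  have h4 : ∀ X : Over S, Subgroup.upperCentralSeries (X ⟶ G) n = ⊤ := fun X =>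
    ucs_top_of_lcs_bot (eq_bot_of_univ G (func_univ_lcs G n).2 h1 X)
  have h5 := Subgroup.upperCentralSeries.map (adjHom_surjective j' G Y) n
  rw [h4, Subgroup.map_top_of_surjective _ (adjHom_surjective j' G Y)] at h5
  exact eq_top_iff.mpr h5

theorem solv_transfer {S'' : Scheme.{u}} (j' : S'' ⟶ S) [IsSchemeTheoreticallyDominant j]
    [QuasiCompact j] [Flat G.hom] [IsSeparated G.hom] (n : ℕ)
    (h : ∀ X : Over S', derivedSeries (X ⟶ (Over.pullback j).obj G) n = ⊥)
    (Y : Over S'') : derivedSeries (Y ⟶ (Over.pullback j').obj G) n = ⊥ := by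
  have h1 : ∀ P : Over S, Flat P.hom → derivedSeries (P ⟶ G) n = ⊥ := by
    intro P hP
    have h3 := map_derivedSeries_le_derivedSeries ((Over.pullback j).homMonoidHom :
      (P ⟶ G) →* ((Over.pullback j).obj P ⟶ (Over.pullback j).obj G)) n
    rw [h ((Over.pullback j).obj P), le_bot_iff] at h3
    exact (Subgroup.map_eq_bot_iff_of_injective _ (injective_homMonoidHom j G P)).mp h3
  have h4 : ∀ X : Over S, derivedSeries (X ⟶ G) n = ⊥ := fun X =>
    eq_bot_of_univ G (func_univ_derived G n).2 h1 X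
  have h5 := map_derivedSeries_eq (f := adjHom j' G Y) (adjHom_surjective j' G Y) n
  rw [h4, Subgroup.map_bot] at h5
  exact h5.symm

end Groth.Agent.H40.NilpSolv
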