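import Mathlib
import Groth.Agent.H40.NilpSolv
import Groth.Agent.H40.GrpPts
import Groth.Agent.H51.Reduced

/-!
# Universal points with a general property `Q` (variant of `H40/NilpSolv`), and density of
`Ω`-points in reduced schemes locally of finite type over a field — helper40
-/

set_option autoImplicit false
universe u
open CategoryTheory MonoidalCategory CartesianMonoidalCategory MonObj GrpObj AlgebraicGeometry CategoryTheory.Limits
open scoped commutatorElement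

namespace Groth.Agent.H40.NilpSolv

variable {S : Scheme.{u}} (G : Over S) [GrpObj G] (Q : Over S → Prop)

/-- every element of the family comes from a universal point with property `Q` -/
def UnivQ (H : ∀ X : Over S, Subgroup (X ⟶ G)) : Prop :=
  ∀ (X : Over S) (x : X ⟶ G), x ∈ H X →
    ∃ (P : Over S) (_ : Q P) (g : X ⟶ P) (u : P ⟶ G), u ∈ H P ∧ g ≫ u = x

theorem univQ_top (hG : Q G) : UnivQ G Q (fun _ => ⊤) := fun _ x _ =>
  ⟨G, hG, x, 𝟙 G, Subgroup.mem_top _, Category.comp_id x⟩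

theorem univQ_comm {H₁ H₂ : ∀ X : Over S, Subgroup (X ⟶ G)} (f₁ : Func G H₁) (f₂ : Func G H₂)
    (h₁ : UnivQ G Q H₁) (h₂ : UnivQ G Q H₂) (hG : Q G)
    (ht : ∀ P P' : Over S, Q P → Q P' → Q (P ⊗ P')) :
    UnivQ G Q (fun X => ⁅H₁ X, H₂ X⁆) := by
  intro X x hx
  have hx' : x ∈ Subgroup.closure {g | ∃ g₁ ∈ H₁ X, ∃ g₂ ∈ H₂ X, ⁅g₁, g₂⁆ = g} := by
    rw [← Subgroup.commutator_def]; exact hx
  have hfc := func_comm G f₁ f₂
  induction hx' using Subgroup.closure_induction with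
  | mem y hy =>
    obtain ⟨a, ha, b, hb, rfl⟩ := hy
    obtain ⟨P, hP, g, u, hu, rfl⟩ := h₁ X a ha
    obtain ⟨P', hP', g', v, hv, rfl⟩ := h₂ X b hb
    refine ⟨P ⊗ P', ht P P' hP hP', lift g g', ⁅fst P P' ≫ u, snd P P' ≫ v⁆, ?_, ?_⟩
    · exact Subgroup.commutator_mem_commutator (f₁ _ _ _ _ hu) (f₂ _ _ _ _ hv)
    · have := map_commutatorElement (precomp G (lift g g')) (fst P P' ≫ u) (snd P P' ≫ v)
      simp only [precomp_apply] at this
      rw [this, lift_fst_assoc, lift_snd_assoc]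
  | one =>
    exact ⟨G, hG, 1, 1, Subgroup.one_mem _, MonObj.comp_one _⟩
  | mul a b ha hb iha ihb =>
    have ha' : a ∈ ⁅H₁ X, H₂ X⁆ := by rw [Subgroup.commutator_def]; exact ha
    have hb' : b ∈ ⁅H₁ X, H₂ X⁆ := by rw [Subgroup.commutator_def]; exact hb
    obtain ⟨P, hP, g, u, hu, rfl⟩ := iha ha'
    obtain ⟨P', hP', g', v, hv, rfl⟩ := ihb hb'
    refine ⟨P ⊗ P', ht P P' hP hP', lift g g', (fst P P' ≫ u) * (snd P P' ≫ v), ?_, ?_⟩
    · exact Subgroup.mul_mem _ (hfc _ _ _ _ hu) (hfc _ _ _ _ hv)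
    · rw [MonObj.comp_mul, lift_fst_assoc, lift_snd_assoc]
  | inv a ha iha =>
    have ha' : a ∈ ⁅H₁ X, H₂ X⁆ := by rw [Subgroup.commutator_def]; exact ha
    obtain ⟨P, hP, g, u, hu, rfl⟩ := iha ha'
    exact ⟨P, hP, g, u⁻¹, Subgroup.inv_mem _ hu, GrpObj.comp_inv _ _⟩

theorem func_univQ_derived (hG : Q G) (ht : ∀ P P' : Over S, Q P → Q P' → Q (P ⊗ P')) (n : ℕ) :
    Func G (fun X => derivedSeries (X ⟶ G) n) ∧ UnivQ G Q (fun X => derivedSeries (X ⟶ G) n) := by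
  induction n with
  | zero => exact ⟨func_top G, univQ_top G Q hG⟩
  | succ n ih => exact ⟨func_comm G ih.1 ih.1, univQ_comm G Q ih.1 ih.1 ih.2 ih.2 hG ht⟩

theorem func_univQ_lcs (hG : Q G) (ht : ∀ P P' : Over S, Q P → Q P' → Q (P ⊗ P')) (n : ℕ) :
    Func G (fun X => Subgroup.lowerCentralSeries (⊤ : Subgroup (X ⟶ G)) n) ∧
      UnivQ G Q (fun X => Subgroup.lowerCentralSeries (⊤ : Subgroup (X ⟶ G)) n) := by
  induction n with
  | zero => exact ⟨func_top G, univQ_top G Q hG⟩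
  | succ n ih =>
    exact ⟨func_comm G ih.1 (func_top G),
      univQ_comm G Q ih.1 (func_top G) ih.2 (univQ_top G Q hG) hG ht⟩

theorem eq_bot_of_univQ {H : ∀ X : Over S, Subgroup (X ⟶ G)} (hU : UnivQ G Q H)
    (hQ : ∀ P : Over S, Q P → H P = ⊥) (X : Over S) : H X = ⊥ := by
  rw [eq_bot_iff]
  intro x hx
  obtain ⟨P, hP, g, u, hu, rfl⟩ := hU X x hx
  rw [hQ P hP, Subgroup.mem_bot] at hu
  rw [Subgroup.mem_bot, hu]
  exact MonObj.comp_one g

theorem smooth_tensor (P P' : Over S) (h : Smooth P.hom) (h' : Smooth P'.hom) :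
    Smooth (P ⊗ P').hom := by
  rw [Over.tensorObj_hom]; infer_instance

end Groth.Agent.H40.NilpSolv
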