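import Mathlib
import Groth.Agent.H40.GrpPts

/-!
# Density of `Ω`-points in reduced schemes locally of finite type over a field `k ⊆ Ω`,
`Ω` algebraically closed — helper40
-/

set_option autoImplicit false
universe u
open CategoryTheory MonoidalCategory CartesianMonoidalCategory MonObj GrpObj AlgebraicGeometry CategoryTheory.Limits

namespace Groth.Agent.H40.OmegaPts

variable {k : Type u} [Field k] (Ω : Type u) [Field Ω] [Algebra k Ω] [IsAlgClosed Ω]

/-- the `k`-scheme `Spec Ω` -/
noncomputable abbrev T : Over (Spec (CommRingCat.of k)) :=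
  Over.mk (Spec.map (CommRingCat.ofHom (algebraMap k Ω)))

/-- every closed point of a scheme locally of finite type over `k` is the image of an `Ω`-point -/
theorem exists_point (P : Over (Spec (CommRingCat.of k))) [LocallyOfFiniteType P.hom]
    (x : P.left) (hx : IsClosed ({x} : Set P.left)) :
    ∃ p : T (k := k) Ω ⟶ P, x ∈ Set.range p.left.base := by
  have hJ : JacobsonSpace P.left := LocallyOfFiniteType.jacobsonSpace P.hom
  have hfin : IsFinite (P.left.fromSpecResidueField x ≫ P.hom) := by
    rw [isClosed_singleton_iff_isClosedImmersion] at hx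
    rw [isFinite_iff_locallyOfFiniteType_of_jacobsonSpace]
    infer_instance
  obtain ⟨φ, hφ⟩ : ∃ φ : CommRingCat.of k ⟶ P.left.residueField x,
      Spec.map φ = P.left.fromSpecResidueField x ≫ P.hom := ⟨Spec.preimage _, Spec.map_preimage _⟩
  have hint : φ.hom.IsIntegral := by
    rw [← IsIntegralHom.SpecMap_iff, hφ]
    infer_instance
  let _ : Algebra k (P.left.residueField x) := φ.hom.toAlgebra
  have hI : Algebra.IsIntegral k (P.left.residueField x) := ⟨hint⟩
  have hA : Algebra.IsAlgebraic k (P.left.residueField x) := inferInstance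
  let σ : P.left.residueField x →ₐ[k] Ω := IsAlgClosed.lift
  have hσ : φ ≫ CommRingCat.ofHom σ.toRingHom = CommRingCat.ofHom (algebraMap k Ω) := by
    ext a
    exact σ.commutes a
  have hw : (Spec.map (CommRingCat.ofHom σ.toRingHom) ≫ P.left.fromSpecResidueField x) ≫ P.hom
      = (T (k := k) Ω).hom := by
    rw [Category.assoc, ← hφ, ← Spec.map_comp]
    exact congrArg Spec.map hσ
  refine ⟨Over.homMk (Spec.map (CommRingCat.ofHom σ.toRingHom) ≫ P.left.fromSpecResidueField x) hw,
    ⟨IsLocalRing.closedPoint Ω, ?_⟩⟩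
  simp only [Over.homMk_left, Scheme.Hom.comp_base, TopCat.hom_comp, ContinuousMap.comp_apply]
  exact Scheme.fromSpecResidueField_apply _ _

/-- `Ω`-points are dense in the closed-subscheme sense -/
theorem dense_points (P : Over (Spec (CommRingCat.of k))) [LocallyOfFiniteType P.hom]
    [IsReduced P.left] (Z : Over (Spec (CommRingCat.of k))) (c : Z ⟶ P)
    (hc : IsClosedImmersion c.left)
    (h : ∀ p : T (k := k) Ω ⟶ P, ∃ z : T (k := k) Ω ⟶ Z, z ≫ c = p) : IsIso c := by
  have hJ : JacobsonSpace P.left := LocallyOfFiniteType.jacobsonSpace P.hom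
  have hsurj : Surjective c.left := by
    constructor
    rw [← Set.range_eq_univ, ← Set.univ_subset_iff, ← closure_closedPoints (X := P.left)]
    apply closure_minimal _ c.left.isClosedEmbedding.isClosed_range
    intro x hx
    obtain ⟨p, a, ha⟩ := exists_point Ω P x hx
    obtain ⟨z, hz⟩ := h p
    refine ⟨z.left.base a, ?_⟩
    rw [← ha, ← hz]
    rfl
  have hiso : IsIso c.left := isIso_of_isClosedImmersion_of_surjective c.left
  have : IsIso ((Over.forget _).map c) := hiso
  exact isIso_of_reflects_iso c (Over.forget _)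

/-- two morphisms to a `k`-group agreeing on `Ω`-points agree (source reduced, loc. of finite type) -/
theorem eq_of_eq_on_points {G P : Over (Spec (CommRingCat.of k))} [GrpObj G]
    [LocallyOfFiniteType P.hom] [IsReduced P.left] (φ₁ φ₂ : P ⟶ G)
    (h : ∀ p : T (k := k) Ω ⟶ P, p ≫ φ₁ = p ≫ φ₂) : φ₁ = φ₂ :=
  Groth.Agent.H40.GrpPts.eq_of_eq_on_points (T := T (k := k) Ω)
    (fun Z c hc hh => dense_points Ω P Z c hc hh) φ₁ φ₂ h

end Groth.Agent.H40.OmegaPts
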