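import Groth.Agent.H40.LocSurj
import Groth.Agent.H40.FpqcDesc3
import Mathlib.CategoryTheory.Limits.Constructions.Over.Connected

/-!
# Principal bundles in cartesian-square form; morphisms of principal bundles are cartesian (helper40)

`IsPB b q`: `q : P ⟶ Q` is invariant, `(h, p) ↦ (h p, p)` identifies `H ⊗ P` with `P ×_Q P`, and `q` is flat, surjective and
quasi-compact (an fpqc covering).  `IsPB.isPullback_of_equivariant`: an equivariant morphism of principal bundles
covering `m : Q' ⟶ Q` gives a cartesian square.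
-/

set_option autoImplicit false
universe u
open CategoryTheory CategoryTheory.Limits AlgebraicGeometry MonoidalCategory CartesianMonoidalCategory
open MonObj

namespace Groth.Agent.H40.PrincBundle

open Groth.Agent.H40.FpqcFam

variable {S : Scheme.{u}}

theorem locTriv_of_fpqc {X Y : Over S} (p : X ⟶ Y) [Flat p.left] [Surjective p.left]
    [QuasiCompact p.left] :
    NonAbH1.IsLocallyTrivialFor Scheme.fpqcPrecoverage (Over.mk p.left : Over Y.left) := by
  refine locTriv_of_cov p ⟨_, p.left, 𝟙 _, Category.id_comp _, inferInstance, inferInstance, ?_⟩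
  intro V hV
  refine ⟨p.left ⁻¹ᵁ V, QuasiCompact.isCompact_preimage (f := p.left) _ V.2 hV.isCompact, ?_⟩
  exact Set.image_preimage_eq _ p.left.surjective

variable {H : Over S} [GrpObj H]

/-- principal bundle in cartesian-square form, with an fpqc quotient map. -/
structure IsPB {P Q : Over S} (b : AlgGrp.Action H P) (q : P ⟶ Q) : Prop where
  sq : IsPullback b.act (snd H P) q q
  flat : Flat q.left
  surj : Surjective q.left
  qc : QuasiCompact q.left

theorem IsPB.of_psiY {P Q : Over S} (b : AlgGrp.Action H P) (q : P ⟶ Q) (hinv : GIT.IsInvariant b q)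
    (hiso : IsIso (GIT.PsiY b q hinv)) (hflat : Flat q.left)
    (hsurj : Function.Surjective q.left.base) (hqc : QuasiCompact q.left) : IsPB b q := by
  refine ⟨?_, hflat, ⟨hsurj⟩, hqc⟩
  have h1 : IsPullback b.act.left (snd H P).left q.left q.left :=
    IsPullback.of_iso_pullback ⟨hinv.left⟩ (asIso (GIT.PsiY b q hinv))
      (pullback.lift_fst _ _ _) (pullback.lift_snd _ _ _)
  exact IsPullback.of_map (Over.forget S) hinv h1

theorem IsPB.locTriv {P Q : Over S} {b : AlgGrp.Action H P} {q : P ⟶ Q} (hq : IsPB b q) :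
    NonAbH1.IsLocallyTrivialFor Scheme.fpqcPrecoverage (Over.mk q.left : Over Q.left) := by
  have := hq.flat
  have := hq.surj
  have := hq.qc
  exact locTriv_of_fpqc q

/-- the base change of a flat surjective quasi-compact morphism of `Over S` has fpqc-local sections. -/
theorem locTriv_pullback_fst {X Y T : Over S} (z : T ⟶ Y) (q : X ⟶ Y) (hflat : Flat q.left)
    (hsurj : Surjective q.left) (hqc : QuasiCompact q.left) :
    NonAbH1.IsLocallyTrivialFor Scheme.fpqcPrecoverage
      (Over.mk (pullback.fst z q).left : Over T.left) := by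
  have hsqS : IsPullback (pullback.fst z q).left (pullback.snd z q).left z.left q.left :=
    (IsPullback.of_hasPullback z q).map (Over.forget S)
  have h1 : Flat (pullback.fst z q).left := MorphismProperty.of_isPullback (P := @Flat) hsqS.flip hflat
  have h2 : Surjective (pullback.fst z q).left :=
    MorphismProperty.of_isPullback (P := @Surjective) hsqS.flip hsurj
  have h3 : QuasiCompact (pullback.fst z q).left :=
    MorphismProperty.of_isPullback (P := @QuasiCompact) hsqS.flip hqc
  exact locTriv_of_fpqc _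

section Equivariant

variable {P Q P' Q' : Over S} {b : AlgGrp.Action H P} {q : P ⟶ Q}
  {b' : AlgGrp.Action H P'} {q' : P' ⟶ Q'}

theorem equivariant_pt {f : P' ⟶ P} (hf : b'.act ≫ f = (H ◁ f) ≫ b.act) {T : Over S} (h : T ⟶ H)
    (p' : T ⟶ P') : (lift h p' ≫ b'.act) ≫ f = lift h (p' ≫ f) ≫ b.act := by
  rw [Category.assoc, hf, ← Category.assoc, lift_whiskerLeft]

/-- points of the source bundle are determined by their images in the target bundle and in the base. -/
theorem IsPB.pt_ext (hq : IsPB b q) (hq' : IsPB b' q') (f : P' ⟶ P)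
    (hf : b'.act ≫ f = (H ◁ f) ≫ b.act) {T : Over S} (p₁ p₂ : T ⟶ P')
    (h1 : p₁ ≫ f = p₂ ≫ f) (h2 : p₁ ≫ q' = p₂ ≫ q') : p₁ = p₂ := by
  obtain ⟨h, hh⟩ := sq_exists hq'.sq p₁ p₂ h2
  have e : lift h (p₂ ≫ f) ≫ b.act = lift 1 (p₂ ≫ f) ≫ b.act := by
    rw [← equivariant_pt hf, hh, h1, AlgGrp.Action.lift_one_act]
  have h1' := sq_free hq.sq _ _ _ e
  rw [← hh, h1', AlgGrp.Action.lift_one_act]

/-- **an equivariant morphism of principal bundles is cartesian over the bases.** -/
theorem IsPB.isPullback_of_equivariant (hq : IsPB b q) (hq' : IsPB b' q') (f : P' ⟶ P) (m : Q' ⟶ Q)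
    (hf : b'.act ≫ f = (H ◁ f) ≫ b.act) (hm : q' ≫ m = f ≫ q) : IsPullback f q' q m := by
  refine isPullback_of_pts hm.symm ?_
  intro T x z hxz
  have hloc := locTriv_pullback_fst z q' hq'.flat hq'.surj hq'.qc
  obtain ⟨p, hpdef⟩ : ∃ p : Limits.pullback z q' ⟶ T, p = pullback.fst z q' := ⟨_, rfl⟩
  obtain ⟨p'', hp''def⟩ : ∃ p'' : Limits.pullback z q' ⟶ P', p'' = pullback.snd z q' := ⟨_, rfl⟩
  have hpp : p ≫ z = p'' ≫ q' := by rw [hpdef, hp''def]; exact pullback.condition
  rw [← hpdef] at hloc
  have e1 : (p ≫ x) ≫ q = (p'' ≫ f) ≫ q := by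
    rw [Category.assoc, Category.assoc, ← hm, ← Category.assoc p'', ← hpp, Category.assoc, hxz]
  obtain ⟨h, hh⟩ := sq_exists hq.sq (p ≫ x) (p'' ≫ f) e1
  obtain ⟨w', hw'def⟩ : ∃ w', w' = lift h p'' ≫ b'.act := ⟨_, rfl⟩
  have hw'f : w' ≫ f = p ≫ x := by rw [hw'def, equivariant_pt hf, hh]
  have hw'q : w' ≫ q' = p ≫ z := by rw [hw'def, sq_inv hq'.sq, hpp]
  obtain ⟨u, hu⟩ := desc_of_const' hloc w' (by
    intro T' t₁ t₂ ht
    apply hq.pt_ext hq' f hf
    · rw [Category.assoc, Category.assoc, hw'f, ← Category.assoc, ← Category.assoc, ht]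
    · rw [Category.assoc, Category.assoc, hw'q, ← Category.assoc, ← Category.assoc, ht])
  refine ⟨u, ⟨?_, ?_⟩, ?_⟩
  · apply exact_cancel' hloc
    rw [← Category.assoc, hu, hw'f]
  · apply exact_cancel' hloc
    rw [← Category.assoc, hu, hw'q]
  · rintro u' ⟨h1, h2⟩
    apply hq.pt_ext hq' f hf
    · apply exact_cancel' hloc
      rw [h1, ← Category.assoc, hu, hw'f]
    · apply exact_cancel' hloc
      rw [h2, ← Category.assoc, hu, hw'q]

end Equivariant

end Groth.Agent.H40.PrincBundle
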