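import Groth.Agent.H40.PrincBundle
import Groth.Agent.H40.FpqcInv

/-!
# Descent of morphisms to an absolute scheme and of global functions along principal bundles (helper40)
-/

set_option autoImplicit false
universe u
open CategoryTheory CategoryTheory.Limits AlgebraicGeometry MonoidalCategory CartesianMonoidalCategory
open MonObj

namespace Groth.Agent.H40.PrincBundle

open Groth.Agent.H40.FpqcFam

variable {S : Scheme.{u}}

/-- descent of morphisms to an arbitrary scheme along a morphism of `Over S` with fpqc-local sections. -/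
theorem desc_scheme {E P : Over S} {v : E ⟶ P}
    (hloc : NonAbH1.IsLocallyTrivialFor Scheme.fpqcPrecoverage (Over.mk v.left : Over P.left))
    {Z : Scheme.{u}} (ψ : E.left ⟶ Z)
    (hconst : ∀ (T : Over S) (x x' : T ⟶ E), x ≫ v = x' ≫ v → x.left ≫ ψ = x'.left ≫ ψ) :
    ∃ φ : P.left ⟶ Z, v.left ≫ φ = ψ := by
  obtain ⟨ψ', hψ'def⟩ : ∃ ψ' : E ⟶ Over.mk (Limits.prod.snd : Z ⨯ S ⟶ S),
      ψ'.left = Limits.prod.lift ψ E.hom :=
    ⟨Over.homMk (Limits.prod.lift ψ E.hom) (Limits.prod.lift_snd _ _), rfl⟩
  obtain ⟨φ', hφ'⟩ := desc_of_const' hloc ψ' (by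
    intro T x x' h
    apply Over.OverMorphism.ext
    rw [Over.comp_left, Over.comp_left, hψ'def]
    apply Limits.prod.hom_ext
    · rw [Category.assoc, Category.assoc, Limits.prod.lift_fst]
      exact hconst T x x' h
    · rw [Category.assoc, Category.assoc, Limits.prod.lift_snd, Over.w, Over.w])
  refine ⟨φ'.left ≫ Limits.prod.fst, ?_⟩
  rw [← Category.assoc, ← Over.comp_left, hφ', hψ'def, Limits.prod.lift_fst]

variable {H : Over S} [GrpObj H]

/-- invariant morphisms to an arbitrary scheme descend along a principal bundle. -/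
theorem IsPB.desc_scheme {P Q : Over S} {b : AlgGrp.Action H P} {q : P ⟶ Q} (hq : IsPB b q)
    {Z : Scheme.{u}} (ψ : P.left ⟶ Z) (hψ : b.act.left ≫ ψ = (snd H P).left ≫ ψ) :
    ∃ φ : Q.left ⟶ Z, q.left ≫ φ = ψ := by
  refine Groth.Agent.H40.PrincBundle.desc_scheme hq.locTriv ψ ?_
  intro T x x' h
  obtain ⟨g, hg⟩ := sq_exists hq.sq x x' h
  rw [← hg, Over.comp_left, Category.assoc, hψ, ← Category.assoc, ← Over.comp_left, lift_snd]

/-- global functions on the base of a principal bundle are the invariant global functions. -/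
theorem IsPB.appTop {P Q : Over S} {b : AlgGrp.Action H P} {q : P ⟶ Q} (hq : IsPB b q) :
    Function.Injective (q.left.appTop) ∧
      Set.range (q.left.appTop) =
        {s : Γ(P.left, ⊤) | b.act.left.appTop s = (snd H P).left.appTop s} := by
  have := hq.flat
  have := hq.surj
  have hepi : Epi q.left := Flat.epi_of_flat_of_surjective _
  constructor
  · intro s s' h
    have h' : q.left.appTop.hom s = q.left.appTop.hom s' := h
    have : q.left ≫ toA1 s = q.left ≫ toA1 s' := by rw [comp_toA1, comp_toA1, h']
    exact toA1_injective ((cancel_epi q.left).1 this)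
  · ext s
    constructor
    · rintro ⟨t, rfl⟩
      change (q.left.appTop ≫ b.act.left.appTop) t = (q.left.appTop ≫ (snd H P).left.appTop) t
      rw [← Scheme.Hom.comp_appTop, ← Scheme.Hom.comp_appTop, ← Over.comp_left, ← Over.comp_left,
        hq.sq.w]
    · intro hs
      have hs' : b.act.left.appTop.hom s = (snd H P).left.appTop.hom s := hs
      obtain ⟨φ, hφ⟩ := hq.desc_scheme (toA1 s) (by rw [comp_toA1, comp_toA1, hs'])
      refine ⟨fn φ, ?_⟩
      have := fn_comp q.left φ
      rw [hφ, fn_toA1] at this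
      exact this.symm

end Groth.Agent.H40.PrincBundle
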