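import Groth.Agent.H40.PrincBundle2
import Groth.Agent.H40.MaxOpen3
import Groth.Agent.S12496

/-!
# Torsors in cartesian-square form with fpqc-local sections: transfer of properties of the group, universal
submersiveness (helper40)
-/

set_option autoImplicit false
universe u
open CategoryTheory CategoryTheory.Limits AlgebraicGeometry MonoidalCategory CartesianMonoidalCategory
open MonObj

namespace Groth.Agent.H40.PrincBundle

open Groth.Agent.H40.FpqcFam

variable {S : Scheme.{u}} {G : Over S} [GrpObj G]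

/-- the base change of a torsor along a map through which a section exists is the trivial torsor. -/
theorem torsor_bc_sq {X Y U : Over S} {a : AlgGrp.Action G X} {φ : X ⟶ Y}
    (hcart : IsPullback a.act (snd G X) φ φ) (σ : U ⟶ X) :
    IsPullback ((G ◁ σ) ≫ a.act) (snd G U) φ (σ ≫ φ) :=
  (Groth.Agent.H40.MaxOpen.sq_snd' (G := G) σ).flip.paste_horiz hcart

/-- properties of `G ⟶ S` which are fpqc local on the base pass to `G`-torsors `φ : X ⟶ Y`. -/
theorem transfer_rel (P : MorphismProperty Scheme.{u}) [IsZariskiLocalAtTarget P]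
    [P.IsStableUnderBaseChange]
    (hP : P.DescendsAlong (@Surjective ⊓ @Flat ⊓ @QuasiCompact : MorphismProperty Scheme.{u}))
    {X Y : Over S} {a : AlgGrp.Action G X} {φ : X ⟶ Y}
    (hcart : IsPullback a.act (snd G X) φ φ)
    (hloc : NonAbH1.IsLocallyTrivialFor Scheme.fpqcPrecoverage (Over.mk φ.left : Over Y.left))
    (hG : P G.hom) : P φ.left := by
  obtain ⟨R, hR, hsec⟩ := hloc
  obtain ⟨𝒰, h𝒰⟩ := Precoverage.mem_iff_exists_zeroHypercover.mp hR
  refine Groth.Agent.S12496.result P hP φ.left 𝒰 fun i => ?_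
  have hi : R (𝒰.f i) := by rw [h𝒰]; exact Presieve.ofArrows.mk i
  obtain ⟨s, hs⟩ := hsec _ hi
  have hs' : s ≫ φ.left = 𝒰.f i := hs
  obtain ⟨σ, hσdef⟩ : ∃ σ : Over.mk (𝒰.f i ≫ Y.hom) ⟶ X, σ.left = s :=
    ⟨Over.homMk s (by
      change s ≫ X.hom = 𝒰.f i ≫ Y.hom
      rw [← Over.w φ, ← Category.assoc, hs']), rfl⟩
  have hsq := (torsor_bc_sq hcart σ).map (Over.forget S)
  have hσφ : (Over.forget S).map (σ ≫ φ) = 𝒰.f i := by
    change (σ ≫ φ).left = _
    rw [Over.comp_left, hσdef, hs']
  rw [hσφ] at hsq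
  have hsq' : IsPullback ((G ◁ σ) ≫ a.act).left (snd G (Over.mk (𝒰.f i ≫ Y.hom))).left φ.left
      (𝒰.f i) := hsq
  refine (Groth.Agent.H40.MaxOpen.bc_iff (P := P) hsq').mp ?_
  rw [Over.snd_left]
  exact P.pullback_snd _ _ hG

/-- a torsor under a flat, surjective, quasi-compact group is a principal bundle. -/
theorem IsPB.of_torsor {X Y : Over S} {a : AlgGrp.Action G X} {φ : X ⟶ Y}
    (hcart : IsPullback a.act (snd G X) φ φ)
    (hloc : NonAbH1.IsLocallyTrivialFor Scheme.fpqcPrecoverage (Over.mk φ.left : Over Y.left))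
    [Flat G.hom] [QuasiCompact G.hom] (hqcdesc : MorphismProperty.DescendsAlong @QuasiCompact
      (@Surjective ⊓ @Flat ⊓ @QuasiCompact : MorphismProperty Scheme.{u}))
    (hflatdesc : MorphismProperty.DescendsAlong @Flat
      (@Surjective ⊓ @Flat ⊓ @QuasiCompact : MorphismProperty Scheme.{u})) : IsPB a φ := by
  have hsurj : Surjective G.hom := by
    constructor
    intro x
    refine ⟨(MonObj.one : 𝟙_ (Over S) ⟶ G).left x, ?_⟩
    rw [← Scheme.Hom.comp_apply, Over.w (MonObj.one : 𝟙_ (Over S) ⟶ G)]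
    rfl
  exact ⟨hcart, transfer_rel @Flat hflatdesc hcart hloc inferInstance,
    transfer_rel @Surjective inferInstance hcart hloc hsurj,
    transfer_rel @QuasiCompact hqcdesc hcart hloc inferInstance⟩

variable {H : Over S} [GrpObj H]

/-- the quotient map of a principal bundle is universally submersive. -/
theorem IsPB.isUnivSubmersive {P Q : Over S} {b : AlgGrp.Action H P} {q : P ⟶ Q} (hq : IsPB b q) :
    GIT.IsUnivSubmersive q.left := by
  intro X' Y' i₁ i₂ f' hsq
  have h1 : Flat f' := MorphismProperty.of_isPullback (P := @Flat) hsq.flip hq.flat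
  have h2 : Surjective f' := MorphismProperty.of_isPullback (P := @Surjective) hsq.flip hq.surj
  have h3 : QuasiCompact f' := MorphismProperty.of_isPullback (P := @QuasiCompact) hsq.flip hq.qc
  exact Flat.isQuotientMap_of_surjective f'

theorem IsPB.isIso_psiY {P Q : Over S} {b : AlgGrp.Action H P} {q : P ⟶ Q} (hq : IsPB b q)
    (hinv : GIT.IsInvariant b q) : IsIso (GIT.PsiY b q hinv) := by
  have hS : IsPullback b.act.left (snd H P).left q.left q.left := hq.sq.map (Over.forget S)
  have : GIT.PsiY b q hinv = hS.isoPullback.hom := by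
    apply pullback.hom_ext
    · rw [IsPullback.isoPullback_hom_fst]; exact pullback.lift_fst _ _ _
    · rw [IsPullback.isoPullback_hom_snd]; exact pullback.lift_snd _ _ _
  rw [this]
  infer_instance

end Groth.Agent.H40.PrincBundle
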