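import Groth.Agent.H40.UnramLocus
import Groth.Agent.H24.QFLocus

/-!
# Pointwise properties of a homomorphism of group schemes invariant under base change (helper40)

If a pointwise property `PP f x` of morphisms locally of finite type is invariant under arbitrary
base change, then for a homomorphism `u : G ⟶ H` it only depends on the image of `x` in `S`.
-/

set_option autoImplicit false
universe u
open CategoryTheory CategoryTheory.Limits AlgebraicGeometry MorphismProperty MonoidalCategory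
  CartesianMonoidalCategory MonObj

namespace Groth.Agent.H40.PtLocus

open Groth.Agent.H40.SubgrpLocus Groth.Agent.H40.UnramLocus

/-- a pointwise property invariant under arbitrary base change (for morphisms lft) -/
def PtBC (PP : ∀ {X Y : Scheme.{u}}, (X ⟶ Y) → X → Prop) : Prop :=
  ∀ {X S X' S' : Scheme.{u}} {f : X ⟶ S} {g : S' ⟶ S} {f' : X' ⟶ S'} {g' : X' ⟶ X}
    (_ : IsPullback g' f' f g) [LocallyOfFiniteType f] (x' : X'), PP f' x' ↔ PP f (g'.base x')

theorem ptBC_unram :
    PtBC (fun {X Y} (f : X ⟶ Y) x => (f.stalkMap x).hom.FormallyUnramified) :=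
  fun H _ x' => unram_stalk_iff_of_isPullback H x'

theorem ptBC_qf : PtBC (fun {X Y} (f : X ⟶ Y) x => f.QuasiFiniteAt x) := by
  intro X S X' S' f g f' g' H _ x'
  have : LocallyOfFiniteType f' :=
    MorphismProperty.of_isPullback (P := @LocallyOfFiniteType) H inferInstance
  have h := Groth.Agent.H24.quasiFiniteLocus_eq_preimage_of_isPullback H
  have h1 : x' ∈ f'.quasiFiniteLocus ↔ x' ∈ g' ⁻¹ᵁ f.quasiFiniteLocus := by rw [h]
  exact h1

variable {PP : ∀ {X Y : Scheme.{u}}, (X ⟶ Y) → X → Prop} (hPP : PtBC PP)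

section Sch
include hPP

theorem pt_isoL {X' X Y : Scheme.{u}} (j : X' ⟶ X) [IsIso j] (f : X ⟶ Y) [LocallyOfFiniteType f]
    (x : X') : PP (j ≫ f) x ↔ PP f (j.base x) :=
  hPP (IsPullback.of_horiz_isIso ⟨by simp⟩ : IsPullback j (j ≫ f) f (𝟙 Y)) x

theorem pt_isoR {X Y Y' : Scheme.{u}} (f : X ⟶ Y) (v : Y ⟶ Y') [IsIso v] [LocallyOfFiniteType f]
    (x : X) : PP (f ≫ v) x ↔ PP f x :=
  hPP (IsPullback.of_horiz_isIso ⟨by simp⟩ : IsPullback (𝟙 X) (f ≫ v) f (inv v)) x

end Sch

section Grp

variable {S : Scheme.{u}} {G H : Over S} [GrpObj G] [GrpObj H] (u : G ⟶ H) [IsMonHom u]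
include hPP

theorem pt_translate [LocallyOfFiniteType u.left] {T : Over S} (g : T ⟶ G)
    (z : (T ⊗ G).left) :
    PP u.left ((snd T G).left.base z) ↔ PP u.left (((fst T G ≫ g) * snd T G).left.base z) := by
  have pt : ∀ {A B C : Over S} (a : A ⟶ B) (b : B ⟶ C) (c : A ⟶ C) (_ : a ≫ b = c) (z : A.left),
      b.left.base (a.left.base z) = c.left.base z := by
    intro A B C a b c h z
    subst h
    rfl
  have H0 : IsPullback (snd T G).left (T ◁ u).left u.left (snd T H).left :=
    (Groth.Agent.H40.MaxOpen.sq_snd' (G := T) u).map (Over.forget S)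
  have hlft : LocallyOfFiniteType (T ◁ u).left :=
    MorphismProperty.of_isPullback (P := @LocallyOfFiniteType) H0 inferInstance
  obtain ⟨τ, hτdef⟩ : ∃ τ : T ⊗ G ≅ T ⊗ G, τ = trans g := ⟨_, rfl⟩
  obtain ⟨σ, hσdef⟩ : ∃ σ : T ⊗ H ≅ T ⊗ H, σ = trans (g ≫ u) := ⟨_, rfl⟩
  have hτσ : τ.hom.left ≫ (T ◁ u).left = (T ◁ u).left ≫ σ.hom.left := by
    rw [hτdef, hσdef, ← Over.comp_left, ← Over.comp_left, trans_whisker]
  have hτsnd : τ.hom ≫ snd T G = (fst T G ≫ g) * snd T G := by rw [hτdef]; exact trans_hom_snd g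
  have hτiso : IsIso τ.hom.left := inferInstanceAs (IsIso ((Over.forget S).map τ.hom))
  have hσiso : IsIso σ.hom.left := inferInstanceAs (IsIso ((Over.forget S).map σ.hom))
  have hA : PP (T ◁ u).left z ↔ PP u.left ((snd T G).left.base z) := hPP H0 z
  have hB : PP (T ◁ u).left (τ.hom.left.base z) ↔
      PP u.left ((snd T G).left.base (τ.hom.left.base z)) := hPP H0 _
  have hC : PP (τ.hom.left ≫ (T ◁ u).left) z ↔ PP (T ◁ u).left (τ.hom.left.base z) :=
    pt_isoL hPP _ _ z
  have hD : PP ((T ◁ u).left ≫ σ.hom.left) z ↔ PP (T ◁ u).left z := pt_isoR hPP _ _ z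
  rw [hτσ] at hC
  rw [← pt _ _ _ hτsnd]
  exact hA.symm.trans (hD.symm.trans (hC.trans hB))

/-- `PP u x` only depends on the image of `x` in `S` -/
theorem pt_iff_unit [LocallyOfFiniteType u.left] (x : G.left) :
    PP u.left x ↔ PP u.left (η[G].left.base (G.hom.base x)) := by
  have pt : ∀ {A B C : Over S} (a : A ⟶ B) (b : B ⟶ C) (c : A ⟶ C) (_ : a ≫ b = c) (z : A.left),
      b.left.base (a.left.base z) = c.left.base z := by
    intro A B C a b c h z
    subst h
    rfl
  obtain ⟨ζ, hζdef⟩ : ∃ ζ, ζ = G.left.fromSpecResidueField x := ⟨_, rfl⟩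
  obtain ⟨t₀⟩ : Nonempty (Spec (G.left.residueField x)) := inferInstance
  have hζt : ζ.base t₀ = x := by
    rw [hζdef]
    exact Scheme.fromSpecResidueField_apply _ _
  obtain ⟨g, hgl⟩ : ∃ g : Over.mk (ζ ≫ G.hom) ⟶ G, g.left = ζ :=
    ⟨CategoryTheory.Over.homMk ζ rfl, rfl⟩
  have e1 : lift (𝟙 (Over.mk (ζ ≫ G.hom))) (toUnit _ ≫ η[G]) ≫ snd (Over.mk (ζ ≫ G.hom)) G =
      toUnit _ ≫ η[G] := lift_snd _ _
  have e2 : lift (𝟙 (Over.mk (ζ ≫ G.hom))) (toUnit _ ≫ η[G]) ≫
      ((fst (Over.mk (ζ ≫ G.hom)) G ≫ g) * snd (Over.mk (ζ ≫ G.hom)) G) = g := by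
    rw [MonObj.comp_mul, lift_fst_assoc, lift_snd, Category.id_comp]
    have : toUnit (Over.mk (ζ ≫ G.hom)) ≫ η[G] = (1 : Over.mk (ζ ≫ G.hom) ⟶ G) := rfl
    rw [this, _root_.mul_one]
  have h := pt_translate hPP u g
    ((lift (𝟙 (Over.mk (ζ ≫ G.hom))) (toUnit _ ≫ η[G])).left.base t₀)
  rw [pt _ _ _ e1, pt _ _ _ e2] at h
  have p1 : (toUnit (Over.mk (ζ ≫ G.hom)) ≫ η[G]).left.base t₀ =
      η[G].left.base (G.hom.base x) := by
    have p1' : (toUnit (Over.mk (ζ ≫ G.hom)) ≫ η[G]).left.base t₀ =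
        η[G].left.base (G.hom.base (ζ.base t₀)) := rfl
    rw [p1', hζt]
  have p2 : g.left.base t₀ = x := by rw [hgl, hζt]
  rw [p1, p2] at h
  exact h.symm

/-- `PP` holds at all points of the fibre homomorphism `u_s` iff it holds for `u` at the unit
point of the fibre at `s` -/
theorem pt_fibre_iff [LocallyOfFiniteType u.left] (s : S) :
    (∀ x', PP ((Over.pullback (S.fromSpecResidueField s)).map u).left x') ↔
      PP u.left (η[G].left.base s) := by
  have Hsq := isPullback_pullback_map (S.fromSpecResidueField s) u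
  have hηs : G.hom.base (η[G].left.base s) = s := by
    have := congrArg (fun m => m.base s) (Over.w η[G])
    exact this
  constructor
  · intro h
    have hmem : η[G].left.base s ∈
        Set.range (pullback.fst G.hom (S.fromSpecResidueField s)).base := by
      rw [Scheme.Pullback.range_fst, Scheme.range_fromSpecResidueField]
      exact hηs
    obtain ⟨x', hx'⟩ := hmem
    have := (hPP Hsq x').mp (h x')
    rw [hx'] at this
    exact this
  · intro h x'
    refine (hPP Hsq x').mpr ?_
    refine (pt_iff_unit hPP u _).mpr ?_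
    have hx : G.hom.base ((pullback.fst G.hom (S.fromSpecResidueField s)).base x') = s := by
      have hmem : (pullback.fst G.hom (S.fromSpecResidueField s)).base x' ∈
          Set.range (pullback.fst G.hom (S.fromSpecResidueField s)).base := ⟨x', rfl⟩
      rw [Scheme.Pullback.range_fst, Scheme.range_fromSpecResidueField] at hmem
      exact hmem
    rw [hx]
    exact h

/-- kernel version: `PP` for `K → S` at the unit point iff `PP` for `u` at the unit point -/
theorem pt_kernel_iff [LocallyOfFiniteType u.left] {K : Over S} [GrpObj K] (i : K ⟶ G)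
    [IsMonHom i] (hK : AlgGrp.IsKernel i u) (s : S) :
    PP K.hom (η[K].left.base s) ↔ PP u.left (η[G].left.base s) := by
  have Hk : IsPullback i.left (toUnit K).left u.left η[H].left := hK.map (Over.forget S)
  have h := hPP Hk (η[K].left.base s)
  have e : i.left.base (η[K].left.base s) = η[G].left.base s := by
    have := congrArg (fun m : 𝟙_ (Over S) ⟶ G => m.left.base s) (IsMonHom.one_hom (f := i))
    exact this
  rw [e] at h
  exact h

end Grp

end Groth.Agent.H40.PtLocus
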