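import Mathlib
import Groth.Prelude
import Groth.Agent.H95.ProjSpaceChart
import Groth.Agent.H18.ProjSubD
set_option autoImplicit false
universe u
open CategoryTheory CategoryTheory.Limits AlgebraicGeometry

namespace Groth.Agent.H40.RR_A1P1

open Groth.Agent.H95.ProjSpaceChart Groth.Agent.H95.AffSpaceOrd

/-- the index type of the chart of `P^1` is a one-element type -/
noncomputable instance uniqueI0 : Unique (I0.{u} 1) where
  default := ⟨⟨1, by decide⟩⟩
  uniq := by
    rintro ⟨⟨j, hj⟩⟩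
    have : j = 1 := by
      fin_cases j
      · exact absurd rfl hj
      · rfl
    subst this
    rfl

theorem exists_openImmersion_A1_P1 (K : Type u) [Field K] :
    ∃ (j : Spec (CommRingCat.of (Polynomial K)) ⟶ REq.P1K K), IsOpenImmersion j ∧
      j ≫ REq.P1K.toSpec K = Spec.map (CommRingCat.ofHom (algebraMap K (Polynomial K))) := by
  obtain ⟨θ, hθ⟩ := Groth.Agent.H18.ProjSubD.nonempty_projSpaceOver_iso 1 K
  let φ : MvPolynomial (I0.{u} 1) K ≃ₐ[K] Polynomial K := MvPolynomial.uniqueAlgEquiv K (I0.{u} 1)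
  let s : Spec (CommRingCat.of (Polynomial K)) ⟶ Spec (SS (CommRingCat.of K) (I0.{u} 1)) :=
    Spec.map (CommRingCat.ofHom (φ : MvPolynomial (I0.{u} 1) K →+* Polynomial K))
  haveI : IsIso (CommRingCat.ofHom (φ : MvPolynomial (I0.{u} 1) K →+* Polynomial K)) :=
    (inferInstance : IsIso φ.toRingEquiv.toCommRingCatIso.hom)
  haveI : IsIso s := by
    dsimp only [s]; infer_instance
  refine ⟨s ≫ c0 1 K ≫ θ.inv, inferInstance, ?_⟩
  have h1 : θ.inv ≫ REq.P1K.toSpec K = CohB1.ProjSpace.toSpec 1 K := by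
    rw [Iso.inv_comp_eq, hθ]
    rfl
  rw [Category.assoc, Category.assoc, h1, c0_toSpec]
  show Spec.map _ ≫ Spec.map _ = _
  rw [← Spec.map_comp]
  congr 1
  refine CommRingCat.hom_ext (RingHom.ext fun r => ?_)
  show φ (MvPolynomial.C r) = algebraMap K (Polynomial K) r
  exact φ.commutes r

end Groth.Agent.H40.RR_A1P1
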