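import Groth.Agent.H51.QuotKerPre
import Groth.Agent.H50.Fppf
import Groth.Agent.S0079
import Groth.Agent.S0083
import Mathlib.AlgebraicGeometry.ZariskisMainTheorem

/-!
# Separatedness descends along finite flat surjections on the source (helper40)

* `quasiSeparated_of_comp_fpqc`, `isSeparated_of_comp_finite`: for `m : U ⟶ M` flat surjective (finite / qc), separation
  properties of `m ≫ b` pass to `b` (the kernel pair `U ×_M U ⟶ U ×_B U` is the base change of the diagonal of `b`
  along the fpqc cover `U ×_B U ⟶ M ×_B M`).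
* `exists_local_lift_of_isQuotient`, `surjective_of_isQuotient`: the quotient map of an fppf sheaf quotient lifts points
  locally, and is surjective.
-/

set_option autoImplicit false
universe u
open CategoryTheory CategoryTheory.Limits AlgebraicGeometry

namespace Groth.Agent.H40.SepDesc

section Desc

variable {U M B : Scheme.{u}} (m : U ⟶ M) (b : M ⟶ B)

theorem fpqc_pullback_map [Flat m] [Surjective m] [QuasiCompact m] :
    (@Surjective ⊓ @Flat ⊓ @QuasiCompact : MorphismProperty Scheme.{u})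
      (pullback.map (m ≫ b) (m ≫ b) b b m m (𝟙 _) (Category.comp_id _) (Category.comp_id _)) :=
  MorphismProperty.pullbackMap (P := (@Surjective ⊓ @Flat ⊓ @QuasiCompact : MorphismProperty Scheme.{u}))
    (f := m ≫ b) (g := m ≫ b) (f' := b) (g' := b) (i₁ := m) (i₂ := m)
    ⟨⟨inferInstance, inferInstance⟩, inferInstance⟩ ⟨⟨inferInstance, inferInstance⟩, inferInstance⟩ rfl rfl

theorem quasiSeparated_of_comp_fpqc [Flat m] [Surjective m] [QuasiCompact m]
    [QuasiSeparated (m ≫ b)] : QuasiSeparated b := by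
  have hsq := pullback_map_diagonal_isPullback m m b
  have := Groth.Agent.S0079.result.{u}
  have hj : QuasiCompact (pullback.map m m (m ≫ b) (m ≫ b) (𝟙 _) (𝟙 _) b
      (Category.id_comp _).symm (Category.id_comp _).symm) := by
    have h1 : pullback.map m m (m ≫ b) (m ≫ b) (𝟙 _) (𝟙 _) b
        (Category.id_comp _).symm (Category.id_comp _).symm ≫ pullback.fst (m ≫ b) (m ≫ b) =
        pullback.fst m m := by
      rw [pullback.lift_fst, Category.comp_id]
    have : QuasiCompact (pullback.map m m (m ≫ b) (m ≫ b) (𝟙 _) (𝟙 _) b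
        (Category.id_comp _).symm (Category.id_comp _).symm ≫ pullback.fst (m ≫ b) (m ≫ b)) := by
      rw [h1]; infer_instance
    exact QuasiCompact.of_comp _ (pullback.fst (m ≫ b) (m ≫ b))
  constructor
  exact MorphismProperty.of_isPullback_of_descendsAlong (P := @QuasiCompact)
    (Q := (@Surjective ⊓ @Flat ⊓ @QuasiCompact : MorphismProperty Scheme.{u})) hsq.flip
    (fpqc_pullback_map m b) hj

theorem isSeparated_of_comp_finite [Flat m] [Surjective m] [IsFinite m]
    [IsSeparated (m ≫ b)] : IsSeparated b := by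
  have hsq := pullback_map_diagonal_isPullback m m b
  have := Groth.Agent.S0083.result.{u}
  have hj : IsClosedImmersion (pullback.map m m (m ≫ b) (m ≫ b) (𝟙 _) (𝟙 _) b
      (Category.id_comp _).symm (Category.id_comp _).symm) := by
    have h1 : pullback.map m m (m ≫ b) (m ≫ b) (𝟙 _) (𝟙 _) b
        (Category.id_comp _).symm (Category.id_comp _).symm ≫ pullback.fst (m ≫ b) (m ≫ b) =
        pullback.fst m m := by
      rw [pullback.lift_fst, Category.comp_id]
    have : IsProper (pullback.map m m (m ≫ b) (m ≫ b) (𝟙 _) (𝟙 _) b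
        (Category.id_comp _).symm (Category.id_comp _).symm ≫ pullback.fst (m ≫ b) (m ≫ b)) := by
      rw [h1]; infer_instance
    have hprop : IsProper (pullback.map m m (m ≫ b) (m ≫ b) (𝟙 _) (𝟙 _) b
        (Category.id_comp _).symm (Category.id_comp _).symm) :=
      IsProper.of_comp _ (pullback.fst (m ≫ b) (m ≫ b))
    have hmono : Mono (pullback.map m m (m ≫ b) (m ≫ b) (𝟙 _) (𝟙 _) b
        (Category.id_comp _).symm (Category.id_comp _).symm) :=
      MorphismProperty.of_isPullback (P := MorphismProperty.monomorphisms Scheme.{u}) hsq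
        (MorphismProperty.monomorphisms.infer_property _)
    exact (IsClosedImmersion.iff_isProper_and_mono _).mpr ⟨hprop, hmono⟩
  constructor
  exact MorphismProperty.of_isPullback_of_descendsAlong (P := @IsClosedImmersion)
    (Q := (@Surjective ⊓ @Flat ⊓ @QuasiCompact : MorphismProperty Scheme.{u})) hsq.flip
    (fpqc_pullback_map m b) hj

end Desc

section Quot

variable {S : Scheme.{u}} {R U M : Over S} {s t : R ⟶ U} {q : U ⟶ M}

theorem exists_local_lift_of_isQuotient (hq : QuotSh.IsQuotient Scheme.fppfPrecoverage s t q)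
    (T : Over S) (y : T ⟶ M) : ∃ Sg ∈ AlgSp.J S T, ∀ ⦃T' : Over S⦄ (f : T' ⟶ T), Sg f →
      ∃ x : T' ⟶ U, x ≫ q = f ≫ y := by
  obtain ⟨w, hiso⟩ := hq
  obtain ⟨δ, hδdef⟩ : ∃ δ : QuotSh.quot Scheme.fppfPrecoverage s t ⟶ (AlgSp.yon S).obj M,
      δ = QuotSh.quotDesc Scheme.fppfPrecoverage q w ≫
        (QuotSh.repIsoUliftYoneda Scheme.fppfPrecoverage M).hom := ⟨_, rfl⟩
  have hδiso : IsIso δ := by rw [hδdef]; infer_instance
  obtain ⟨qm, hqm⟩ : ∃ qm : (AlgSp.yon S).obj U ⟶ QuotSh.quot Scheme.fppfPrecoverage s t,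
      qm = Groth.Agent.H51.QuotKer.qmap s t := ⟨_, rfl⟩
  have hqmepi : Epi qm := by rw [hqm]; infer_instance
  have hkey : qm ≫ δ = (AlgSp.yon S).map q := by
    rw [hqm]
    have h1 : QuotSh.quotπ Scheme.fppfPrecoverage s t ≫
        QuotSh.quotDesc Scheme.fppfPrecoverage q w = QuotSh.repMap Scheme.fppfPrecoverage q :=
      coequalizer.π_desc _ _
    rw [hδdef, Category.assoc, ← Category.assoc (QuotSh.quotπ _ _ _), h1,
      Groth.Agent.H51.QuotKer.repIso_naturality, Iso.inv_hom_id_assoc]
  obtain ⟨Sg, hSg, hl⟩ := Groth.Agent.H50.exists_local_lift qm ((AlgSp.yon S).map y ≫ inv δ)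
  refine ⟨Sg, hSg, fun T' f hf => ?_⟩
  obtain ⟨x, hx⟩ := hl f hf
  obtain ⟨x₀, rfl⟩ := (AlgSp.yon S).map_surjective x
  refine ⟨x₀, (AlgSp.yon S).map_injective ?_⟩
  rw [Functor.map_comp, ← hkey, ← Category.assoc, hx, Category.assoc, Category.assoc,
    IsIso.inv_hom_id, Category.comp_id, ← Functor.map_comp]

theorem surjective_of_isQuotient (hq : QuotSh.IsQuotient Scheme.fppfPrecoverage s t q) :
    Surjective q.left := by
  constructor
  intro τ
  obtain ⟨Sg, hSg, hl⟩ := exists_local_lift_of_isQuotient hq M (𝟙 M)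
  obtain ⟨T', g, hg, -, -, t', ht'⟩ := Groth.Agent.H50.exists_fppf_of_mem_J hSg τ
  obtain ⟨x, hx⟩ := hl g hg
  refine ⟨x.left.base t', ?_⟩
  rw [Category.comp_id] at hx
  rw [← hx] at ht'
  exact ht'

end Quot

end Groth.Agent.H40.SepDesc
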