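import Mathlib
import Groth.Agent.H40.IndConsPt

/-!
# Rational points of `A · B` in a group scheme over an algebraically closed field — helper40
-/

set_option autoImplicit false
universe u
open CategoryTheory MonoidalCategory CartesianMonoidalCategory MonObj GrpObj AlgebraicGeometry CategoryTheory.Limits

namespace Groth.Agent.H40.ShearPt

variable {k : Type u} [Field k] [IsAlgClosed k]
variable (G : Over (Spec (CommRingCat.of k))) [GrpObj G]

/-- the rational point attached to a closed point -/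
noncomputable def ratPt [LocallyOfFiniteType G.hom] (z : G.left) (hz : IsClosed ({z} : Set G.left)) :
    𝟙_ (Over (Spec (CommRingCat.of k))) ⟶ G :=
  Over.homMk (pointOfClosedPoint G.hom z hz) (pointOfClosedPoint_comp G.hom z hz)

theorem ratPt_apply [LocallyOfFiniteType G.hom] (z : G.left) (hz : IsClosed ({z} : Set G.left))
    (a : ↥(𝟙_ (Over (Spec (CommRingCat.of k)))).left) : (ratPt G z hz).left.base a = z :=
  pointOfClosedPoint_apply G.hom z hz a

variable {G}
variable (zp : 𝟙_ (Over (Spec (CommRingCat.of k))) ⟶ G)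

/-- the constant morphism with value `zp` -/
noncomputable abbrev cst : G ⟶ G := toUnit G ≫ zp

/-- `g ↦ g⁻¹ z` -/
noncomputable abbrev iot : G ⟶ G := (𝟙 G)⁻¹ * cst zp

/-- `g ↦ z g⁻¹` -/
noncomputable abbrev iot' : G ⟶ G := cst zp * (𝟙 G)⁻¹

/-- `g ↦ (g, g⁻¹ z)` -/
noncomputable abbrev tau : G ⟶ G ⊗ G := lift (𝟙 G) (iot zp)

theorem comp_cst {P : Over (Spec (CommRingCat.of k))} (a : P ⟶ G) : a ≫ cst zp = toUnit P ≫ zp := by
  rw [← Category.assoc]
  congr 1
  exact toUnit_unique _ _

theorem comp_iot {P : Over (Spec (CommRingCat.of k))} (a : P ⟶ G) :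
    a ≫ iot zp = a⁻¹ * (toUnit P ≫ zp) := by
  rw [MonObj.comp_mul, GrpObj.comp_inv, Category.comp_id, comp_cst]

theorem comp_iot' {P : Over (Spec (CommRingCat.of k))} (a : P ⟶ G) :
    a ≫ iot' zp = (toUnit P ≫ zp) * a⁻¹ := by
  rw [MonObj.comp_mul, GrpObj.comp_inv, Category.comp_id, comp_cst]

theorem iot_iot' : iot zp ≫ iot' zp = 𝟙 G := by
  rw [comp_iot']
  change (toUnit G ≫ zp) * ((𝟙 G)⁻¹ * (toUnit G ≫ zp))⁻¹ = 𝟙 G
  group

theorem iot'_iot : iot' zp ≫ iot zp = 𝟙 G := by
  rw [comp_iot]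
  change ((toUnit G ≫ zp) * (𝟙 G)⁻¹)⁻¹ * (toUnit G ≫ zp) = 𝟙 G
  group

instance : IsIso (iot zp) := ⟨iot' zp, iot_iot' zp, iot'_iot zp⟩

theorem tau_mul : tau zp ≫ μ[G] = cst zp := by
  change lift (𝟙 G) (iot zp) ≫ μ[G] = cst zp
  rw [← Hom.mul_def]
  change 𝟙 G * ((𝟙 G)⁻¹ * cst zp) = cst zp
  group

/-- if `e ≫ μ` is the constant `z`, then `e` factors as `e ≫ fst ≫ tau` -/
theorem comp_fst_tau {P : Over (Spec (CommRingCat.of k))} (e : P ⟶ G ⊗ G)
    (he : e ≫ μ[G] = toUnit P ≫ zp) : (e ≫ fst G G) ≫ tau zp = e := by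
  have h1 : (e ≫ fst G G) * (e ≫ snd G G) = toUnit P ≫ zp := by
    rw [Hom.mul_def, ← he]
    congr 1
    apply CartesianMonoidalCategory.hom_ext <;> simp
  apply CartesianMonoidalCategory.hom_ext
  · rw [Category.assoc, lift_fst, Category.comp_id]
  · rw [Category.assoc, lift_snd, comp_iot, ← h1]
    group

end Groth.Agent.H40.ShearPt

namespace Groth.Agent.H40.ShearPt

variable {k : Type u} [Field k] [IsAlgClosed k]
variable {G : Over (Spec (CommRingCat.of k))} [GrpObj G]

/-- a point `w₀` of `G × G` with `μ(w₀)` the rational point `zp` is `tau (fst w₀)` -/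
theorem tau_fst_apply (zp : 𝟙_ (Over (Spec (CommRingCat.of k))) ⟶ G)
    (pt : ↥(𝟙_ (Over (Spec (CommRingCat.of k)))).left) (w₀ : ↥(G ⊗ G).left)
    (hw₀ : μ[G].left.base w₀ = zp.left.base pt) :
    (tau zp).left.base ((fst G G).left.base w₀) = w₀ := by
  obtain ⟨t, ht1, -⟩ := Scheme.Pullback.exists_preimage_pullback (f := μ[G].left) (g := zp.left)
    w₀ pt hw₀
  obtain ⟨q, hq⟩ : ∃ q, q = pullback.fst μ[G].left zp.left := ⟨_, rfl⟩
  have hsnd : pullback.snd μ[G].left zp.left = q ≫ (G ⊗ G).hom := by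
    have h1 : zp.left ≫ G.hom = 𝟙 _ := Over.w zp
    have h2 : μ[G].left ≫ G.hom = (G ⊗ G).hom := Over.w μ[G]
    calc pullback.snd μ[G].left zp.left
        = pullback.snd μ[G].left zp.left ≫ zp.left ≫ G.hom := by rw [h1, Category.comp_id]
      _ = (pullback.fst μ[G].left zp.left ≫ μ[G].left) ≫ G.hom := by
          rw [pullback.condition, Category.assoc]
      _ = q ≫ (G ⊗ G).hom := by rw [Category.assoc, h2, hq]
  let E' : Over (Spec (CommRingCat.of k)) := Over.mk (q ≫ (G ⊗ G).hom)
  let e' : E' ⟶ G ⊗ G := Over.homMk q rfl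
  have he : e' ≫ μ[G] = toUnit E' ≫ zp := by
    apply Over.OverMorphism.ext
    have h3 : (toUnit E').left = q ≫ (G ⊗ G).hom := Over.toUnit_left
    rw [Over.comp_left, Over.comp_left, h3, ← hsnd, ← pullback.condition, ← hq]
    rfl
  have h2 := comp_fst_tau zp e' he
  have h3 := congrArg (fun φ : E' ⟶ G ⊗ G => φ.left.base t) h2
  have h4 : e'.left.base t = w₀ := by
    change q.base t = w₀
    rw [hq]; exact ht1
  simp only [Over.comp_left, Scheme.Hom.comp_base, TopCat.hom_comp, ContinuousMap.comp_apply] at h3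
  rw [h4] at h3
  exact h3

theorem main [LocallyOfFiniteType G.hom] (A B : Set G.left)
    (hA : ProCons.IsIndConstructible A) (hB : ProCons.IsIndConstructible B)
    (z : G.left) (hz : IsClosed ({z} : Set G.left))
    (hzAB : z ∈ μ[G].left.base '' {w : ↥(G ⊗ G).left |
      (fst G G).left.base w ∈ A ∧ (snd G G).left.base w ∈ B}) :
    ∃ w : ↥(G ⊗ G).left, IsClosed ({w} : Set ↥(G ⊗ G).left) ∧ (fst G G).left.base w ∈ A ∧
      (snd G G).left.base w ∈ B ∧ μ[G].left.base w = z := by
  obtain ⟨w₀, ⟨hw₀A, hw₀B⟩, hw₀z⟩ := hzAB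
  obtain ⟨pt⟩ : Nonempty ↥(𝟙_ (Over (Spec (CommRingCat.of k)))).left := by
    change Nonempty ↥(Spec (CommRingCat.of k))
    infer_instance
  have hJ : JacobsonSpace G.left := LocallyOfFiniteType.jacobsonSpace G.hom
  obtain ⟨zp, hzp⟩ : ∃ zp : 𝟙_ (Over (Spec (CommRingCat.of k))) ⟶ G, ∀ a, zp.left.base a = z :=
    ⟨ratPt G z hz, ratPt_apply G z hz⟩
  have hF4 := tau_fst_apply zp pt w₀ (by rw [hw₀z, hzp])
  -- the set `iot⁻¹ B`
  have hoe : Topology.IsOpenEmbedding (iot zp).left.base := by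
    have : IsIso (iot zp).left := inferInstanceAs (IsIso ((Over.forget _).map (iot zp)))
    exact (iot zp).left.isOpenEmbedding
  have hB' : ProCons.IsIndConstructible ((iot zp).left.base ⁻¹' B) :=
    Groth.Agent.H17.isIndConstructible_preimage hB hoe
  have htau_snd : ∀ g : G.left, (snd G G).left.base ((tau zp).left.base g) = (iot zp).left.base g := by
    intro g
    have h := congrArg (fun φ : G ⟶ G => φ.left.base g) (lift_snd (𝟙 G) (iot zp))
    simpa only [Over.comp_left, Scheme.Hom.comp_base, TopCat.hom_comp,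
      ContinuousMap.comp_apply] using h
  have htau_fst : ∀ g : G.left, (fst G G).left.base ((tau zp).left.base g) = g := by
    intro g
    have h := congrArg (fun φ : G ⟶ G => φ.left.base g) (lift_fst (𝟙 G) (iot zp))
    simpa only [Over.comp_left, Scheme.Hom.comp_base, TopCat.hom_comp,
      ContinuousMap.comp_apply, Over.id_left, Scheme.Hom.id_base, TopCat.hom_id,
      ContinuousMap.id_apply] using h
  have htau_mul : ∀ g : G.left, μ[G].left.base ((tau zp).left.base g) = z := by
    intro g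
    have h := congrArg (fun φ : G ⟶ G => φ.left.base g) (tau_mul zp)
    simp only [Over.comp_left, Scheme.Hom.comp_base, TopCat.hom_comp,
      ContinuousMap.comp_apply] at h
    rw [h]
    exact hzp _
  have hg₀B : (fst G G).left.base w₀ ∈ (iot zp).left.base ⁻¹' B := by
    change (iot zp).left.base ((fst G G).left.base w₀) ∈ B
    rw [← htau_snd, hF4]
    exact hw₀B
  obtain ⟨g, hgA, hgB, hgc⟩ := Groth.Agent.H40.IndConsPt.exists_closedPoint_inter hA hB' hw₀A hg₀B
  refine ⟨(tau zp).left.base g, ?_, ?_, ?_, htau_mul g⟩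
  · -- closedness: image of the rational point `ratPt g ≫ tau`
    obtain ⟨gp, hgp⟩ : ∃ gp : 𝟙_ (Over (Spec (CommRingCat.of k))) ⟶ G, ∀ a, gp.left.base a = g :=
      ⟨ratPt G g hgc, ratPt_apply G g hgc⟩
    have hw : (gp ≫ tau zp).left ≫ (G ⊗ G).hom = 𝟙 _ := Over.w (gp ≫ tau zp)
    have hsub : Subsingleton ↥(Spec (CommRingCat.of k)) := inferInstance
    have hci : IsClosedImmersion (gp ≫ tau zp).left :=
      isClosedImmersion_of_comp_eq_id (G ⊗ G).hom (gp ≫ tau zp).left hw
    have hcl := (gp ≫ tau zp).left.isClosedEmbedding.isClosed_range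
    have hrange : Set.range (gp ≫ tau zp).left.base = {(tau zp).left.base g} := by
      ext y
      constructor
      · rintro ⟨a, rfl⟩
        rw [Set.mem_singleton_iff]
        change (tau zp).left.base (gp.left.base a) = _
        rw [hgp]
      · intro hy
        rw [Set.mem_singleton_iff] at hy
        refine ⟨pt, ?_⟩
        rw [hy]
        change (tau zp).left.base (gp.left.base pt) = _
        rw [hgp]
    rw [hrange] at hcl
    exact hcl
  · rw [htau_fst]; exact hgA
  · rw [htau_snd]; exact hgB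

end Groth.Agent.H40.ShearPt
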