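import Mathlib.Algebra.Category.ModuleCat.Stalk
import Mathlib.Algebra.Category.ModuleCat.Presheaf.Monoidal
import Mathlib.RingTheory.Flat.Basic
import Mathlib.Topology.Sheaves.Stalks

/-!
# Stalks of the sectionwise tensor product of presheaves of modules (helper40 library)

For a presheaf of commutative rings `R` on a topological space and presheaves of modules `N`, `M`,
we construct the comparison map `θ : (N ⊗ M)_x → N_x ⊗_{R_x} M_x` and prove that it is injective
(by constructing a retraction).  As a consequence, tensoring with a stalkwise flat presheaf of modules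
preserves stalkwise injectivity.
-/

set_option autoImplicit false
universe u
open CategoryTheory CategoryTheory.Limits Opposite TopologicalSpace MonoidalCategory TensorProduct

namespace Groth.Agent.H40.StalkTensor

section Desc

variable {X : TopCat.{u}} (F : X.Presheaf AddCommGrpCat.{u}) (x : X)

/-- Descend a compatible family of additive maps to the stalk. -/
noncomputable def stalkDesc (A : Type u) [AddCommGroup A]
    (c : ∀ (U : Opens X) (_ : x ∈ U), F.obj (op U) →+ A)
    (hc : ∀ (U V : Opens X) (i : V ⟶ U) (hx : x ∈ V) (s : F.obj (op U)),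
      c V hx (F.map i.op s) = c U (i.le hx) s) :
    F.stalk x →+ A :=
  (colimit.desc ((OpenNhds.inclusion x).op ⋙ F)
    { pt := AddCommGrpCat.of A
      ι :=
        { app := fun U => AddCommGrpCat.ofHom (c U.unop.1 U.unop.2)
          naturality := fun U V f => by
            ext s
            exact hc U.unop.1 V.unop.1 ((OpenNhds.inclusion x).map f.unop) V.unop.2 s } }).hom

lemma stalkDesc_germ (A : Type u) [AddCommGroup A]
    (c : ∀ (U : Opens X) (_ : x ∈ U), F.obj (op U) →+ A)
    (hc : ∀ (U V : Opens X) (i : V ⟶ U) (hx : x ∈ V) (s : F.obj (op U)),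
      c V hx (F.map i.op s) = c U (i.le hx) s)
    (U : Opens X) (hx : x ∈ U) (s : F.obj (op U)) :
    stalkDesc F x A c hc (F.germ U x hx s) = c U hx s := by
  have := colimit.ι_desc
    ({ pt := AddCommGrpCat.of A
       ι :=
        { app := fun U => AddCommGrpCat.ofHom (c U.unop.1 U.unop.2)
          naturality := fun U V f => by
            ext s
            exact hc U.unop.1 V.unop.1 ((OpenNhds.inclusion x).map f.unop) V.unop.2 s } } :
      Cocone ((OpenNhds.inclusion x).op ⋙ F)) (op ⟨U, hx⟩)
  exact congrArg (fun f => f.hom s) this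

end Desc

section Theta

variable {X : TopCat.{u}} {R : X.Presheaf CommRingCat.{u}}
  (N M : PresheafOfModules.{u} (R ⋙ forget₂ CommRingCat RingCat)) (x : X)

/-- The stalk of a presheaf of modules, as a type. -/
abbrev St : Type u := ↑(TopCat.Presheaf.stalk N.presheaf x)

/-- The stalk of the presheaf of rings, as a type. -/
abbrev Rx (R : X.Presheaf CommRingCat.{u}) (x : X) : Type u := ↑(R.stalk x)

/-- The germ map as an additive map on sections of a presheaf of modules. -/
noncomputable def gm (U : Opens X) (hx : x ∈ U) :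
    N.obj (op U) →+ St N x :=
  (TopCat.Presheaf.germ N.presheaf U x hx).hom

lemma gm_smul (U : Opens X) (hx : x ∈ U) (r : R.obj (op U)) (n : N.obj (op U)) :
    gm N x U hx (r • n) = R.germ U x hx r • gm N x U hx n :=
  PresheafOfModules.germ_smul N x U hx r n

lemma gm_res {U V : Opens X} (i : V ⟶ U) (hx : x ∈ V) (n : N.obj (op U)) :
    gm N x V hx (N.map i.op n) = gm N x U (i.le hx) n :=
  TopCat.Presheaf.germ_res_apply N.presheaf i x hx n

/-- The comparison map on sections over `U`. -/
noncomputable def thetaU (U : Opens X) (hx : x ∈ U) :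
    ((N.obj (op U) : Type u) ⊗[(R.obj (op U) : Type u)] (M.obj (op U) : Type u)) →+
      (St N x ⊗[Rx R x] St M x) :=
  TensorProduct.liftAddHom
    { toFun := fun n =>
        { toFun := fun m => gm N x U hx n ⊗ₜ[Rx R x] gm M x U hx m
          map_zero' := by simp
          map_add' := by intros; simp [tmul_add] }
      map_zero' := by ext; simp
      map_add' := by intros; ext; simp [add_tmul] }
    (fun r n m => by
      show gm N x U hx (r • n) ⊗ₜ[Rx R x] gm M x U hx m =
        gm N x U hx n ⊗ₜ[Rx R x] gm M x U hx (r • m)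
      rw [gm_smul, gm_smul, TensorProduct.smul_tmul])

lemma thetaU_tmul (U : Opens X) (hx : x ∈ U) (n : N.obj (op U)) (m : M.obj (op U)) :
    thetaU N M x U hx (n ⊗ₜ m) = gm N x U hx n ⊗ₜ gm M x U hx m := rfl

/-- Pure tensors as sections of the underlying abelian presheaf of `N ⊗ M`. -/
def tm (U : Opens X) (n : N.obj (op U)) (m : M.obj (op U)) : ↑((N ⊗ M).presheaf.obj (op U)) :=
  n ⊗ₜ m

variable {N M} in
lemma tm_induction {U : Opens X} {motive : ↑((N ⊗ M).presheaf.obj (op U)) → Prop}
    (zero : motive 0) (tmul : ∀ n m, motive (tm N M U n m))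
    (add : ∀ a b, motive a → motive b → motive (a + b)) (s : ↑((N ⊗ M).presheaf.obj (op U))) :
    motive s :=
  TensorProduct.induction_on s zero tmul add

lemma map_tm {U V : Opens X} (i : V ⟶ U) (n : N.obj (op U)) (m : M.obj (op U)) :
    (N ⊗ M).presheaf.map i.op (tm N M U n m) = tm N M V (N.map i.op n) (M.map i.op m) := rfl

/-- `thetaU` retyped on sections of the underlying abelian presheaf of `N ⊗ M`. -/
noncomputable def thetaU' (U : Opens X) (hx : x ∈ U) :
    ↑((N ⊗ M).presheaf.obj (op U)) →+ (St N x ⊗[Rx R x] St M x) :=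
  thetaU N M x U hx

lemma thetaU'_tm (U : Opens X) (hx : x ∈ U) (n : N.obj (op U)) (m : M.obj (op U)) :
    thetaU' N M x U hx (tm N M U n m) = gm N x U hx n ⊗ₜ gm M x U hx m := rfl

/-- The comparison map `(N ⊗ M)_x → N_x ⊗ M_x`. -/
noncomputable def theta : St (N ⊗ M) x →+ (St N x ⊗[Rx R x] St M x) :=
  stalkDesc (N ⊗ M).presheaf x _ (fun U hx => thetaU' N M x U hx) (by
    intro U V i hx s
    induction s using tm_induction with
    | zero => rw [map_zero, map_zero, map_zero]
    | tmul n m => rw [map_tm, thetaU'_tm, thetaU'_tm, gm_res, gm_res]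
    | add a b ha hb => rw [map_add, map_add, map_add, ha, hb])

lemma theta_germ_tm (U : Opens X) (hx : x ∈ U) (n : N.obj (op U)) (m : M.obj (op U)) :
    theta N M x (TopCat.Presheaf.germ (N ⊗ M).presheaf U x hx (tm N M U n m)) =
      gm N x U hx n ⊗ₜ gm M x U hx m :=
  stalkDesc_germ (N ⊗ M).presheaf x _ _ _ U hx (tm N M U n m)

/-- Restriction of sections of a presheaf of modules, as an additive map. -/
noncomputable def res {U V : Opens X} (h : V ≤ U) : N.obj (op U) →+ N.obj (op V) :=
  (N.presheaf.map (homOfLE h).op).hom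

lemma res_res {U V W : Opens X} (h : V ≤ U) (h' : W ≤ V) (n : N.obj (op U)) :
    res N h' (res N h n) = res N (h'.trans h) n := by
  have : N.presheaf.map (homOfLE h).op ≫ N.presheaf.map (homOfLE h').op =
      N.presheaf.map (homOfLE (h'.trans h)).op := by
    rw [← N.presheaf.map_comp]; rfl
  exact congrArg (fun f => f.hom n) this

lemma gm_res' {U V : Opens X} (h : V ≤ U) (hx : x ∈ V) (n : N.obj (op U)) :
    gm N x V hx (res N h n) = gm N x U (h hx) n :=
  TopCat.Presheaf.germ_res_apply N.presheaf (homOfLE h) x hx n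

lemma res_smul {U V : Opens X} (h : V ≤ U) (r : R.obj (op U)) (n : N.obj (op U)) :
    res N h (r • n) = (R.map (homOfLE h).op r) • res N h n :=
  N.map_smul (homOfLE h).op r n

lemma res_tm {U V : Opens X} (h : V ≤ U) (n : N.obj (op U)) (m : M.obj (op U)) :
    (N ⊗ M).presheaf.map (homOfLE h).op (tm N M U n m) = tm N M V (res N h n) (res M h m) := rfl

/-- The germ at `x` of `n|_W ⊗ m|_W`. -/
noncomputable def pair {U V : Opens X} (W : Opens X) (hW : x ∈ W) (hU : W ≤ U) (hV : W ≤ V)
    (n : N.obj (op U)) (m : M.obj (op V)) : St (N ⊗ M) x :=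
  TopCat.Presheaf.germ (N ⊗ M).presheaf W x hW (tm N M W (res N hU n) (res M hV m))

lemma pair_le {U V : Opens X} (W W' : Opens X) (hW' : x ∈ W') (h : W' ≤ W) (hU : W ≤ U) (hV : W ≤ V)
    (n : N.obj (op U)) (m : M.obj (op V)) :
    pair N M x W' hW' (h.trans hU) (h.trans hV) n m = pair N M x W (h hW') hU hV n m := by
  unfold pair
  rw [← TopCat.Presheaf.germ_res_apply (N ⊗ M).presheaf (homOfLE h) x hW', res_tm, res_res,
    res_res]

lemma pair_eq {U V : Opens X} (W W' : Opens X) (hW : x ∈ W) (hW' : x ∈ W') (hU : W ≤ U)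
    (hV : W ≤ V) (hU' : W' ≤ U) (hV' : W' ≤ V) (n : N.obj (op U)) (m : M.obj (op V)) :
    pair N M x W hW hU hV n m = pair N M x W' hW' hU' hV' n m := by
  rw [← pair_le N M x W (W ⊓ W') ⟨hW, hW'⟩ inf_le_left hU hV,
    ← pair_le N M x W' (W ⊓ W') ⟨hW, hW'⟩ inf_le_right hU' hV']

lemma pair_add_left {U V : Opens X} (W : Opens X) (hW : x ∈ W) (hU : W ≤ U) (hV : W ≤ V)
    (n n' : N.obj (op U)) (m : M.obj (op V)) :
    pair N M x W hW hU hV (n + n') m = pair N M x W hW hU hV n m + pair N M x W hW hU hV n' m := by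
  unfold pair
  have : tm N M W (res N hU (n + n')) (res M hV m) =
      tm N M W (res N hU n) (res M hV m) + tm N M W (res N hU n') (res M hV m) := by
    rw [map_add]
    exact TensorProduct.add_tmul (R := R.obj (op W)) (res N hU n) (res N hU n') (res M hV m)
  rw [this, map_add]

lemma pair_add_right {U V : Opens X} (W : Opens X) (hW : x ∈ W) (hU : W ≤ U) (hV : W ≤ V)
    (n : N.obj (op U)) (m m' : M.obj (op V)) :
    pair N M x W hW hU hV n (m + m') = pair N M x W hW hU hV n m + pair N M x W hW hU hV n m' := by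
  unfold pair
  have : tm N M W (res N hU n) (res M hV (m + m')) =
      tm N M W (res N hU n) (res M hV m) + tm N M W (res N hU n) (res M hV m') := by
    rw [map_add]
    exact TensorProduct.tmul_add (R := R.obj (op W)) (res N hU n) (res M hV m) (res M hV m')
  rw [this, map_add]

lemma pair_res_left {U U' V : Opens X} (h : U' ≤ U) (W : Opens X) (hW : x ∈ W) (hU : W ≤ U')
    (hV : W ≤ V) (n : N.obj (op U)) (m : M.obj (op V)) :
    pair N M x W hW hU hV (res N h n) m = pair N M x W hW (hU.trans h) hV n m := by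
  unfold pair
  rw [res_res]

lemma pair_res_right {U V V' : Opens X} (h : V' ≤ V) (W : Opens X) (hW : x ∈ W) (hU : W ≤ U)
    (hV : W ≤ V') (n : N.obj (op U)) (m : M.obj (op V)) :
    pair N M x W hW hU hV n (res M h m) = pair N M x W hW hU (hV.trans h) n m := by
  unfold pair
  rw [res_res]

omit N M in
lemma mi {U V : Opens X} (hU : x ∈ U) (hV : x ∈ V) : x ∈ U ⊓ V := ⟨hU, hV⟩

lemma exists_gm_eq (a : St N x) : ∃ (U : Opens X) (hU : x ∈ U) (n : N.obj (op U)),
    gm N x U hU n = a :=
  TopCat.Presheaf.exists_germ_eq N.presheaf a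

lemma St_addHom_ext {A : Type*} [AddCommGroup A] {f g : St N x →+ A}
    (h : ∀ (U : Opens X) (hU : x ∈ U) (n : N.obj (op U)), f (gm N x U hU n) = g (gm N x U hU n)) :
    f = g := by
  ext a
  obtain ⟨U, hU, n, rfl⟩ := exists_gm_eq N x a
  exact h U hU n

lemma presheaf_map_eq_res {U V : Opens X} (i : V ⟶ U) (n : N.obj (op U)) :
    N.presheaf.map i.op n = res N i.le n := rfl

/-- For a section `n` over `U`, the additive map `M_x → (N ⊗ M)_x`, `germ m ↦ germ (n ⊗ m)`. -/
noncomputable def psiR (U : Opens X) (hU : x ∈ U) (n : N.obj (op U)) : St M x →+ St (N ⊗ M) x :=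
  stalkDesc M.presheaf x _
    (fun V hV => AddMonoidHom.mk'
      (fun m => pair N M x (U ⊓ V) (mi x hU hV) inf_le_left inf_le_right n m)
      (fun m m' => pair_add_right N M x _ _ _ _ n m m'))
    (by
      intro V V' i hx m
      show pair N M x (U ⊓ V') _ _ _ n (M.presheaf.map i.op m) = pair N M x (U ⊓ V) _ _ _ n m
      rw [presheaf_map_eq_res, pair_res_right]
      exact pair_eq N M x _ _ _ _ _ _ _ _ n m)

lemma psiR_gm (U : Opens X) (hU : x ∈ U) (n : N.obj (op U)) (V : Opens X) (hV : x ∈ V)
    (m : M.obj (op V)) :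
    psiR N M x U hU n (gm M x V hV m) =
      pair N M x (U ⊓ V) (mi x hU hV) inf_le_left inf_le_right n m :=
  stalkDesc_germ M.presheaf x _ _ _ V hV m

/-- The biadditive map `N_x → M_x → (N ⊗ M)_x`. -/
noncomputable def psiL : St N x →+ (St M x →+ St (N ⊗ M) x) :=
  stalkDesc N.presheaf x _
    (fun U hU => AddMonoidHom.mk' (fun n => psiR N M x U hU n) (fun n n' => by
      apply St_addHom_ext
      intro V hV m
      rw [AddMonoidHom.add_apply, psiR_gm, psiR_gm, psiR_gm]
      exact pair_add_left N M x _ _ _ _ n n' m))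
    (by
      intro U U' i hx n
      show psiR N M x U' hx (N.presheaf.map i.op n) = psiR N M x U (i.le hx) n
      apply St_addHom_ext
      intro V hV m
      rw [psiR_gm, psiR_gm, presheaf_map_eq_res, pair_res_left]
      exact pair_eq N M x _ _ _ _ _ _ _ _ n m)

lemma psiL_gm (U : Opens X) (hU : x ∈ U) (n : N.obj (op U)) (V : Opens X) (hV : x ∈ V)
    (m : M.obj (op V)) :
    psiL N M x (gm N x U hU n) (gm M x V hV m) =
      pair N M x (U ⊓ V) (mi x hU hV) inf_le_left inf_le_right n m := by
  have : psiL N M x (gm N x U hU n) = psiR N M x U hU n :=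
    stalkDesc_germ N.presheaf x _ _ _ U hU n
  rw [this, psiR_gm]

lemma exists_rep₃ (r : Rx R x) (a : St N x) (b : St M x) :
    ∃ (W : Opens X) (hW : x ∈ W) (r₀ : R.obj (op W)) (n : N.obj (op W)) (m : M.obj (op W)),
      R.germ W x hW r₀ = r ∧ gm N x W hW n = a ∧ gm M x W hW m = b := by
  obtain ⟨W₁, h₁, r₁, rfl⟩ := TopCat.Presheaf.exists_germ_eq R r
  obtain ⟨W₂, h₂, n₂, rfl⟩ := exists_gm_eq N x a
  obtain ⟨W₃, h₃, m₃, rfl⟩ := exists_gm_eq M x b
  have l₁ : W₁ ⊓ W₂ ⊓ W₃ ≤ W₁ := inf_le_left.trans inf_le_left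
  have l₂ : W₁ ⊓ W₂ ⊓ W₃ ≤ W₂ := inf_le_left.trans inf_le_right
  have l₃ : W₁ ⊓ W₂ ⊓ W₃ ≤ W₃ := inf_le_right
  refine ⟨W₁ ⊓ W₂ ⊓ W₃, ⟨⟨h₁, h₂⟩, h₃⟩, R.map (homOfLE l₁).op r₁, res N l₂ n₂, res M l₃ m₃,
    ?_, gm_res' N x l₂ _ n₂, gm_res' M x l₃ _ m₃⟩
  exact TopCat.Presheaf.germ_res_apply R (homOfLE l₁) x _ r₁

/-- The retraction `N_x ⊗ M_x → (N ⊗ M)_x` of `theta`. -/
noncomputable def psi : (St N x ⊗[Rx R x] St M x) →+ St (N ⊗ M) x :=
  TensorProduct.liftAddHom (psiL N M x) (by
    intro r a b
    obtain ⟨W, hW, r₀, n, m, rfl, rfl, rfl⟩ := exists_rep₃ N M x r a b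
    rw [← gm_smul, ← gm_smul, psiL_gm, psiL_gm]
    unfold pair
    congr 1
    rw [res_smul, res_smul]
    exact TensorProduct.smul_tmul (R := R.obj (op (W ⊓ W))) (R' := R.obj (op (W ⊓ W))) _ _ _)

lemma psi_tmul (a : St N x) (b : St M x) : psi N M x (a ⊗ₜ b) = psiL N M x a b := rfl

lemma psi_theta (ξ : St (N ⊗ M) x) : psi N M x (theta N M x ξ) = ξ := by
  obtain ⟨U, hU, s, rfl⟩ := TopCat.Presheaf.exists_germ_eq (N ⊗ M).presheaf ξ
  induction s using tm_induction with
  | zero => rw [map_zero, map_zero, map_zero]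
  | tmul n m =>
    rw [theta_germ_tm, psi_tmul, psiL_gm]
    unfold pair
    rw [← res_tm]
    exact TopCat.Presheaf.germ_res_apply (N ⊗ M).presheaf (homOfLE inf_le_left) x _ _
  | add a b ha hb => rw [map_add, map_add, map_add, ha, hb]

lemma theta_injective : Function.Injective (theta N M x) :=
  Function.LeftInverse.injective (psi_theta N M x)

end Theta

section Nat

variable {X : TopCat.{u}} {R : X.Presheaf CommRingCat.{u}}
  {N' N : PresheafOfModules.{u} (R ⋙ forget₂ CommRingCat RingCat)} (φ : N' ⟶ N)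
  (M : PresheafOfModules.{u} (R ⋙ forget₂ CommRingCat RingCat)) (x : X)

/-- The map induced on stalks by a morphism of presheaves of modules, as an additive map. -/
noncomputable def stalkAdd : St N' x →+ St N x :=
  ((TopCat.Presheaf.stalkFunctor AddCommGrpCat x).map
    ((PresheafOfModules.toPresheaf _).map φ)).hom

lemma stalkAdd_gm (U : Opens X) (hU : x ∈ U) (n : N'.obj (op U)) :
    stalkAdd φ x (gm N' x U hU n) = gm N x U hU (φ.app (op U) n) :=
  TopCat.Presheaf.stalkFunctor_map_germ_apply U x hU ((PresheafOfModules.toPresheaf _).map φ) n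

/-- The map induced on stalks by a morphism of presheaves of modules, as a linear map. -/
noncomputable def stalkLin : St N' x →ₗ[Rx R x] St N x :=
  { stalkAdd φ x with
    map_smul' := by
      intro r a
      obtain ⟨W, hW, r₀, n, m, rfl, rfl, -⟩ := exists_rep₃ N' N' x r a a
      show stalkAdd φ x (R.germ W x hW r₀ • gm N' x W hW n) =
        R.germ W x hW r₀ • stalkAdd φ x (gm N' x W hW n)
      rw [← gm_smul, stalkAdd_gm, stalkAdd_gm, ← gm_smul]
      congr 1
      exact (φ.app (op W)).hom.map_smul r₀ n }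

lemma stalkLin_apply (a : St N' x) : stalkLin φ x a = stalkAdd φ x a := rfl

lemma whiskerRight_app_tm (U : Opens X) (n : N'.obj (op U)) (m : M.obj (op U)) :
    ((PresheafOfModules.toPresheaf _).map (φ ▷ M)).app (op U) (tm N' M U n m) =
      tm N M U (φ.app (op U) n) m := rfl

lemma theta_natural (ξ : St (N' ⊗ M) x) :
    theta N M x (stalkAdd (φ ▷ M) x ξ) =
      LinearMap.rTensor (St M x) (stalkLin φ x) (theta N' M x ξ) := by
  obtain ⟨U, hU, s, rfl⟩ := TopCat.Presheaf.exists_germ_eq (N' ⊗ M).presheaf ξ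
  induction s using tm_induction with
  | zero => rw [map_zero, map_zero, map_zero, map_zero, map_zero]
  | tmul n m =>
    rw [theta_germ_tm, LinearMap.rTensor_tmul, stalkLin_apply, stalkAdd_gm]
    have : stalkAdd (φ ▷ M) x (TopCat.Presheaf.germ (N' ⊗ M).presheaf U x hU (tm N' M U n m)) =
        TopCat.Presheaf.germ (N ⊗ M).presheaf U x hU (tm N M U (φ.app (op U) n) m) :=
      TopCat.Presheaf.stalkFunctor_map_germ_apply U x hU
        ((PresheafOfModules.toPresheaf _).map (φ ▷ M)) (tm N' M U n m)
    rw [this, theta_germ_tm]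
  | add a b ha hb => rw [map_add, map_add, map_add, map_add, map_add, ha, hb]

/-- Tensoring with a presheaf of modules whose stalk at `x` is flat preserves injectivity of the
map on stalks at `x`. -/
theorem stalkAdd_whiskerRight_injective (h : Function.Injective (stalkAdd φ x))
    [Module.Flat (Rx R x) (St M x)] : Function.Injective (stalkAdd (φ ▷ M) x) := by
  rw [injective_iff_map_eq_zero]
  intro ξ hξ
  have h1 : LinearMap.rTensor (St M x) (stalkLin φ x) (theta N' M x ξ) = 0 := by
    rw [← theta_natural, hξ, map_zero]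
  have h2 : Function.Injective (LinearMap.rTensor (St M x) (stalkLin φ x)) :=
    Module.Flat.rTensor_preserves_injective_linearMap (stalkLin φ x) h
  have h3 : theta N' M x ξ = 0 := h2 (by rw [h1, map_zero])
  exact theta_injective N' M x (by rw [h3, map_zero])

end Nat

section LocInj

variable {X : TopCat.{u}} {P Q : X.Presheaf AddCommGrpCat.{u}} (f : P ⟶ Q)

/-- A morphism of presheaves of abelian groups on a space which is injective on all stalks is
locally injective. -/
theorem isLocallyInjective_of_stalk_injective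
    (h : ∀ x : X, Function.Injective ((TopCat.Presheaf.stalkFunctor AddCommGrpCat x).map f)) :
    Presheaf.IsLocallyInjective (Opens.grothendieckTopology X) f where
  equalizerSieve_mem {U} s t hst := by
    intro x hx
    have h1 : P.germ U.unop x hx s = P.germ U.unop x hx t := by
      apply h x
      rw [TopCat.Presheaf.stalkFunctor_map_germ_apply, TopCat.Presheaf.stalkFunctor_map_germ_apply]
      exact congrArg _ hst
    obtain ⟨W, hW, iU, iV, e⟩ := TopCat.Presheaf.germ_eq P x hx hx s t h1
    refine ⟨W, iU, ?_, hW⟩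
    have : iU = iV := Subsingleton.elim _ _
    subst this
    exact e

end LocInj

end Groth.Agent.H40.StalkTensor
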