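import Groth.Agent.H40.SubgrpOpen
import Groth.Agent.H48.FppfSource
import Groth.Agent.H52.SrcFlat
import Groth.Agent.H49.SmoothDescent
import Groth.Agent.H49.SmoothFibreMap
import Groth.Agent.H48.UnramBC

/-!
# Pointwise descent of "flat + lfp", "smooth", "étale" along fppf base change, and the
translation argument for the largest open of a group scheme on which a homomorphism has such a
property (helper40)
-/

set_option autoImplicit false
universe u
open CategoryTheory CategoryTheory.Limits AlgebraicGeometry MorphismProperty MonoidalCategory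
  CartesianMonoidalCategory MonObj

namespace Groth.Agent.H40.SubgrpLocus

section Sch

/-- a property invariant under isomorphisms can be tested on the open range of an open immersion -/
theorem opensRange_of_immersion (P : MorphismProperty Scheme.{u}) [P.RespectsIso]
    {Z X Y : Scheme.{u}} (i : Z ⟶ X) [IsOpenImmersion i] (q : X ⟶ Y) (h : P (i ≫ q)) :
    P (i.opensRange.ι ≫ q) := by
  rw [← i.isoOpensRange_inv_comp, Category.assoc]
  exact (P.cancel_left_of_respectsIso _ _).mpr h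

/-- source descent of "flat and locally of finite presentation" along a flat, locally finitely
presented morphism, onto its (open) range -/
theorem exists_open_P0 {Z X Y : Scheme.{u}} (M : Z ⟶ X) (q : X ⟶ Y) [Flat M]
    [LocallyOfFinitePresentation M] (h : Flat (M ≫ q))
    (h' : LocallyOfFinitePresentation (M ≫ q)) :
    ∃ R : X.Opens, (∀ z, M.base z ∈ R) ∧ Flat (R.ι ≫ q) ∧
      LocallyOfFinitePresentation (R.ι ≫ q) := by
  let R : X.Opens := ⟨Set.range M.base, M.isOpenMap.isOpen_range⟩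
  have hr : Set.range M.base ⊆ Set.range R.ι.base := by
    rw [Scheme.Opens.range_ι]
    exact subset_rfl
  have hfac : IsOpenImmersion.lift R.ι M hr ≫ R.ι = M := IsOpenImmersion.lift_fac _ _ _
  have hsurj : Surjective (IsOpenImmersion.lift R.ι M hr) := by
    refine ⟨fun a => ?_⟩
    obtain ⟨z₀, hz₀⟩ := a.2
    refine ⟨z₀, ?_⟩
    apply R.ι.injective
    have := congrArg (fun m => m.base z₀) hfac
    simp only [Scheme.Hom.comp_base, TopCat.hom_comp, ContinuousMap.comp_apply] at this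
    rw [this]
    exact hz₀
  have hfl : Flat (IsOpenImmersion.lift R.ι M hr) := by
    have : Flat (IsOpenImmersion.lift R.ι M hr ≫ R.ι) := by rw [hfac]; infer_instance
    exact MorphismProperty.of_postcomp (W := @Flat) (W' := @IsOpenImmersion) _ R.ι
      inferInstance this
  have hlfp : LocallyOfFinitePresentation (IsOpenImmersion.lift R.ι M hr) := by
    have : LocallyOfFinitePresentation (IsOpenImmersion.lift R.ι M hr ≫ R.ι) := by
      rw [hfac]; infer_instance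
    exact MorphismProperty.of_postcomp (W := @LocallyOfFinitePresentation)
      (W' := @IsOpenImmersion) _ R.ι inferInstance this
  have h4 : Flat (IsOpenImmersion.lift R.ι M hr ≫ R.ι ≫ q) := by
    rw [← Category.assoc, hfac]
    exact h
  have h5 : LocallyOfFinitePresentation (IsOpenImmersion.lift R.ι M hr ≫ R.ι ≫ q) := by
    rw [← Category.assoc, hfac]
    exact h'
  refine ⟨R, fun z => ⟨z, rfl⟩, ?_, ?_⟩
  · exact Groth.Agent.H52.flat_of_comp_of_flat_of_surjective _ (R.ι ≫ q) h4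
  · exact Groth.Agent.H48.FppfSource.locallyOfFinitePresentation_of_comp_fppf
      (IsOpenImmersion.lift R.ι M hr) (R.ι ≫ q)

variable {X Y X' Y' : Scheme.{u}} {a : X' ⟶ X} {u' : X' ⟶ Y'} {u₀ : X ⟶ Y} {b : Y' ⟶ Y}

/-- pointwise descent of "flat + lfp" along an fppf base change -/
theorem pd_P0 (H : IsPullback a u' u₀ b) [Flat b] [LocallyOfFinitePresentation b] (x' : X')
    (U' : X'.Opens) (hx : x' ∈ U') (h1 : Flat (U'.ι ≫ u'))
    (h2 : LocallyOfFinitePresentation (U'.ι ≫ u')) :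
    ∃ U : X.Opens, a.base x' ∈ U ∧ Flat (U.ι ≫ u₀) ∧ LocallyOfFinitePresentation (U.ι ≫ u₀) := by
  have ha1 : Flat a := MorphismProperty.of_isPullback (P := @Flat) H.flip inferInstance
  have ha2 : LocallyOfFinitePresentation a :=
    MorphismProperty.of_isPullback (P := @LocallyOfFinitePresentation) H.flip inferInstance
  have e : (U'.ι ≫ a) ≫ u₀ = (U'.ι ≫ u') ≫ b := by
    rw [Category.assoc, H.w, Category.assoc]
  have h3 : Flat ((U'.ι ≫ a) ≫ u₀) := by rw [e]; infer_instance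
  have h4 : LocallyOfFinitePresentation ((U'.ι ≫ a) ≫ u₀) := by rw [e]; infer_instance
  obtain ⟨R, hR, hRf, hRp⟩ := exists_open_P0 (U'.ι ≫ a) u₀ h3 h4
  exact ⟨R, hR ⟨x', hx⟩, hRf, hRp⟩

/-- an open neighbourhood inside an open subscheme -/
theorem nhd_restrict {P : MorphismProperty Scheme.{u}} [P.IsStableUnderComposition]
    (hP : ∀ {A B : Scheme.{u}} (i : A ⟶ B), IsOpenImmersion i → P i)
    {A B : Scheme.{u}} (W : A.Opens) (U' : A.Opens) (f : A ⟶ B) (h : P (U'.ι ≫ f)) :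
    P ((W.ι ⁻¹ᵁ U').ι ≫ W.ι ≫ f) := by
  have e : (W.ι ⁻¹ᵁ U').ι ≫ W.ι ≫ f = (W.ι ∣_ U') ≫ U'.ι ≫ f := by
    rw [← Category.assoc, ← morphismRestrict_ι, Category.assoc]
  rw [e]
  exact P.comp_mem _ _ (hP _ inferInstance) h

/-- pointwise descent of smoothness along an fppf base change -/
theorem pd_smooth (H : IsPullback a u' u₀ b) [Flat b] [LocallyOfFinitePresentation b] (x' : X')
    (U' : X'.Opens) (hx : x' ∈ U') (h : Smooth (U'.ι ≫ u')) :
    ∃ U : X.Opens, a.base x' ∈ U ∧ Smooth (U.ι ≫ u₀) := by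
  obtain ⟨U₀, hxU₀, hfl, hlfp⟩ := pd_P0 H x' U' hx inferInstance inferInstance
  have H' : IsPullback (a ∣_ U₀) ((a ⁻¹ᵁ U₀).ι ≫ u') (U₀.ι ≫ u₀) b :=
    (isPullback_morphismRestrict a U₀).paste_vert H
  have hlfp' : LocallyOfFinitePresentation ((a ⁻¹ᵁ U₀).ι ≫ u') :=
    MorphismProperty.of_isPullback (P := @LocallyOfFinitePresentation) H' hlfp
  obtain ⟨x'', hx''⟩ : ∃ x'' : (a ⁻¹ᵁ U₀).toScheme, x'' = ⟨x', hxU₀⟩ := ⟨_, rfl⟩
  have hsm' : Smooth (((a ⁻¹ᵁ U₀).ι ⁻¹ᵁ U').ι ≫ (a ⁻¹ᵁ U₀).ι ≫ u') :=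
    nhd_restrict (P := @Smooth) (fun i _ => inferInstance) (a ⁻¹ᵁ U₀) U' u' h
  have hmem : x'' ∈ ((a ⁻¹ᵁ U₀).ι ≫ u').smoothLocus := by
    refine (Groth.Agent.H49.SmoothFibreMap.smooth_nhd_iff_mem_smoothLocus _ x'').mp
      ⟨(a ⁻¹ᵁ U₀).ι ⁻¹ᵁ U', ?_, hsm'⟩
    rw [hx'']
    exact hx
  have hflat : (b.stalkMap (((a ⁻¹ᵁ U₀).ι ≫ u').base x'')).hom.Flat := Flat.stalkMap b _
  have key := Groth.Agent.H49.SmoothDescent.mem_smoothLocus_of_isPullback_of_flat H' x'' hflat hmem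
  obtain ⟨U₁, hx₁, hsm⟩ :=
    (Groth.Agent.H49.SmoothFibreMap.smooth_nhd_iff_mem_smoothLocus (U₀.ι ≫ u₀) _).mpr key
  refine ⟨(U₁.ι ≫ U₀.ι).opensRange, ⟨⟨_, hx₁⟩, ?_⟩, ?_⟩
  · have e1 : ((a ∣_ U₀) ≫ U₀.ι).base x'' = ((a ⁻¹ᵁ U₀).ι ≫ a).base x'' := by
      rw [morphismRestrict_ι]
    have e2 : ((a ⁻¹ᵁ U₀).ι ≫ a).base x'' = a.base x' := by rw [hx'']; rfl
    exact e1.trans e2
  · refine opensRange_of_immersion @Smooth (U₁.ι ≫ U₀.ι) u₀ ?_
    rw [Category.assoc]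
    exact hsm

/-- base change of stalkwise unramifiedness along any cartesian square -/
theorem unram_stalk_of_isPullback {X S X' S' : Scheme.{u}} {f : X ⟶ S} {g : S' ⟶ S}
    {f' : X' ⟶ S'} {g' : X' ⟶ X} (H : IsPullback g' f' f g) [LocallyOfFiniteType f] (x' : X')
    (h : (f'.stalkMap x').hom.FormallyUnramified) :
    (f.stalkMap (g'.base x')).hom.FormallyUnramified := by
  have h1 : ((H.isoPullback.hom ≫ pullback.snd f g).stalkMap x').hom.FormallyUnramified :=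
    (Groth.Agent.H49.SmoothFibre.stalkMap_prop_congr_hom @RingHom.FormallyUnramified
      H.isoPullback_hom_snd x').mpr h
  have h2 := (Groth.Agent.H49.SmoothFibre.stalkMap_prop_comp_left
    RingHom.FormallyUnramified.respectsIso H.isoPullback.hom (pullback.snd f g) x').mp h1
  have h3 := (Groth.Agent.H48.unramified_stalk_baseChange_iff f g _).mp h2
  have e : (pullback.fst f g).base (H.isoPullback.hom.base x') = g'.base x' := by
    rw [← Scheme.Hom.comp_apply, H.isoPullback_hom_fst]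
  exact (Groth.Agent.H49.SmoothFibre.stalkMap_prop_congr_point @RingHom.FormallyUnramified
    f e).mp h3

/-- pointwise descent of étaleness along an fppf base change -/
theorem pd_etale (H : IsPullback a u' u₀ b) [Flat b] [LocallyOfFinitePresentation b] (x' : X')
    (U' : X'.Opens) (hx : x' ∈ U') (h : Etale (U'.ι ≫ u')) :
    ∃ U : X.Opens, a.base x' ∈ U ∧ Etale (U.ι ≫ u₀) := by
  obtain ⟨hfl', hun', hlf'⟩ := Etale.iff_flat_and_formallyUnramified.mp h
  obtain ⟨U₀, hxU₀, hfl, hlfp⟩ := pd_P0 H x' U' hx hfl' hlf'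
  have H' : IsPullback (a ∣_ U₀) ((a ⁻¹ᵁ U₀).ι ≫ u') (U₀.ι ≫ u₀) b :=
    (isPullback_morphismRestrict a U₀).paste_vert H
  have hlfp' : LocallyOfFinitePresentation ((a ⁻¹ᵁ U₀).ι ≫ u') :=
    MorphismProperty.of_isPullback (P := @LocallyOfFinitePresentation) H' hlfp
  obtain ⟨x'', hx''⟩ : ∃ x'' : (a ⁻¹ᵁ U₀).toScheme, x'' = ⟨x', hxU₀⟩ := ⟨_, rfl⟩
  have hun'' : FormallyUnramified (((a ⁻¹ᵁ U₀).ι ⁻¹ᵁ U').ι ≫ (a ⁻¹ᵁ U₀).ι ≫ u') :=
    nhd_restrict (P := @FormallyUnramified) (fun i _ => inferInstance) (a ⁻¹ᵁ U₀) U' u' hun'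
  have hst : (((a ⁻¹ᵁ U₀).ι ≫ u').stalkMap x'').hom.FormallyUnramified := by
    refine (Groth.Agent.H48.unramified_nhd_iff _ x'').mp ⟨(a ⁻¹ᵁ U₀).ι ⁻¹ᵁ U', ?_, hun''⟩
    rw [hx'']
    exact hx
  have key := unram_stalk_of_isPullback H' x'' hst
  obtain ⟨U₁, hx₁, hun⟩ := (Groth.Agent.H48.unramified_nhd_iff (U₀.ι ≫ u₀) _).mpr key
  refine ⟨(U₁.ι ≫ U₀.ι).opensRange, ⟨⟨_, hx₁⟩, ?_⟩, ?_⟩
  · have e1 : ((a ∣_ U₀) ≫ U₀.ι).base x'' = ((a ⁻¹ᵁ U₀).ι ≫ a).base x'' := by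
      rw [morphismRestrict_ι]
    have e2 : ((a ⁻¹ᵁ U₀).ι ≫ a).base x'' = a.base x' := by rw [hx'']; rfl
    exact e1.trans e2
  · refine opensRange_of_immersion @Etale (U₁.ι ≫ U₀.ι) u₀ ?_
    rw [Category.assoc]
    exact Etale.iff_flat_and_formallyUnramified.mpr ⟨inferInstance, hun, inferInstance⟩

end Sch

section Grp

variable {S : Scheme.{u}}

/-- translation of `T ⊗ K` by a `T`-point of the group `K` -/
noncomputable def trans {T K : Over S} [GrpObj K] (g : T ⟶ K) : T ⊗ K ≅ T ⊗ K where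
  hom := lift (fst T K) ((fst T K ≫ g) * snd T K)
  inv := lift (fst T K) ((fst T K ≫ g)⁻¹ * snd T K)
  hom_inv_id := by
    apply CartesianMonoidalCategory.hom_ext
    · rw [Category.assoc, lift_fst, lift_fst, Category.id_comp]
    · rw [Category.assoc, lift_snd, MonObj.comp_mul, GrpObj.comp_inv, ← Category.assoc, lift_fst,
        lift_snd, Category.id_comp]
      group
  inv_hom_id := by
    apply CartesianMonoidalCategory.hom_ext
    · rw [Category.assoc, lift_fst, lift_fst, Category.id_comp]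
    · rw [Category.assoc, lift_snd, MonObj.comp_mul, ← Category.assoc, lift_fst,
        lift_snd, Category.id_comp]
      group

theorem trans_hom {T K : Over S} [GrpObj K] (g : T ⟶ K) :
    (trans g).hom = lift (fst T K) ((fst T K ≫ g) * snd T K) := rfl

theorem trans_hom_snd {T K : Over S} [GrpObj K] (g : T ⟶ K) :
    (trans g).hom ≫ snd T K = (fst T K ≫ g) * snd T K := by
  rw [trans_hom, lift_snd]

theorem trans_whisker {T G H : Over S} [GrpObj G] [GrpObj H] (u : G ⟶ H) [IsMonHom u]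
    (g : T ⟶ G) : (trans g).hom ≫ (T ◁ u) = (T ◁ u) ≫ (trans (g ≫ u)).hom := by
  rw [trans_hom, trans_hom]
  apply CartesianMonoidalCategory.hom_ext
  · rw [Category.assoc, Category.assoc, whiskerLeft_fst, lift_fst, lift_fst, whiskerLeft_fst]
  · rw [Category.assoc, Category.assoc, whiskerLeft_snd, lift_snd_assoc, lift_snd,
      MonObj.mul_comp, MonObj.comp_mul, whiskerLeft_fst_assoc, whiskerLeft_snd, Category.assoc]

variable {G H : Over S} [GrpObj G] [GrpObj H] (u : G ⟶ H) [IsMonHom u]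

/-- **Translation step**: if the `P`-locus `V` of `u` detects `P`-points of `T ◁ u`, then it is
stable under left translation by `T`-points of `G`. -/
theorem translate_mem (P : MorphismProperty Scheme.{u}) [P.RespectsIso]
    [P.IsStableUnderBaseChange] (V : G.left.Opens) (hV : P (V.ι ≫ u.left)) (T : Over S)
    (hD : ∀ (x' : (T ⊗ G).left) (U' : (T ⊗ G).left.Opens), x' ∈ U' →
      P (U'.ι ≫ (T ◁ u).left) → (snd T G).left.base x' ∈ V)
    (g : T ⟶ G) (z : (T ⊗ G).left) (hz : (snd T G).left.base z ∈ V) :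
    ((fst T G ≫ g) * snd T G).left.base z ∈ V := by
  have pt : ∀ {A B C : Over S} (a : A ⟶ B) (b : B ⟶ C) (c : A ⟶ C) (_ : a ≫ b = c) (z : A.left),
      b.left.base (a.left.base z) = c.left.base z := by
    intro A B C a b c h z
    subst h
    rfl
  have H0 : IsPullback (snd T G).left (T ◁ u).left u.left (snd T H).left :=
    (Groth.Agent.H40.MaxOpen.sq_snd' (G := T) u).map (Over.forget S)
  obtain ⟨a, hadef⟩ : ∃ a, a = (snd T G).left := ⟨_, rfl⟩
  obtain ⟨u', hu'def⟩ : ∃ u', u' = (T ◁ u).left := ⟨_, rfl⟩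
  obtain ⟨τ, hτdef⟩ : ∃ τ : T ⊗ G ≅ T ⊗ G, τ = trans g := ⟨_, rfl⟩
  obtain ⟨σ, hσdef⟩ : ∃ σ : T ⊗ H ≅ T ⊗ H, σ = trans (g ≫ u) := ⟨_, rfl⟩
  have hτσ : τ.hom.left ≫ u' = u' ≫ σ.hom.left := by
    rw [hu'def, hτdef, hσdef, ← Over.comp_left, ← Over.comp_left, trans_whisker]
  have hτsnd : τ.hom ≫ snd T G = (fst T G ≫ g) * snd T G := by rw [hτdef]; exact trans_hom_snd g
  have hinvhom : τ.inv.left ≫ τ.hom.left = 𝟙 _ := by
    rw [← Over.comp_left, τ.inv_hom_id]; rfl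
  have hτiso : IsIso τ.inv.left := inferInstanceAs (IsIso ((Over.forget S).map τ.inv))
  have hσiso : IsIso σ.hom.left := inferInstanceAs (IsIso ((Over.forget S).map σ.hom))
  rw [← hadef, ← hu'def] at H0
  rw [← hadef] at hz
  have H' : IsPullback (a ∣_ V) ((a ⁻¹ᵁ V).ι ≫ u') (V.ι ≫ u.left) (snd T H).left :=
    (isPullback_morphismRestrict a V).paste_vert H0
  have hP1 : P ((a ⁻¹ᵁ V).ι ≫ u') := MorphismProperty.of_isPullback (P := P) H' hV
  have hP2 : P ((τ.inv.left ⁻¹ᵁ (a ⁻¹ᵁ V)).ι ≫ u') := by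
    have e : (τ.inv.left ⁻¹ᵁ (a ⁻¹ᵁ V)).ι ≫ u' =
        (τ.inv.left ∣_ (a ⁻¹ᵁ V)) ≫ ((a ⁻¹ᵁ V).ι ≫ u') ≫ σ.hom.left := by
      calc (τ.inv.left ⁻¹ᵁ (a ⁻¹ᵁ V)).ι ≫ u'
          = (τ.inv.left ⁻¹ᵁ (a ⁻¹ᵁ V)).ι ≫ (τ.inv.left ≫ τ.hom.left) ≫ u' := by
            rw [hinvhom, Category.id_comp]
        _ = ((τ.inv.left ⁻¹ᵁ (a ⁻¹ᵁ V)).ι ≫ τ.inv.left) ≫ τ.hom.left ≫ u' := by
            simp only [Category.assoc]
        _ = ((τ.inv.left ∣_ (a ⁻¹ᵁ V)) ≫ (a ⁻¹ᵁ V).ι) ≫ u' ≫ σ.hom.left := by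
            rw [morphismRestrict_ι, hτσ]
        _ = _ := by simp only [Category.assoc]
    rw [e, P.cancel_left_of_respectsIso, P.cancel_right_of_respectsIso]
    exact hP1
  have hmem : τ.hom.left.base z ∈ τ.inv.left ⁻¹ᵁ (a ⁻¹ᵁ V) := by
    show a.base (τ.inv.left.base (τ.hom.left.base z)) ∈ V
    have : τ.inv.left.base (τ.hom.left.base z) = z := by
      rw [pt τ.hom τ.inv (𝟙 _) τ.hom_inv_id]
      rfl
    rw [this]
    exact hz
  have h1 := hD (τ.hom.left.base z) _ hmem (hu'def ▸ hP2)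
  rw [pt _ _ _ hτsnd] at h1
  exact h1

/-- **Subgroup properties from translation stability.** -/
theorem subgrp_of_translate (V : G.left.Opens) (hVo : UniversallyOpen (V.ι ≫ G.hom))
    (hTP : ∀ (g : Over.mk (V.ι ≫ G.hom) ⟶ G) (z : (Over.mk (V.ι ≫ G.hom) ⊗ G).left),
      (snd (Over.mk (V.ι ≫ G.hom)) G).left.base z ∈ V →
      ((fst (Over.mk (V.ι ≫ G.hom)) G ≫ g) * snd (Over.mk (V.ι ≫ G.hom)) G).left.base z ∈ V) :
    IsOpen (G.hom.base '' (V : Set G.left)) ∧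
    (∀ g ∈ V, ∀ p : ↥(𝟙_ (Over S)).left, (𝟙_ (Over S)).hom.base p = G.hom.base g →
      η[G].left.base p ∈ V) ∧
    (∀ g ∈ V, ι[G].left.base g ∈ V) ∧
    (∀ z : ↥(G ⊗ G).left, (fst G G).left.base z ∈ V → (snd G G).left.base z ∈ V →
      μ[G].left.base z ∈ V) := by
  have pt : ∀ {A B C : Over S} (a : A ⟶ B) (b : B ⟶ C) (c : A ⟶ C) (_ : a ≫ b = c) (z : A.left),
      b.left.base (a.left.base z) = c.left.base z := by
    intro A B C a b c h z
    subst h
    rfl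
  obtain ⟨T, hTdef⟩ : ∃ T : Over S, T = Over.mk (V.ι ≫ G.hom) := ⟨_, rfl⟩
  subst hTdef
  obtain ⟨j, hjdef⟩ : ∃ j : Over.mk (V.ι ≫ G.hom) ⟶ G, j = CategoryTheory.Over.homMk V.ι rfl := ⟨_, rfl⟩
  have hjl : j.left = V.ι := by rw [hjdef]; rfl
  have hunit : ∀ g ∈ V, η[G].left.base (G.hom.base g) ∈ V := by
    intro g hg
    have e : lift (𝟙 (Over.mk (V.ι ≫ G.hom))) j ≫
        ((fst (Over.mk (V.ι ≫ G.hom)) G ≫ j⁻¹) * snd (Over.mk (V.ι ≫ G.hom)) G) =
        toUnit _ ≫ η[G] := by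
      rw [MonObj.comp_mul, lift_fst_assoc, lift_snd, Category.id_comp, inv_mul_cancel]
      rfl
    have e0 : lift (𝟙 (Over.mk (V.ι ≫ G.hom))) j ≫ snd (Over.mk (V.ι ≫ G.hom)) G = j :=
      lift_snd _ _
    have h1 := hTP j⁻¹ ((lift (𝟙 (Over.mk (V.ι ≫ G.hom))) j).left.base ⟨g, hg⟩) (by
      rw [pt _ _ _ e0, hjl]
      exact hg)
    rw [pt _ _ _ e] at h1
    exact h1
  have hinv : ∀ g ∈ V, ι[G].left.base g ∈ V := by
    intro g hg
    have e : lift (𝟙 (Over.mk (V.ι ≫ G.hom))) (toUnit _ ≫ η[G]) ≫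
        ((fst (Over.mk (V.ι ≫ G.hom)) G ≫ j⁻¹) * snd (Over.mk (V.ι ≫ G.hom)) G) =
        j ≫ ι[G] := by
      rw [MonObj.comp_mul, lift_fst_assoc, lift_snd, Category.id_comp]
      have : toUnit (Over.mk (V.ι ≫ G.hom)) ≫ η[G] = (1 : Over.mk (V.ι ≫ G.hom) ⟶ G) := rfl
      rw [this, _root_.mul_one, Hom.inv_def]
    have e0 : lift (𝟙 (Over.mk (V.ι ≫ G.hom))) (toUnit _ ≫ η[G]) ≫
        snd (Over.mk (V.ι ≫ G.hom)) G = toUnit _ ≫ η[G] := lift_snd _ _
    have h1 := hTP j⁻¹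
      ((lift (𝟙 (Over.mk (V.ι ≫ G.hom))) (toUnit _ ≫ η[G])).left.base ⟨g, hg⟩) (by
      rw [pt _ _ _ e0]
      exact hunit g hg)
    rw [pt _ _ _ e] at h1
    have e2 : (j ≫ ι[G]).left.base ⟨g, hg⟩ = ι[G].left.base g := by
      rw [Over.comp_left, hjl]
      rfl
    rw [e2] at h1
    exact h1
  refine ⟨?_, ?_, hinv, ?_⟩
  · have : G.hom.base '' (V : Set G.left) = Set.range (V.ι ≫ G.hom).base := by
      ext s
      constructor
      · rintro ⟨g, hg, rfl⟩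
        exact ⟨⟨g, hg⟩, rfl⟩
      · rintro ⟨v, rfl⟩
        exact ⟨v.1, v.2, rfl⟩
    rw [this]
    exact (V.ι ≫ G.hom).isOpenMap.isOpen_range
  · intro g hg p hp
    have hp' : p = G.hom.base g := hp
    rw [hp']
    exact hunit g hg
  · intro z hz1 hz2
    have hz : z ∈ Set.range (j ⊗ₘ 𝟙 G).left.base := by
      rw [Over.tensorHom_left, Scheme.Pullback.range_map]
      refine ⟨?_, ?_⟩
      · rw [hjl, Scheme.Opens.range_ι]
        exact hz1
      · exact ⟨_, rfl⟩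
    obtain ⟨z', rfl⟩ := hz
    have e0 : (j ⊗ₘ 𝟙 G) ≫ snd G G = snd (Over.mk (V.ι ≫ G.hom)) G := by
      rw [tensorHom_snd, Category.comp_id]
    have e1 : (j ⊗ₘ 𝟙 G) ≫ μ[G] =
        (fst (Over.mk (V.ι ≫ G.hom)) G ≫ j) * snd (Over.mk (V.ι ≫ G.hom)) G := by
      rw [Hom.mul_def]
      congr 1
    rw [pt _ _ _ e0] at hz2
    have h1 := hTP j z' hz2
    rw [pt _ _ _ e1]
    exact h1

end Grp

end Groth.Agent.H40.SubgrpLocus
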