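import Groth.Agent.H40.MaxOpen3
import Groth.Agent.H40.TorsorSq

/-!
# Largest open of the source on which a homomorphism is universally open (helper40)

Translation argument on the source: if `V` is the largest open of `G` on which `u : G ⟶ H` is
universally open then products of "universally open families" of points of `V` stay in `V`.
-/

set_option autoImplicit false
universe u
open CategoryTheory CategoryTheory.Limits AlgebraicGeometry MorphismProperty MonoidalCategory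
  CartesianMonoidalCategory MonObj

namespace Groth.Agent.H40.SubgrpOpen

/-- universal openness descends along a surjection on the source. -/
theorem universallyOpen_of_comp_surjective {X Y Z : Scheme.{u}} (f : X ⟶ Y) (g : Y ⟶ Z)
    [Surjective f] (h : UniversallyOpen (f ≫ g)) : UniversallyOpen g := by
  rw [UniversallyOpen.eq]
  intro Y' Z' i₁ i₂ g' hsq
  have hsq' : IsPullback (pullback.snd f i₁ ≫ g') (pullback.fst f i₁) i₂ (f ≫ g) :=
    (IsPullback.of_hasPullback f i₁).flip.paste_horiz hsq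
  have h1 : UniversallyOpen (pullback.snd f i₁ ≫ g') :=
    MorphismProperty.of_isPullback (P := @UniversallyOpen) hsq'.flip h
  have h2 : IsOpenMap (pullback.snd f i₁ ≫ g').base := (pullback.snd f i₁ ≫ g').isOpenMap
  have hs : Function.Surjective (pullback.snd f i₁).base := (pullback.snd f i₁).surjective
  intro W hW
  have : g'.base '' W = (pullback.snd f i₁ ≫ g').base '' ((pullback.snd f i₁).base ⁻¹' W) := by
    ext y
    constructor
    · rintro ⟨w, hw, rfl⟩
      obtain ⟨x, rfl⟩ := hs w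
      exact ⟨x, hw, rfl⟩
    · rintro ⟨x, hx, rfl⟩
      exact ⟨_, hx, rfl⟩
  rw [this]
  exact h2 _ (hW.preimage (pullback.snd f i₁).continuous)

variable {S : Scheme.{u}}

theorem sq_prod' {X K : Over S} [GrpObj K] (f : X ⟶ K) :
    IsPullback (fst X K) ((f ▷ K) ≫ μ[K]) (toUnit X) (toUnit K) := by
  refine Groth.Agent.H40.FpqcFam.isPullback_of_pts (toUnit_unique _ _) ?_
  intro T x y _
  refine ⟨lift x ((x ≫ f)⁻¹ * y), ⟨lift_fst _ _, ?_⟩, ?_⟩
  · rw [lift_whiskerRight_assoc, ← Hom.mul_def]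
    group
  · rintro q ⟨hq1, hq2⟩
    have hq : q = lift (q ≫ fst X K) (q ≫ snd X K) := by
      apply CartesianMonoidalCategory.hom_ext
      · rw [lift_fst]
      · rw [lift_snd]
    have hqm : ((q ≫ fst X K) ≫ f) * (q ≫ snd X K) = y := by
      rw [Hom.mul_def, ← lift_whiskerRight_assoc, ← hq, hq2]
    apply CartesianMonoidalCategory.hom_ext
    · rw [lift_fst, hq1]
    · rw [lift_snd, ← hqm, hq1]
      group

/-- `(x₁, x₂) ↦ f₁(x₁)·f₂(x₂)` is universally open when `X₁ → S` and `f₂` are. -/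
theorem univOpen_mul {X₁ X₂ K : Over S} [GrpObj K] (f₁ : X₁ ⟶ K) (f₂ : X₂ ⟶ K)
    (h₁ : UniversallyOpen X₁.hom) (h₂ : UniversallyOpen f₂.left) :
    UniversallyOpen ((X₁ ◁ f₂) ≫ (f₁ ▷ K) ≫ μ[K]).left := by
  have SQa : IsPullback (snd X₁ X₂).left (X₁ ◁ f₂).left f₂.left (snd X₁ K).left :=
    (Groth.Agent.H40.MaxOpen.sq_snd' (G := X₁) f₂).map (Over.forget S)
  have SQb : IsPullback (fst X₁ K).left ((f₁ ▷ K) ≫ μ[K]).left (toUnit X₁).left (toUnit K).left :=
    (sq_prod' f₁).map (Over.forget S)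
  have ha : UniversallyOpen (X₁ ◁ f₂).left :=
    MorphismProperty.of_isPullback (P := @UniversallyOpen) SQa h₂
  have hb : UniversallyOpen ((f₁ ▷ K) ≫ μ[K]).left :=
    MorphismProperty.of_isPullback (P := @UniversallyOpen) SQb h₁
  rw [Over.comp_left]
  infer_instance

variable {G H : Over S} [GrpObj G] [GrpObj H] (u : G ⟶ H) [IsMonHom u]

theorem comp_mul_hom {X₁ X₂ : Over S} (f₁ : X₁ ⟶ G) (f₂ : X₂ ⟶ G) :
    ((X₁ ◁ f₂) ≫ (f₁ ▷ G) ≫ μ[G]) ≫ u = (X₁ ◁ (f₂ ≫ u)) ≫ ((f₁ ≫ u) ▷ H) ≫ μ[H] := by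
  apply AlgGrp.Action.hom_ext_lift₂
  intro T a b
  simp only [Category.assoc]
  rw [lift_whiskerLeft_assoc, lift_whiskerRight_assoc, lift_whiskerLeft_assoc,
    lift_whiskerRight_assoc, ← Category.assoc, ← Hom.mul_def, MonObj.mul_comp, ← Hom.mul_def,
    Category.assoc, Category.assoc]

/-- **Key**: products of universally open families of points of the largest open `V` on which
`u` is universally open stay in `V`. -/
theorem mul_mem (V : G.left.Opens)
    (hmax : ∀ W : G.left.Opens, UniversallyOpen (W.ι ≫ u.left) → W ≤ V)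
    {X₁ X₂ : Over S} (f₁ : X₁ ⟶ G) (f₂ : X₂ ⟶ G)
    (h₁ : UniversallyOpen X₁.hom) (h₂ : UniversallyOpen f₂.left)
    (h₃ : UniversallyOpen (f₂ ≫ u).left) (z : (X₁ ⊗ X₂).left) :
    ((X₁ ◁ f₂) ≫ (f₁ ▷ G) ≫ μ[G]).left.base z ∈ V := by
  have hMo : UniversallyOpen ((X₁ ◁ f₂) ≫ (f₁ ▷ G) ≫ μ[G]).left := univOpen_mul f₁ f₂ h₁ h₂
  have hMu : UniversallyOpen (((X₁ ◁ f₂) ≫ (f₁ ▷ G) ≫ μ[G]) ≫ u).left := by
    rw [comp_mul_hom]
    exact univOpen_mul (f₁ ≫ u) (f₂ ≫ u) h₁ h₃
  obtain ⟨M, hM⟩ : ∃ M, M = (X₁ ◁ f₂) ≫ (f₁ ▷ G) ≫ μ[G] := ⟨_, rfl⟩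
  rw [← hM] at hMo hMu ⊢
  let V' : G.left.Opens := ⟨Set.range M.left.base, M.left.isOpenMap.isOpen_range⟩
  have hr : Set.range M.left.base ⊆ Set.range V'.ι.base := by
    rw [Scheme.Opens.range_ι]
    exact subset_rfl
  have hfac : IsOpenImmersion.lift V'.ι M.left hr ≫ V'.ι = M.left :=
    IsOpenImmersion.lift_fac _ _ _
  have : Surjective (IsOpenImmersion.lift V'.ι M.left hr) := by
    refine ⟨fun a => ?_⟩
    obtain ⟨z₀, hz₀⟩ := a.2
    refine ⟨z₀, ?_⟩
    apply V'.ι.injective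
    have := congrArg (fun m => m.base z₀) hfac
    simp only [Scheme.Hom.comp_base, TopCat.hom_comp, ContinuousMap.comp_apply] at this
    rw [this]
    exact hz₀
  have h4 : UniversallyOpen (IsOpenImmersion.lift V'.ι M.left hr ≫ V'.ι ≫ u.left) := by
    rw [← Category.assoc, hfac]
    exact hMu
  have h5 := universallyOpen_of_comp_surjective _ (V'.ι ≫ u.left) h4
  exact hmax V' h5 ⟨z, rfl⟩

end Groth.Agent.H40.SubgrpOpen
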