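import Mathlib

/-! Ring theory core for S15609: a finite type `k`-algebra `B` with a single prime ideal,
a `k`-point `β`, and no nontrivial tangent vector at `β` is `k` itself. -/

set_option autoImplicit false
universe u

namespace Groth.Agent.H40.TanKer

open TrivSqZeroExt

variable {k : Type u} [Field k] {B : Type u} [CommRing B] [Algebra k B]

/-- All `k`-algebra maps `B → k` agree if `B` has only one prime ideal. -/
theorem algHom_unique (hprime : ∀ p q : Ideal B, p.IsPrime → q.IsPrime → p = q)
    (β γ : B →ₐ[k] k) : γ = β := by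
  have hker : RingHom.ker γ.toRingHom = RingHom.ker β.toRingHom :=
    hprime _ _ (RingHom.ker_isPrime _) (RingHom.ker_isPrime _)
  ext b
  have h1 : b - algebraMap k B (β b) ∈ RingHom.ker β.toRingHom := by
    simp [RingHom.mem_ker]
  rw [← hker] at h1
  have h2 : γ (b - algebraMap k B (β b)) = 0 := h1
  simpa [sub_eq_zero] using h2

/-- The dual-number-valued point attached to a functional killing `𝔪²`. -/
noncomputable def tanHom (β : B →ₐ[k] k) (l : B →ₗ[k] k)
    (hl : ∀ x y : B, β x = 0 → β y = 0 → l (x * y) = 0) : B →ₐ[k] DualNumber k :=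
  AlgHom.ofLinearMap
    ((TrivSqZeroExt.inlAlgHom k k k).toLinearMap ∘ₗ β.toLinearMap +
      (TrivSqZeroExt.inrHom k k) ∘ₗ (l - (l 1) • β.toLinearMap))
    (by
      ext <;> simp)
    (by
      intro b c
      have key : l (b * c) = β b * l c + β c * l b - β b * β c * l 1 := by
        have hb : β (b - algebraMap k B (β b)) = 0 := by simp
        have hc : β (c - algebraMap k B (β c)) = 0 := by simp
        have := hl _ _ hb hc
        have e : (b - algebraMap k B (β b)) * (c - algebraMap k B (β c)) =
            b * c - (β b) • c - (β c) • b + (β b * β c) • (1 : B) := by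
          simp only [Algebra.smul_def, map_mul]
          ring
        rw [e] at this
        simp only [map_add, map_sub, map_smul, smul_eq_mul] at this
        linear_combination this
      ext
      · simp
      · simp [key]
        ring)

theorem tanHom_snd (β : B →ₐ[k] k) (l : B →ₗ[k] k)
    (hl : ∀ x y : B, β x = 0 → β y = 0 → l (x * y) = 0) (b : B) :
    (tanHom β l hl b).snd = l b - l 1 * β b := by
  simp [tanHom]

theorem injective_of_tangent [Algebra.FiniteType k B] (β : B →ₐ[k] k)
    (hprime : ∀ p q : Ideal B, p.IsPrime → q.IsPrime → p = q)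
    (htan : ∀ φ : B →ₐ[k] DualNumber k, φ = (Algebra.ofId k (DualNumber k)).comp β) :
    Function.Injective β := by
  haveI : IsNoetherianRing B := Algebra.FiniteType.isNoetherianRing k B
  set m : Ideal B := RingHom.ker β.toRingHom with hm
  haveI hmp : m.IsPrime := RingHom.ker_isPrime _
  have hle : m ≤ m • m := by
    intro x hx
    by_contra hx2
    -- functional on `B ⧸ m²`
    let W : Submodule k B := (m • m).restrictScalars k
    have hv : W.mkQ x ≠ 0 := by
      rw [Ne, Submodule.mkQ_apply, Submodule.Quotient.mk_eq_zero]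
      exact hx2
    obtain ⟨ψ, hψ⟩ : ∃ ψ : Module.Dual k (B ⧸ W), ψ (W.mkQ x) ≠ 0 := by
      by_contra hcon
      push_neg at hcon
      exact hv ((Module.forall_dual_apply_eq_zero_iff k _).1 hcon)
    let l : B →ₗ[k] k := ψ ∘ₗ W.mkQ
    have hl : ∀ a b : B, β a = 0 → β b = 0 → l (a * b) = 0 := by
      intro a b ha hb
      have : a * b ∈ W := by
        change a * b ∈ m • m
        rw [smul_eq_mul]
        exact Ideal.mul_mem_mul ha hb
      have h0 : W.mkQ (a * b) = 0 := by
        rw [Submodule.mkQ_apply, Submodule.Quotient.mk_eq_zero]; exact this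
      change ψ (W.mkQ (a * b)) = 0
      rw [h0, map_zero]
    have h1 := congrArg (fun φ => (φ x).snd) (htan (tanHom β l hl))
    have hβx : β x = 0 := hx
    simp only [tanHom_snd, hβx, mul_zero, sub_zero, AlgHom.comp_apply] at h1
    apply hψ
    change l x = 0
    rw [h1]
    simp [Algebra.ofId_apply, TrivSqZeroExt.algebraMap_eq_inl]
  have hjac : m ≤ Ideal.jacobson ⊥ := by
    refine le_sInf fun J hJ => ?_
    exact (hprime m J hmp hJ.2.isPrime).le
  have hbot : m = ⊥ :=
    Submodule.eq_bot_of_le_smul_of_le_jacobson_bot m m (IsNoetherian.noetherian m) hle hjac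
  rw [← RingHom.coe_coe, ← AlgHom.toRingHom_eq_coe, RingHom.injective_iff_ker_eq_bot]
  exact hbot

/-- Consequently `algebraMap k B ∘ β = id`. -/
theorem algebraMap_comp_eq_id [Algebra.FiniteType k B] (β : B →ₐ[k] k)
    (hprime : ∀ p q : Ideal B, p.IsPrime → q.IsPrime → p = q)
    (htan : ∀ φ : B →ₐ[k] DualNumber k, φ = (Algebra.ofId k (DualNumber k)).comp β) (b : B) :
    algebraMap k B (β b) = b :=
  injective_of_tangent β hprime htan (by simp)

end Groth.Agent.H40.TanKer
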