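import Groth.Agent.H40.TorAmp
import Groth.Agent.H40.FlatCoker

/-!
# Tor-vanishing and flatness of cokernels for complexes of O_X-modules (helper40 library)
-/

set_option autoImplicit false
universe u
open CategoryTheory CategoryTheory.Limits AlgebraicGeometry HomologicalComplex
attribute [local instance] HasDerivedCategory.standard

namespace Groth.Agent.H40.TorAmp2

open Groth.Agent.H31 Groth.Agent.H40.LTensorDCoh Groth.Agent.H40.TorAmp Groth.Agent.H40.FlatCoker

variable {X : Scheme.{u}}

/-- `FlatMod.IsFlat` in terms of preservation of monomorphisms by `- ⊗ N`. -/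
theorem stalkFlat_iff_preservesMonomorphisms (N : X.Modules) :
    FlatMod.IsFlat N ↔ ((ModSite.tensorBi X.sheaf).flip.obj N).PreservesMonomorphisms := by
  rw [← isFlat_iff_preservesMonomorphisms]
  exact (Groth.Agent.H40.FlatBridge2.isFlat_iff_stalkFlat N).symm

/-- If `E^a` is flat and `H^{a-1}(E ⊗ G) = 0` for all `G`, any cokernel of `E^{a-1} ⟶ E^a` is flat. -/
theorem flat_cokernel_of_homology_zero (E : CochainComplex X.Modules ℤ) (a : ℤ)
    (hflat : FlatMod.IsFlat (E.X a))
    (h : ∀ G : X.Modules, IsZero ((((DCoh.tensorRightMod G).mapHomologicalComplex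
      (ComplexShape.up ℤ)).obj E).homology (a - 1)))
    {C : X.Modules} (π : E.X a ⟶ C) (wπ : E.d (a - 1) a ≫ π = 0)
    (hπ : IsColimit (CokernelCofork.ofπ π wπ)) : FlatMod.IsFlat C := by
  rw [stalkFlat_iff_preservesMonomorphisms] at hflat ⊢
  refine flat_cokernel_of_exact (T := ModSite.tensorBi X.sheaf) tensorLike_tensorBi
    (E.d (a - 2) (a - 1)) (E.d (a - 1) a) (E.d_comp_d _ _ _) π wπ hπ hflat ?_
  intro G w
  have hz := h G
  rw [← HomologicalComplex.exactAt_iff_isZero_homology,
    HomologicalComplex.exactAt_iff' _ (a - 2) (a - 1) a (by simp; omega) (by simp)] at hz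
  exact hz

end Groth.Agent.H40.TorAmp2
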