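import Groth.Agent.H40.TorAmp
import Groth.Agent.H31.KFlatSch
import Groth.Agent.H31.KFlatResolutionSite
import Mathlib.Algebra.Homology.DerivedCategory.Fractions
import Mathlib.Algebra.Homology.DerivedCategory.HomologySequence

/-!
# Tor-amplitude and distinguished triangles (helper40 library)
-/

set_option autoImplicit false
set_option backward.isDefEq.respectTransparency false
universe u
open CategoryTheory CategoryTheory.Limits AlgebraicGeometry HomologicalComplex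
  CategoryTheory.Pretriangulated CategoryTheory.Category
attribute [local instance] HasDerivedCategory.standard

namespace Groth.Agent.H40.TorTriangle

open Groth.Agent.H31 Groth.Agent.H40.LTensorDCoh Groth.Agent.H40.TorAmp

variable {X : Scheme.{u}}

theorem exists_isKFlat_resolution' (E : CochainComplex X.Modules ℤ) :
    ∃ (P : CochainComplex X.Modules ℤ) (q : P ⟶ E), DCoh.IsKFlat P ∧ QuasiIso q := by
  obtain ⟨P, r, hPK, -, hr, -⟩ :=
    Groth.Agent.H31.KFlat.exists_isKFlat_resolution (O := X.sheaf) E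
  exact ⟨P, r, hPK, hr⟩

/-- The third vertex of a distinguished triangle whose first two vertices are represented by
complexes `E₁`, `E₂` is represented by the cone of a morphism `g : P ⟶ E₂` where `P` is K-flat and
quasi-isomorphic to `E₁`. -/
theorem exists_cone_rep (T : Triangle (DCoh.D X)) (hT : T ∈ distTriang (DCoh.D X))
    (E₁ E₂ : CochainComplex X.Modules ℤ)
    (e₁ : DCoh.toD X E₁ ≅ T.obj₁) (e₂ : DCoh.toD X E₂ ≅ T.obj₂) :
    ∃ (P : CochainComplex X.Modules ℤ) (s : P ⟶ E₁) (g : P ⟶ E₂), DCoh.IsKFlat P ∧ QuasiIso s ∧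
      Nonempty (DCoh.toD X (CochainComplex.mappingCone g) ≅ T.obj₃) := by
  obtain ⟨E', s, hs, g, fac⟩ := DerivedCategory.right_fac (e₁.hom ≫ T.mor₁ ≫ e₂.inv)
  obtain ⟨P, r, hPK, hr⟩ := exists_isKFlat_resolution' E'
  have hs' : QuasiIso s := (DerivedCategory.isIso_Q_map_iff_quasiIso _ s).1 hs
  have hrs : QuasiIso (r ≫ s) := by
    have := hr
    have := hs'
    exact quasiIso_comp r s
  refine ⟨P, r ≫ s, r ≫ g, hPK, hrs, ?_⟩
  let Tc : Triangle (DCoh.D X) :=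
    DerivedCategory.Q.mapTriangle.obj (CochainComplex.mappingCone.triangle (r ≫ g))
  have hTc : Tc ∈ distTriang (DCoh.D X) :=
    (DerivedCategory.mem_distTriang_iff _).2 ⟨_, _, r ≫ g, ⟨Iso.refl _⟩⟩
  have hQ : IsIso (DerivedCategory.Q.map (r ≫ s)) :=
    (DerivedCategory.isIso_Q_map_iff_quasiIso _ _).2 hrs
  let a : Tc.obj₁ ⟶ T.obj₁ := DerivedCategory.Q.map (r ≫ s) ≫ e₁.hom
  let b : Tc.obj₂ ⟶ T.obj₂ := e₂.hom
  have fac' : e₁.hom ≫ T.mor₁ = inv (DerivedCategory.Q.map s) ≫ DerivedCategory.Q.map g ≫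
      e₂.hom := by
    rw [← assoc (inv _), ← fac]
    simp
  have comm : Tc.mor₁ ≫ b = a ≫ T.mor₁ := by
    show DerivedCategory.Q.map (r ≫ g) ≫ e₂.hom =
      (DerivedCategory.Q.map (r ≫ s) ≫ e₁.hom) ≫ T.mor₁
    rw [assoc, fac', Functor.map_comp, Functor.map_comp, assoc, assoc, IsIso.hom_inv_id_assoc]
  obtain ⟨c, hc1, hc2⟩ := complete_distinguished_triangle_morphism Tc T hTc hT a b comm
  let φ : Tc ⟶ T := { hom₁ := a, hom₂ := b, hom₃ := c, comm₁ := comm, comm₂ := hc1, comm₃ := hc2 }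
  have h1 : IsIso φ.hom₁ := by
    show IsIso (DerivedCategory.Q.map (r ≫ s) ≫ e₁.hom)
    infer_instance
  have h2 : IsIso φ.hom₂ := by
    show IsIso e₂.hom
    infer_instance
  have hc : IsIso c := isIso₃_of_isIso₁₂ φ hTc hT h1 h2
  exact ⟨@asIso _ _ _ _ c hc⟩

/-- Termwise `- ⊗ G` on complexes. -/
noncomputable abbrev Fc (G : X.Modules) : CochainComplex X.Modules ℤ ⥤ CochainComplex X.Modules ℤ :=
  (DCoh.tensorRightMod G).mapHomologicalComplex (ComplexShape.up ℤ)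

/-- Vanishing of `H^i(M ⊗^L G)` for the third vertex `M` of a distinguished triangle `K ⟶ L ⟶ M`
with `K`, `L` represented by K-flat complexes. -/
theorem isZero_HD_LTensor_obj₃ (T : Triangle (DCoh.D X)) (hT : T ∈ distTriang (DCoh.D X))
    (E₁ E₂ : CochainComplex X.Modules ℤ) (hE₁ : DCoh.IsKFlat E₁) (hE₂ : DCoh.IsKFlat E₂)
    (e₁ : DCoh.toD X E₁ ≅ T.obj₁) (e₂ : DCoh.toD X E₂ ≅ T.obj₂)
    (G : X.Modules) [DCoh.HasLTensorMod G] (i : ℤ)
    (h₂ : IsZero (((Fc G).obj E₂).homology i)) (h₁ : IsZero (((Fc G).obj E₁).homology (i + 1))) :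
    IsZero (DCoh.HD ((DCoh.LTensorMod G).obj T.obj₃) i) := by
  obtain ⟨P, s, g, hPK, hs, ⟨e₃⟩⟩ := exists_cone_rep T hT E₁ E₂ e₁ e₂
  have hcone : DCoh.IsKFlat (CochainComplex.mappingCone g) :=
    (KFlatSch.isKFlat_mappingCone g).1 hPK hE₂
  have hP : IsZero (((Fc G).obj P).homology (i + 1)) := by
    have hq : QuasiIso ((Fc G).map s) := quasiIso_map_tensorRight (O := X.sheaf) G s hs hPK hE₁
    have hqi : IsIso (homologyMap ((Fc G).map s) (i + 1)) :=
      (quasiIsoAt_iff_isIso_homologyMap _ _).1 (hq.quasiIsoAt (i + 1))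
    exact (@asIso _ _ _ _ _ hqi).isZero_iff.2 h₁
  have hz : IsZero ((CochainComplex.mappingCone ((Fc G).map g)).homology i) := by
    let Tc : Triangle (DCoh.D X) :=
      DerivedCategory.Q.mapTriangle.obj (CochainComplex.mappingCone.triangle ((Fc G).map g))
    have hTc : Tc ∈ distTriang (DCoh.D X) :=
      (DerivedCategory.mem_distTriang_iff _).2 ⟨_, _, (Fc G).map g, ⟨Iso.refl _⟩⟩
    have ex := DerivedCategory.HomologySequence.exact₃ Tc hTc i (i + 1) rfl
    have z1 : IsZero ((DerivedCategory.homologyFunctor X.Modules i).obj Tc.obj₂) :=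
      ((DerivedCategory.homologyFunctorFactors X.Modules i).app ((Fc G).obj E₂)).isZero_iff.2 h₂
    have z3 : IsZero ((DerivedCategory.homologyFunctor X.Modules (i + 1)).obj Tc.obj₁) :=
      ((DerivedCategory.homologyFunctorFactors X.Modules (i + 1)).app ((Fc G).obj P)).isZero_iff.2 hP
    have z2 := ex.isZero_of_both_zeros (z1.eq_of_src _ _) (z3.eq_of_tgt _ _)
    exact ((DerivedCategory.homologyFunctorFactors X.Modules i).app
      (CochainComplex.mappingCone ((Fc G).map g))).isZero_iff.1 z2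
  have hz' : IsZero (((Fc G).obj (CochainComplex.mappingCone g)).homology i) :=
    ((HomologicalComplex.homologyFunctor _ _ i).mapIso
      (CochainComplex.mappingCone.mapHomologicalComplexIso g (DCoh.tensorRightMod G))).isZero_iff.2 hz
  have h3 : IsZero (DCoh.HD ((DCoh.LTensorMod G).obj
      (DCoh.toD X (CochainComplex.mappingCone g))) i) :=
    (HDLTensorIso G _ hcone i).isZero_iff.2 hz'
  exact (((DerivedCategory.homologyFunctor X.Modules i).mapIso
    ((DCoh.LTensorMod G).mapIso e₃)).isZero_iff).1 h3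

/-- Part (1): flat amplitude of `K` in `[a+1,b+1]` and of `L` in `[a,b]` gives tor-amplitude of
`M` in `[a,b]`. -/
theorem torAmp_obj₃ (T : Triangle (DCoh.D X)) (hT : T ∈ distTriang (DCoh.D X)) (a b : ℤ)
    (h₁ : DCoh.HasFlatAmplitudeIn (a + 1) (b + 1) T.obj₁) (h₂ : DCoh.HasFlatAmplitudeIn a b T.obj₂) :
    DCoh.HasTorAmplitudeIn a b T.obj₃ := by
  obtain ⟨E₁, hv₁, hf₁, ⟨e₁⟩⟩ := h₁
  obtain ⟨E₂, hv₂, hf₂, ⟨e₂⟩⟩ := h₂
  intro G _ i hi
  have hK₁ : DCoh.IsKFlat E₁ :=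
    isKFlat_of_bounded_above_stalkFlat E₁ (b + 1) (fun q hq => hv₁ q (Or.inr hq)) hf₁
  have hK₂ : DCoh.IsKFlat E₂ :=
    isKFlat_of_bounded_above_stalkFlat E₂ b (fun q hq => hv₂ q (Or.inr hq)) hf₂
  exact isZero_HD_LTensor_obj₃ T hT E₁ E₂ hK₁ hK₂ e₁ e₂ G i
    (isZero_homology_map_of_isZero G E₂ i (hv₂ i hi))
    (isZero_homology_map_of_isZero G E₁ (i + 1) (hv₁ (i + 1) (by omega)))

/-- Flat amplitude and the shift by `-1`. -/
theorem hasFlatAmplitudeIn_shift_neg_one {a b : ℤ} {M : DCoh.D X}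
    (h : DCoh.HasFlatAmplitudeIn a b M) :
    DCoh.HasFlatAmplitudeIn (a + 1) (b + 1) (M⟦(-1 : ℤ)⟧) := by
  obtain ⟨E, hv, hf, ⟨e⟩⟩ := h
  refine ⟨E⟦(-1 : ℤ)⟧, fun i hi => ?_, fun i => ?_, ⟨?_⟩⟩
  · exact hv (i + -1) (by omega)
  · exact hf (i + -1)
  · exact (DerivedCategory.Q.commShiftIso (-1 : ℤ)).app E ≪≫
      (shiftFunctor (DCoh.D X) (-1 : ℤ)).mapIso e

theorem torAmp_triangle (T : Triangle (DCoh.D X)) (hT : T ∈ distTriang (DCoh.D X)) (a b : ℤ) :
    (DCoh.HasFlatAmplitudeIn (a + 1) (b + 1) T.obj₁ → DCoh.HasFlatAmplitudeIn a b T.obj₂ →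
      DCoh.HasTorAmplitudeIn a b T.obj₃) ∧
    (DCoh.HasFlatAmplitudeIn a b T.obj₁ → DCoh.HasFlatAmplitudeIn a b T.obj₃ →
      DCoh.HasTorAmplitudeIn a b T.obj₂) ∧
    (DCoh.HasFlatAmplitudeIn (a + 1) (b + 1) T.obj₂ → DCoh.HasFlatAmplitudeIn a b T.obj₃ →
      DCoh.HasTorAmplitudeIn (a + 1) (b + 1) T.obj₁) := by
  refine ⟨torAmp_obj₃ T hT a b, fun h₁ h₃ => ?_, fun h₂ h₃ => ?_⟩
  · exact torAmp_obj₃ T.invRotate (inv_rot_of_distTriang T hT) a b
      (hasFlatAmplitudeIn_shift_neg_one h₃) h₁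
  · exact torAmp_obj₃ T.invRotate.invRotate
      (inv_rot_of_distTriang _ (inv_rot_of_distTriang T hT)) (a + 1) (b + 1)
      (hasFlatAmplitudeIn_shift_neg_one h₂) (hasFlatAmplitudeIn_shift_neg_one h₃)

end Groth.Agent.H40.TorTriangle
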