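import Groth.Agent.H40.FpqcMap
import Groth.Agent.H40.FlatDesc2
import Groth.Agent.S4764
import Groth.Agent.S4758
import Groth.Agent.S0082
import Groth.Agent.H94.AffineLimit

/-!
# Limits of torsors (helper40)
-/

set_option autoImplicit false
universe u
open CategoryTheory CategoryTheory.Limits MonoidalCategory CartesianMonoidalCategory MonObj GrpObj AlgebraicGeometry

namespace Groth.Agent.H40.TorsLim

open Groth.Agent.H40.FpqcFam

section lift
variable {X : Scheme.{u}} {I : Type u} [SmallCategory I] (DT : I ⥤ Over X)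
  [∀ i, IsAffineHom (DT.obj i).hom]

theorem affine_lift (a b : WithTerminal I) (f : a ⟶ b) :
    IsAffineHom ((WithTerminal.liftFromOver.obj DT).map f) := by
  cases a with
  | of i =>
    cases b with
    | of j =>
      show IsAffineHom (DT.map f).left
      haveI : IsAffineHom ((DT.map f).left ≫ (DT.obj j).hom) := by
        rw [Over.w (DT.map f)]; infer_instance
      exact IsAffineHom.of_comp (DT.map f).left (DT.obj j).hom
    | star =>
      show IsAffineHom (DT.obj i).hom
      infer_instance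
  | star =>
    cases b with
    | of j => exact f.elim
    | star =>
      show IsAffineHom (𝟙 X)
      infer_instance

variable [IsCofiltered I] (cT : Cone DT) (hcT : IsLimit cT)

include hcT in
theorem props_limit : IsAffineHom cT.pt.hom ∧ ((∀ i, Flat (DT.obj i).hom) → Flat cT.pt.hom) ∧
    ((∀ i, Surjective (DT.obj i).hom) → Surjective cT.pt.hom) := by
  haveI := affine_lift DT
  haveI hAff : ∀ {i j : WithTerminal I} (f : i ⟶ j),
      IsAffineHom ((WithTerminal.liftFromOver.obj DT).map f) := fun f => affine_lift DT _ _ f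
  have hc := WithTerminal.isLimitEquiv.symm hcT
  refine ⟨?_, ?_, ?_⟩
  · exact isAffineHom_π_app (WithTerminal.liftFromOver.obj DT) _ hc WithTerminal.star
  · intro h
    refine Groth.Agent.S4764.result (WithTerminal.liftFromOver.obj DT) _ hc WithTerminal.star ?_
    intro j φ
    cases j with
    | of i => exact h i
    | star =>
      show Flat (𝟙 X)
      infer_instance
  · intro h
    refine (Groth.Agent.S4758.result (WithTerminal.liftFromOver.obj DT) _ hc
      WithTerminal.star).2 ?_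
    intro j φ
    cases j with
    | of i => exact h i
    | star =>
      show Surjective (𝟙 X)
      infer_instance

end lift

section hasLimit
variable {X : Scheme.{u}} {I : Type u} [SmallCategory I] [IsCofiltered I] (F : I ⥤ Over X)
  [∀ i, IsAffineHom (F.obj i).hom]

theorem hasLimit_over : HasLimit F := by
  haveI := affine_lift F
  haveI : HasLimit (WithTerminal.liftFromOver.obj F) :=
    Groth.Agent.H94.AffineLimit.hasLimit (WithTerminal.liftFromOver.obj F)
  exact Over.hasLimit_of_hasLimit_liftFromOver F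

end hasLimit

section partA
variable {S : Scheme.{u}} {I : Type u} [Category.{u} I]
  {Gs : I → Over S} [∀ i, GrpObj (Gs i)] {G : Over S} [GrpObj G]
  (p : ∀ i, G ⟶ Gs i) [∀ i, IsMonHom (p i)]
  (tr : ∀ {i j : I}, (i ⟶ j) → (Gs i ⟶ Gs j)) [∀ {i j : I} (φ : i ⟶ j), IsMonHom (tr φ)]
  (DT : I ⥤ Over S) (aT : ∀ i, AlgGrp.Action (Gs i) (DT.obj i))
  (hps : ∀ i, NonAbH1.IsPseudoTorsorSch (aT i))
  (hDT : ∀ {i j : I} (φ : i ⟶ j),
    AlgGrp.Action.IsEquivariant (aT i) ((aT j).restrict (tr φ)) (DT.map φ))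
  (cT : Cone DT) (hcT : IsLimit cT) (a : AlgGrp.Action G cT.pt)
  (ha : ∀ i, AlgGrp.Action.IsEquivariant a ((aT i).restrict (p i)) (cT.π.app i))
  (hGex : ∀ (W : Over S) (g : ∀ i, W ⟶ Gs i), (∀ {i j : I} (φ : i ⟶ j), g i ≫ tr φ = g j) →
    ∃ g₀ : W ⟶ G, ∀ i, g₀ ≫ p i = g i)
  (hGmono : ∀ (W : Over S) (g g' : W ⟶ G), (∀ i, g ≫ p i = g' ≫ p i) → g = g')

include ha in
theorem pt_ha (i : I) {W : Over S} (g : W ⟶ G) (t : W ⟶ cT.pt) :
    (lift g t ≫ a.act) ≫ cT.π.app i = lift (g ≫ p i) (t ≫ cT.π.app i) ≫ (aT i).act := by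
  have h := ha i
  unfold AlgGrp.Action.IsEquivariant at h
  rw [Category.assoc, h, AlgGrp.Action.restrict_act, lift_whiskerLeft_assoc,
    lift_whiskerRight_assoc]

include hDT in
theorem pt_hDT {i j : I} (φ : i ⟶ j) {W : Over S} (g : W ⟶ Gs i) (t : W ⟶ DT.obj i) :
    (lift g t ≫ (aT i).act) ≫ DT.map φ = lift (g ≫ tr φ) (t ≫ DT.map φ) ≫ (aT j).act := by
  have h := hDT φ
  unfold AlgGrp.Action.IsEquivariant at h
  rw [Category.assoc, h, AlgGrp.Action.restrict_act, lift_whiskerLeft_assoc,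
    lift_whiskerRight_assoc]

include hps hDT hcT ha hGex hGmono in
theorem pseudoTorsor_limit : NonAbH1.IsPseudoTorsorSch a := by
  obtain ⟨d, hddef⟩ : ∃ d : ∀ i, cT.pt ⊗ cT.pt ⟶ Gs i, ∀ i, d i =
      lift (fst cT.pt cT.pt ≫ cT.π.app i) (snd cT.pt cT.pt ≫ cT.π.app i) ≫ dv (hps i) :=
    ⟨_, fun i => rfl⟩
  have hd : ∀ {i j : I} (φ : i ⟶ j), d i ≫ tr φ = d j := by
    intro i j φ
    apply act_free (hps j) _ _ (snd cT.pt cT.pt ≫ cT.π.app j)
    rw [hddef j, dv_act]
    have e : snd cT.pt cT.pt ≫ cT.π.app j = (snd cT.pt cT.pt ≫ cT.π.app i) ≫ DT.map φ := by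
      rw [Category.assoc, cT.w]
    rw [e, ← pt_hDT tr DT aT hDT φ, hddef i, dv_act, Category.assoc, cT.w]
  obtain ⟨d₀, hd₀⟩ := hGex _ d hd
  refine ⟨⟨lift d₀ (snd _ _), ?_, ?_⟩⟩
  · rw [comp_lift, lift_snd]
    have h2 : lift a.act (snd G cT.pt) ≫ d₀ = fst G cT.pt := by
      apply hGmono
      intro i
      rw [Category.assoc, hd₀ i, hddef i, ← Category.assoc, comp_lift, lift_fst_assoc,
        lift_snd_assoc]
      have h1 : a.act ≫ cT.π.app i =
          lift (fst G cT.pt ≫ p i) (snd G cT.pt ≫ cT.π.app i) ≫ (aT i).act := by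
        have h0 := pt_ha p DT aT cT a ha i (fst G cT.pt) (snd G cT.pt)
        rwa [lift_fst_snd, Category.id_comp] at h0
      rw [h1, dv_of_act]
    rw [h2, lift_fst_snd]
  · rw [comp_lift, lift_snd]
    have h2 : lift d₀ (snd cT.pt cT.pt) ≫ a.act = fst cT.pt cT.pt := by
      apply hcT.hom_ext
      intro i
      rw [pt_ha p DT aT cT a ha, hd₀ i, hddef i, dv_act]
    rw [h2, lift_fst_snd]

end partA

end Groth.Agent.H40.TorsLim
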