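import Groth.Agent.H40.SubgrpLocus

/-!
# The unramified locus of a homomorphism of group schemes (helper40)

Stalkwise unramifiedness is invariant under arbitrary base change, hence (translation argument)
for a homomorphism `u : G ⟶ H` locally of finite type it only depends on the image in `S`.
-/

set_option autoImplicit false
universe u
open CategoryTheory CategoryTheory.Limits AlgebraicGeometry MorphismProperty MonoidalCategory
  CartesianMonoidalCategory MonObj

namespace Groth.Agent.H40.UnramLocus

open Groth.Agent.H40.SubgrpLocus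

section Sch

/-- base change of stalkwise unramifiedness along any cartesian square, iff version -/
theorem unram_stalk_iff_of_isPullback {X S X' S' : Scheme.{u}} {f : X ⟶ S} {g : S' ⟶ S}
    {f' : X' ⟶ S'} {g' : X' ⟶ X} (H : IsPullback g' f' f g) [LocallyOfFiniteType f] (x' : X') :
    (f'.stalkMap x').hom.FormallyUnramified ↔
      (f.stalkMap (g'.base x')).hom.FormallyUnramified := by
  refine ⟨unram_stalk_of_isPullback H x', fun h => ?_⟩
  have e : (pullback.fst f g).base (H.isoPullback.hom.base x') = g'.base x' := by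
    rw [← Scheme.Hom.comp_apply, H.isoPullback_hom_fst]
  have h3 := (Groth.Agent.H49.SmoothFibre.stalkMap_prop_congr_point @RingHom.FormallyUnramified
    f e).mpr h
  have h2 := (Groth.Agent.H48.unramified_stalk_baseChange_iff f g _).mpr h3
  have h1 := (Groth.Agent.H49.SmoothFibre.stalkMap_prop_comp_left
    RingHom.FormallyUnramified.respectsIso H.isoPullback.hom (pullback.snd f g) x').mpr h2
  exact (Groth.Agent.H49.SmoothFibre.stalkMap_prop_congr_hom @RingHom.FormallyUnramified
    H.isoPullback_hom_snd x').mp h1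

/-- formally unramified morphisms locally of finite type are detected on stalks -/
theorem formallyUnramified_iff_stalk {X Y : Scheme.{u}} (f : X ⟶ Y) [LocallyOfFiniteType f] :
    FormallyUnramified f ↔ ∀ x : X, (f.stalkMap x).hom.FormallyUnramified := by
  refine ⟨fun h x => FormallyUnramified.stalkMap f x, fun h => ?_⟩
  choose W hxW hW using fun x => (Groth.Agent.H48.unramified_nhd_iff f x).mpr (h x)
  refine IsZariskiLocalAtSource.of_iSup_eq_top (P := @FormallyUnramified) W ?_ hW
  rw [eq_top_iff]
  intro x _
  exact TopologicalSpace.Opens.mem_iSup.mpr ⟨x, hxW x⟩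

/-- the cartesian square of a base-changed morphism of `Over` categories -/
theorem isPullback_pullback_map {X X' : Scheme.{u}} (f : X' ⟶ X) {A B : Over X} (φ : A ⟶ B) :
    IsPullback (pullback.fst A.hom f) ((Over.pullback f).map φ).left φ.left
      (pullback.fst B.hom f) := by
  refine IsPullback.flip ?_
  refine IsPullback.of_right (h₁₂ := pullback.snd B.hom f) (v₁₃ := f) (h₂₂ := B.hom) ?_ ?_
    (IsPullback.of_hasPullback B.hom f).flip
  · have e1 : ((Over.pullback f).map φ).left ≫ pullback.snd B.hom f = pullback.snd A.hom f :=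
      pullback.lift_snd _ _ _
    rw [e1, Over.w φ]
    exact (IsPullback.of_hasPullback A.hom f).flip
  · exact pullback.lift_fst _ _ _

end Sch

section Grp

variable {S : Scheme.{u}} {G H : Over S} [GrpObj G] [GrpObj H] (u : G ⟶ H) [IsMonHom u]

/-- stalkwise unramifiedness of `u` is invariant under translation by `T`-points -/
theorem unram_translate [LocallyOfFiniteType u.left] {T : Over S} (g : T ⟶ G)
    (z : (T ⊗ G).left) :
    (u.left.stalkMap ((snd T G).left.base z)).hom.FormallyUnramified ↔
      (u.left.stalkMap (((fst T G ≫ g) * snd T G).left.base z)).hom.FormallyUnramified := by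
  have pt : ∀ {A B C : Over S} (a : A ⟶ B) (b : B ⟶ C) (c : A ⟶ C) (_ : a ≫ b = c) (z : A.left),
      b.left.base (a.left.base z) = c.left.base z := by
    intro A B C a b c h z
    subst h
    rfl
  have H0 : IsPullback (snd T G).left (T ◁ u).left u.left (snd T H).left :=
    (Groth.Agent.H40.MaxOpen.sq_snd' (G := T) u).map (Over.forget S)
  obtain ⟨τ, hτdef⟩ : ∃ τ : T ⊗ G ≅ T ⊗ G, τ = trans g := ⟨_, rfl⟩
  obtain ⟨σ, hσdef⟩ : ∃ σ : T ⊗ H ≅ T ⊗ H, σ = trans (g ≫ u) := ⟨_, rfl⟩
  have hτσ : τ.hom.left ≫ (T ◁ u).left = (T ◁ u).left ≫ σ.hom.left := by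
    rw [hτdef, hσdef, ← Over.comp_left, ← Over.comp_left, trans_whisker]
  have hτsnd : τ.hom ≫ snd T G = (fst T G ≫ g) * snd T G := by rw [hτdef]; exact trans_hom_snd g
  have hτiso : IsIso τ.hom.left := inferInstanceAs (IsIso ((Over.forget S).map τ.hom))
  have hσiso : IsIso σ.hom.left := inferInstanceAs (IsIso ((Over.forget S).map σ.hom))
  rw [← pt _ _ _ hτsnd, ← unram_stalk_iff_of_isPullback H0, ← unram_stalk_iff_of_isPullback H0,
    ← Groth.Agent.H49.SmoothFibre.stalkMap_prop_comp_left
      RingHom.FormallyUnramified.respectsIso τ.hom.left (T ◁ u).left z,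
    Groth.Agent.H49.SmoothFibre.stalkMap_prop_congr_hom @RingHom.FormallyUnramified hτσ z,
    Groth.Agent.H49.SmoothFibre.stalkMap_prop_comp_right
      RingHom.FormallyUnramified.respectsIso (T ◁ u).left σ.hom.left z]

/-- stalkwise unramifiedness of `u` at `x` only depends on the image of `x` in `S` -/
theorem unram_iff_unit [LocallyOfFiniteType u.left] (x : G.left) :
    (u.left.stalkMap x).hom.FormallyUnramified ↔
      (u.left.stalkMap (η[G].left.base (G.hom.base x))).hom.FormallyUnramified := by
  have pt : ∀ {A B C : Over S} (a : A ⟶ B) (b : B ⟶ C) (c : A ⟶ C) (_ : a ≫ b = c) (z : A.left),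
      b.left.base (a.left.base z) = c.left.base z := by
    intro A B C a b c h z
    subst h
    rfl
  obtain ⟨ζ, hζdef⟩ : ∃ ζ, ζ = G.left.fromSpecResidueField x := ⟨_, rfl⟩
  obtain ⟨t₀⟩ : Nonempty (Spec (G.left.residueField x)) := inferInstance
  have hζt : ζ.base t₀ = x := by
    rw [hζdef]
    exact Scheme.fromSpecResidueField_apply _ _
  obtain ⟨g, hgl⟩ : ∃ g : Over.mk (ζ ≫ G.hom) ⟶ G, g.left = ζ :=
    ⟨CategoryTheory.Over.homMk ζ rfl, rfl⟩
  have e1 : lift (𝟙 (Over.mk (ζ ≫ G.hom))) (toUnit _ ≫ η[G]) ≫ snd (Over.mk (ζ ≫ G.hom)) G =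
      toUnit _ ≫ η[G] := lift_snd _ _
  have e2 : lift (𝟙 (Over.mk (ζ ≫ G.hom))) (toUnit _ ≫ η[G]) ≫
      ((fst (Over.mk (ζ ≫ G.hom)) G ≫ g) * snd (Over.mk (ζ ≫ G.hom)) G) = g := by
    rw [MonObj.comp_mul, lift_fst_assoc, lift_snd, Category.id_comp]
    have : toUnit (Over.mk (ζ ≫ G.hom)) ≫ η[G] = (1 : Over.mk (ζ ≫ G.hom) ⟶ G) := rfl
    rw [this, _root_.mul_one]
  have h := unram_translate u g
    ((lift (𝟙 (Over.mk (ζ ≫ G.hom))) (toUnit _ ≫ η[G])).left.base t₀)
  rw [pt _ _ _ e1, pt _ _ _ e2] at h
  have p1 : (toUnit (Over.mk (ζ ≫ G.hom)) ≫ η[G]).left.base t₀ =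
      η[G].left.base (G.hom.base x) := by
    have p1' : (toUnit (Over.mk (ζ ≫ G.hom)) ≫ η[G]).left.base t₀ =
        η[G].left.base (G.hom.base (ζ.base t₀)) := rfl
    rw [p1', hζt]
  have p2 : g.left.base t₀ = x := by rw [hgl, hζt]
  rw [Groth.Agent.H49.SmoothFibre.stalkMap_prop_congr_point @RingHom.FormallyUnramified
      u.left p1,
    Groth.Agent.H49.SmoothFibre.stalkMap_prop_congr_point @RingHom.FormallyUnramified
      u.left p2] at h
  exact h.symm

/-- the fibre homomorphism `u_s` is unramified iff `u` is unramified at the unit point of the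
fibre at `s` -/
theorem fibre_unram_iff [LocallyOfFiniteType u.left] (s : S) :
    FormallyUnramified ((Over.pullback (S.fromSpecResidueField s)).map u).left ↔
      (u.left.stalkMap (η[G].left.base s)).hom.FormallyUnramified := by
  have Hsq := isPullback_pullback_map (S.fromSpecResidueField s) u
  have hlft : LocallyOfFiniteType ((Over.pullback (S.fromSpecResidueField s)).map u).left :=
    MorphismProperty.of_isPullback (P := @LocallyOfFiniteType) Hsq inferInstance
  rw [formallyUnramified_iff_stalk]
  have hηs : G.hom.base (η[G].left.base s) = s := by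
    have := congrArg (fun m => m.base s) (Over.w η[G])
    exact this
  constructor
  · intro h
    have hmem : η[G].left.base s ∈ Set.range (pullback.fst G.hom (S.fromSpecResidueField s)).base := by
      rw [Scheme.Pullback.range_fst, Scheme.range_fromSpecResidueField]
      exact hηs
    obtain ⟨x', hx'⟩ := hmem
    have := (unram_stalk_iff_of_isPullback Hsq x').mp (h x')
    exact (Groth.Agent.H49.SmoothFibre.stalkMap_prop_congr_point @RingHom.FormallyUnramified
      u.left hx').mp this
  · intro h x'
    rw [unram_stalk_iff_of_isPullback Hsq x', unram_iff_unit u]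
    have hx : G.hom.base ((pullback.fst G.hom (S.fromSpecResidueField s)).base x') = s := by
      have hmem : (pullback.fst G.hom (S.fromSpecResidueField s)).base x' ∈
          Set.range (pullback.fst G.hom (S.fromSpecResidueField s)).base := ⟨x', rfl⟩
      rw [Scheme.Pullback.range_fst, Scheme.range_fromSpecResidueField] at hmem
      exact hmem
    have e : η[G].left.base (G.hom.base ((pullback.fst G.hom (S.fromSpecResidueField s)).base x'))
        = η[G].left.base s := by rw [hx]
    exact (Groth.Agent.H49.SmoothFibre.stalkMap_prop_congr_point @RingHom.FormallyUnramified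
      u.left e).mpr h

end Grp

end Groth.Agent.H40.UnramLocus
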